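import Groth.Agent.LWQualLib.Basic
import Groth.Agent.GeomFFLib.SepTensor

/-!
# Absolute irreducibility of plane models of regular extensions, and its specialisation
-/

set_option autoImplicit false
set_option maxHeartbeats 1000000
set_option backward.isDefEq.respectTransparency false

noncomputable section

open Polynomial TensorProduct

namespace LWQual

universe u v

/-- Decomposition of a bivariate polynomial along a basis of the coefficients. -/
theorem exists_decomp {K E : Type*} [Field K] [Field E] [Algebra K E] [FiniteDimensional K E]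
    (P : E[X][X]) :
    let b := Module.finBasis K E
    ∃ Q : Fin (Module.finrank K E) → K[X][X], (∀ i j, P.coeff j = 0 → (Q i).coeff j = 0) ∧
      P = ∑ i, C (C (b i)) * mapP (algebraMap K E) (Q i) := by
  classical
  intro b
  let q : Fin (Module.finrank K E) → E[X] → K[X] := fun i p =>
    ∑ m ∈ p.support, monomial m (b.repr (p.coeff m) i)
  have hq : ∀ i p m, (q i p).coeff m = b.repr (p.coeff m) i := fun i p m => by
    simp only [q, finsetSum_coeff, coeff_monomial, Finset.sum_ite_eq']
    split_ifs with h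
    · rfl
    · rw [notMem_support_iff.1 h, map_zero]; rfl
  let Q : Fin (Module.finrank K E) → K[X][X] := fun i => ∑ j ∈ P.support, monomial j (q i (P.coeff j))
  have hQ : ∀ i j, (Q i).coeff j = q i (P.coeff j) := fun i j => by
    simp only [Q, finsetSum_coeff, coeff_monomial, Finset.sum_ite_eq']
    split_ifs with h
    · rfl
    · rw [notMem_support_iff.1 h]; ext m; simp [hq]
  refine ⟨Q, fun i j h => by rw [hQ, h]; ext m; simp [hq], ?_⟩
  ext j m
  rw [finsetSum_coeff, finsetSum_coeff]
  conv_lhs => rw [← b.sum_repr ((P.coeff j).coeff m)]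
  refine Finset.sum_congr rfl fun i _ => ?_
  rw [coeff_C_mul, coeff_mapP, coeff_C_mul, coeff_map, hQ, hq, Algebra.smul_def, mul_comm]

/-- The case of a finite extension of the constants. -/
theorem natDegree_eq_zero_or {K : Type u} {L : Type v} [Field K] [Field L] [Algebra K L]
    (hc : ∀ y : L, IsAlgebraic K y → y ∈ Set.range (algebraMap K L))
    (x y : L) (hx : Transcendental K x) {F : K[X][X]} (hF : F.Monic) (hroot : ev (algebraMap K L) x y F = 0)
    (hind : ∀ P : K[X][X], P.degree < F.degree → ev (algebraMap K L) x y P = 0 → P = 0)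
    (hgen : ∀ l : L, ∃ (q : K[X]) (P : K[X][X]), q ≠ 0 ∧ aeval x q * l = ev (algebraMap K L) x y P)
    {U V : K[X][X]} {h : K[X]} (hh : h ≠ 0) (hcert : U * F + V * derivative F = C h)
    (E : Type*) [Field E] [Algebra K E] [FiniteDimensional K E] {G₀ H₀ : E[X][X]} (hG₀ : G₀.Monic) (hH₀ : H₀.Monic)
    (hGH : G₀ * H₀ = mapP (algebraMap K E) F) : G₀.natDegree = 0 ∨ H₀.natDegree = 0 := by
  classical
  -- the tensor product
  let iR : L →ₐ[K] E ⊗[K] L := Algebra.TensorProduct.includeRight
  let iE : E →+* E ⊗[K] L := Algebra.TensorProduct.includeLeftRingHom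
  have hiK : iE.comp (algebraMap K E) = iR.toRingHom.comp (algebraMap K L) := RingHom.ext fun c => by
    show (algebraMap K E c) ⊗ₜ[K] (1 : L) = (1 : E) ⊗ₜ[K] algebraMap K L c
    rw [Algebra.algebraMap_eq_smul_one, Algebra.algebraMap_eq_smul_one, TensorProduct.smul_tmul]
  let θ : E[X][X] →+* E ⊗[K] L := ev iE (iR x) (iR y)
  have hθ : ∀ P : K[X][X], θ (mapP (algebraMap K E) P) = iR (ev (algebraMap K L) x y P) := fun P => by
    show ev iE (iR x) (iR y) (mapP _ P) = _
    rw [ev_mapP, hiK]
    exact (map_ev (algebraMap K L) iR.toRingHom x y P).symm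
  have hker : ∀ P : E[X][X], θ P = 0 → mapP (algebraMap K E) F ∣ P := by
    intro P hP
    have hFm : (mapP (algebraMap K E) F).Monic := hF.map _
    rw [← modByMonic_eq_zero_iff_dvd hFm]
    set R := P %ₘ mapP (algebraMap K E) F with hR
    have hR0 : θ R = 0 := by
      have h1 := congrArg θ (modByMonic_add_div P (mapP (algebraMap K E) F))
      rw [map_add, map_mul, hθ, hroot, map_zero, zero_mul, add_zero, hP] at h1
      exact h1
    have hRd : R.degree < F.degree := (degree_modByMonic_lt P (hF.map _)).trans_eq (hF.degree_map _)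
    obtain ⟨Q, hQ0, hQ⟩ := exists_decomp (K := K) R
    rw [hQ, map_sum] at hR0
    simp only [map_mul, hθ, θ, ev_CC] at hR0
    have hev : ∀ i, ev (algebraMap K L) x y (Q i) = 0 := by
      have hb := Algebra.TensorProduct.basis L (Module.finBasis K E)
      let e := Algebra.TensorProduct.comm K E L
      have h2 := congrArg e hR0
      rw [map_sum, map_zero] at h2
      have h3 : ∑ i, ev (algebraMap K L) x y (Q i) • Algebra.TensorProduct.basis L (Module.finBasis K E) i = 0 := by
        rw [← h2]
        refine Finset.sum_congr rfl fun i _ => ?_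
        simp [e, iR, iE, TensorProduct.smul_tmul']
      exact Fintype.linearIndependent_iff.1 (Algebra.TensorProduct.basis L (Module.finBasis K E)).linearIndependent _ h3
    rw [hQ]
    refine Finset.sum_eq_zero fun i _ => ?_
    have hdQ : (Q i).degree < F.degree := by
      rw [degree_eq_natDegree hF.ne_zero, degree_lt_iff_coeff_zero]
      intro m hm
      refine hQ0 i m (coeff_eq_zero_of_degree_lt (hRd.trans_le ?_))
      rw [degree_eq_natDegree hF.ne_zero]
      exact_mod_cast hm
    rw [hind (Q i) hdQ (hev i), map_zero, mul_zero]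
  -- reducedness
  have hsep : (((mapP (algebraMap K E) F)).map (algebraMap E[X] (RatFunc E))).Separable := by
    let ι := algebraMap E[X] (RatFunc E)
    have hne : ι (h.map (algebraMap K E)) ≠ 0 :=
      (map_ne_zero_iff _ (RatFunc.algebraMap_injective E)).2 (Polynomial.map_ne_zero hh)
    have h1 := congrArg (fun p => (mapP (algebraMap K E) p).map ι) hcert
    simp only [map_add, map_mul, Polynomial.map_add, Polynomial.map_mul, mapP_C, map_C] at h1
    rw [mapP_apply _ (derivative F), ← derivative_map, ← mapP_apply, ← derivative_map] at h1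
    refine ⟨C (ι (h.map (algebraMap K E)))⁻¹ * (mapP (algebraMap K E) U).map ι,
      C (ι (h.map (algebraMap K E)))⁻¹ * (mapP (algebraMap K E) V).map ι, ?_⟩
    rw [mul_assoc, mul_assoc, ← mul_add, h1, ← map_mul, inv_mul_cancel₀ hne, map_one]
  haveI : IsReduced (E ⊗[K] L) := by
    refine (isReduced_iff_pow_one_lt 2 one_lt_two).2 fun z hz => ?_
    have hfr : ∀ w : E ⊗[K] L, ∃ (q : K[X]) (P : E[X][X]), q ≠ 0 ∧ iR (aeval x q) * w = θ P := by
      intro w
      induction w using TensorProduct.induction_on with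
      | zero => exact ⟨1, 0, one_ne_zero, by simp⟩
      | tmul e l =>
        obtain ⟨q, P, hq, hP⟩ := hgen l
        refine ⟨q, C (C e) * mapP (algebraMap K E) P, hq, ?_⟩
        rw [map_mul, hθ, ← hP, map_mul]
        simp [θ, iE, iR, ev_CC]
      | add a b ha hb =>
        obtain ⟨q, P, hq, hP⟩ := ha
        obtain ⟨q', P', hq', hP'⟩ := hb
        refine ⟨q * q', mapP (algebraMap K E) (C q') * P + mapP (algebraMap K E) (C q) * P', mul_ne_zero hq hq', ?_⟩
        simp only [map_add, map_mul, hθ, ev_C, ← hP, ← hP']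
        simp only [← aeval_def]
        ring
    obtain ⟨q, P, hq, hP⟩ := hfr z
    have hFm : (mapP (algebraMap K E) F).Monic := hF.map _
    have hu : IsUnit (iR (aeval x q)) :=
      (isUnit_iff_ne_zero.2 fun h0 => hx ⟨q, hq, h0⟩).map iR
    have h2 : θ (P * P) = 0 := by
      rw [map_mul, ← hP, mul_mul_mul_comm, ← pow_two z, hz, mul_zero]
    have h3 := map_dvd (mapRingHom (algebraMap E[X] (RatFunc E))) (hker _ h2)
    rw [coe_mapRingHom, Polynomial.map_mul, ← pow_two] at h3
    have h4 := (hsep.squarefree.isRadical) 2 _ h3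
    rw [Polynomial.map_dvd_map _ (RatFunc.algebraMap_injective E) hFm] at h4
    obtain ⟨D, rfl⟩ := h4
    rw [map_mul, hθ, hroot, map_zero, zero_mul] at hP
    exact hu.mul_right_eq_zero.1 hP
  have hfield := Groth.Agent.GeomFFLib.isField_tensor_of_isReduced hc E
  haveI := hfield.isDomain
  have hmul : θ G₀ * θ H₀ = 0 := by rw [← map_mul, hGH, hθ, hroot, map_zero]
  have hd : G₀.natDegree + H₀.natDegree = F.natDegree := by
    rw [← hG₀.natDegree_mul hH₀, hGH]; exact hF.natDegree_map _
  rcases mul_eq_zero.1 hmul with h0 | h0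
  · right
    have := natDegree_le_of_dvd (hker _ h0) hG₀.ne_zero
    rw [show (mapP (algebraMap K E) F).natDegree = F.natDegree from hF.natDegree_map _] at this
    omega
  · left
    have := natDegree_le_of_dvd (hker _ h0) hH₀.ne_zero
    rw [show (mapP (algebraMap K E) F).natDegree = F.natDegree from hF.natDegree_map _] at this
    omega

/-- A monic plane equation of a regular extension stays irreducible over every algebraic extension
of the constants. -/
theorem irreducible_mapP {K : Type u} {L : Type v} [Field K] [Field L] [Algebra K L]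
    (hc : ∀ y : L, IsAlgebraic K y → y ∈ Set.range (algebraMap K L))
    (x y : L) (hx : Transcendental K x) {F : K[X][X]} (hF : F.Monic) (hroot : ev (algebraMap K L) x y F = 0)
    (hind : ∀ P : K[X][X], P.degree < F.degree → ev (algebraMap K L) x y P = 0 → P = 0)
    (hgen : ∀ l : L, ∃ (q : K[X]) (P : K[X][X]), q ≠ 0 ∧ aeval x q * l = ev (algebraMap K L) x y P)
    {U V : K[X][X]} {h : K[X]} (hh : h ≠ 0) (hcert : U * F + V * derivative F = C h)
    (E : Type*) [Field E] [Algebra K E] [Algebra.IsAlgebraic K E] :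
    Irreducible (mapP (algebraMap K E) F) := by
  classical
  have hn : 0 < F.natDegree := by
    rcases Nat.eq_zero_or_pos F.natDegree with h0 | h0
    · rw [hF.natDegree_eq_zero.1 h0, map_one] at hroot
      exact absurd hroot one_ne_zero
    · exact h0
  have hFE : (mapP (algebraMap K E) F).Monic := hF.map _
  have hdeg : (mapP (algebraMap K E) F).natDegree = F.natDegree := hF.natDegree_map _
  rw [hFE.irreducible_iff_natDegree]
  refine ⟨fun h1 => by rw [h1, natDegree_one] at hdeg; omega, fun G H hG hH hGH => ?_⟩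
  -- reduce to a finite extension
  let s : Finset E := (G.support ∪ H.support).biUnion fun j =>
    ((G.coeff j).support.image (G.coeff j).coeff) ∪ ((H.coeff j).support.image (H.coeff j).coeff)
  let E₀ := IntermediateField.adjoin K (s : Set E)
  haveI : FiniteDimensional K E₀ :=
    IntermediateField.finiteDimensional_adjoin fun a _ => Algebra.IsIntegral.isIntegral a
  have hlift : ∀ G' : E[X][X], G'.Monic → (∀ j ∈ G'.support, ∀ m ∈ (G'.coeff j).support, (G'.coeff j).coeff m ∈ s) →
      ∃ G₀ : E₀[X][X], G₀.Monic ∧ mapP (algebraMap E₀ E) G₀ = G' := by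
    intro G' hG' hs
    have h1 : G' ∈ Polynomial.lifts (mapRingHom (algebraMap E₀ E)) := by
      rw [lifts_iff_coeff_lifts]
      intro j
      show G'.coeff j ∈ Set.range _
      rw [← RingHom.coe_range, SetLike.mem_coe]
      have : G'.coeff j ∈ Polynomial.lifts (algebraMap E₀ E) := by
        rw [lifts_iff_coeff_lifts]
        intro m
        by_cases hm : (G'.coeff j).coeff m = 0
        · exact ⟨0, by rw [hm, map_zero]⟩
        · have hj : j ∈ G'.support := mem_support_iff.2 fun h0 => hm (by rw [h0, coeff_zero])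
          exact ⟨⟨_, IntermediateField.subset_adjoin _ _ (hs j hj m (mem_support_iff.2 hm))⟩, rfl⟩
      exact this
    obtain ⟨G₀, hG₀, -, hm₀⟩ := lifts_and_degree_eq_and_monic h1 hG'
    exact ⟨G₀, hm₀, hG₀⟩
  obtain ⟨G₀, hG₀, eG⟩ := hlift G hG fun j hj m hm => Finset.mem_biUnion.2
    ⟨j, Finset.mem_union_left _ hj, Finset.mem_union_left _ (Finset.mem_image_of_mem _ hm)⟩
  obtain ⟨H₀, hH₀, eH⟩ := hlift H hH fun j hj m hm => Finset.mem_biUnion.2
    ⟨j, Finset.mem_union_right _ hj, Finset.mem_union_right _ (Finset.mem_image_of_mem _ hm)⟩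
  rw [← eG, ← eH, ← map_mul, IsScalarTower.algebraMap_eq K E₀ E, ← mapP_mapP] at hGH
  replace hGH : G₀ * H₀ = mapP (algebraMap K E₀) F := mapP_injective (algebraMap E₀ E).injective hGH
  exact (natDegree_eq_zero_or hc x y hx hF hroot hind hgen hh hcert E₀ hG₀ hH₀ hGH).imp
    (fun h => by rw [← eG]; exact (hG₀.natDegree_map _).trans h)
    (fun h => by rw [← eH]; exact (hH₀.natDegree_map _).trans h)

/-- The monic polynomial with the given coefficients. -/
def gen {A : Type*} [CommRing A] (D i : ℕ) (v : Fin i × Fin (D + 1) → A) : A[X][X] :=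
  X ^ i + ∑ j : Fin i, C (∑ m : Fin (D + 1), C (v (j, m)) * X ^ (m : ℕ)) * X ^ (j : ℕ)

theorem gen_map {A B : Type*} [CommRing A] [CommRing B] (e : A →+* B) (D i : ℕ)
    (v : Fin i × Fin (D + 1) → A) : mapP e (gen D i v) = gen D i (e ∘ v) := by
  simp [gen, mapP, Polynomial.map_sum]

theorem gen_monic {A : Type*} [CommRing A] [Nontrivial A] (D i : ℕ) (v : Fin i × Fin (D + 1) → A) :
    (gen D i v).Monic ∧ (gen D i v).natDegree = i := by
  have hlt : (∑ j : Fin i, C (∑ m : Fin (D + 1), C (v (j, m)) * X ^ (m : ℕ)) * X ^ (j : ℕ) : A[X][X]).degree < i :=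
    degree_sum_fin_lt _
  refine ⟨monic_X_pow_add hlt, natDegree_eq_of_degree_eq_some ?_⟩
  rw [gen, degree_add_eq_left_of_degree_lt (hlt.trans_eq (degree_X_pow i).symm), degree_X_pow]

theorem gen_exists {A : Type*} [CommRing A] (D : ℕ) (G : A[X][X]) (hG : G.Monic)
    (hD : ∀ j, (G.coeff j).natDegree ≤ D) (i : ℕ) (hi : G.natDegree = i) :
    ∃ v : Fin i × Fin (D + 1) → A, gen D i v = G := by
  refine ⟨fun p => (G.coeff p.1).coeff p.2, ?_⟩
  conv_rhs => rw [hG.as_sum, hi]
  refine congrArg (X ^ i + ·) ?_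
  rw [Fin.sum_univ_eq_sum_range (fun j => C (∑ m : Fin (D + 1), C ((G.coeff j).coeff m) * X ^ (m : ℕ)) * X ^ j) i]
  refine Finset.sum_congr rfl fun j _ => ?_
  rw [Fin.sum_univ_eq_sum_range (fun m => C ((G.coeff j).coeff m) * X ^ m) (D + 1),
    ← as_sum_range_C_mul_X_pow' (G.coeff j) (Nat.lt_succ_of_le (hD j))]

/-- The ideal of coefficients of the generic factorisation. -/
theorem span_coeff_eq_zero_iff {A B : Type*} [CommRing A] [CommRing B] (P : A[X][X]) (e : A →+* B) :
    (∀ a ∈ Ideal.span {a | ∃ j m, (P.coeff j).coeff m = a}, e a = 0) ↔ mapP e P = 0 := by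
  constructor
  · intro h
    ext j m
    simp only [coeff_mapP, coeff_map, coeff_zero]
    exact h _ (Ideal.subset_span ⟨j, m, rfl⟩)
  · intro h a ha
    have : Ideal.span {a | ∃ j m, (P.coeff j).coeff m = a} ≤ RingHom.ker e := Ideal.span_le.2 (by
      rintro _ ⟨j, m, rfl⟩
      have := congrArg (fun p => (p.coeff j).coeff m) h
      simp only [coeff_mapP, coeff_map, coeff_zero] at this
      exact this)
    exact this ha

/-- Elimination: a family of equations without solution over an algebraic closure has none over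
most specialisations. -/
theorem exists_elim {R K : Type*} [CommRing R] [IsDomain R] [Field K] [Algebra R K] [IsFractionRing R K]
    {σ : Type*} [Finite σ] (P : (MvPolynomial σ R)[X][X])
    (h : ∀ v : σ → AlgebraicClosure K, mapP (MvPolynomial.eval₂Hom (algebraMap R (AlgebraicClosure K)) v) P ≠ 0) :
    ∃ r : R, r ≠ 0 ∧ ∀ (k : Type u) [Field k] (ψ : R →+* k) (v : σ → k),
      mapP (MvPolynomial.eval₂Hom ψ v) P = 0 → ψ r = 0 := by
  classical
  let I : Ideal (MvPolynomial σ R) := Ideal.span {a | ∃ j m, (P.coeff j).coeff m = a}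
  have htop : I.map (MvPolynomial.map (algebraMap R K)) = ⊤ := by
    rw [← Ideal.radical_eq_top, ← MvPolynomial.vanishingIdeal_zeroLocus_eq_radical (K := AlgebraicClosure K)]
    have hempty : MvPolynomial.zeroLocus (AlgebraicClosure K) (I.map (MvPolynomial.map (algebraMap R K))) = ∅ := by
      refine Set.eq_empty_iff_forall_notMem.2 fun v hv => h v ((span_coeff_eq_zero_iff P _).1 fun a ha => ?_)
      have h1 := hv _ (Ideal.mem_map_of_mem _ ha)
      rw [MvPolynomial.aeval_def, MvPolynomial.eval₂_map, ← IsScalarTower.algebraMap_eq] at h1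
      exact h1
    rw [hempty]
    exact eq_top_iff.2 fun p _ => MvPolynomial.mem_vanishingIdeal_iff.2 fun x hx => hx.elim
  letI : Algebra (MvPolynomial σ R) (MvPolynomial σ K) := MvPolynomial.algebraMvPolynomial
  have hne : ¬ Disjoint (↑((nonZeroDivisors R).map (MvPolynomial.C (σ := σ))) : Set (MvPolynomial σ R))
      (I : Set (MvPolynomial σ R)) := by
    intro hd
    exact (IsLocalization.map_algebraMap_ne_top_iff_disjoint
      ((nonZeroDivisors R).map (MvPolynomial.C (σ := σ))) (MvPolynomial σ K) I).2 hd (by exact htop)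
  obtain ⟨a, ⟨r, hr, rfl⟩, hrI⟩ := Set.not_disjoint_iff.1 hne
  refine ⟨r, nonZeroDivisors.ne_zero hr, fun k _ ψ v hv => ?_⟩
  have h1 := (span_coeff_eq_zero_iff P _).2 hv _ hrI
  rwa [MvPolynomial.eval₂Hom_C] at h1

/-- Irreducibility over an algebraically closed field spreads to the specialisations. -/
theorem exists_spec_irreducible {R K : Type*} [CommRing R] [IsDomain R] [Field K] [Algebra R K]
    [IsFractionRing R K] {F : R[X][X]} (hF : F.Monic)
    (hirr : Irreducible (mapP (algebraMap R (AlgebraicClosure K)) F)) :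
    ∃ r : R, r ≠ 0 ∧ ∀ (k : Type u) [Field k] (ψ : R →+* k), ψ r ≠ 0 → Irreducible (mapP ψ F) := by
  classical
  set n := F.natDegree with hn
  have hn0 : 0 < n := by
    rcases Nat.eq_zero_or_pos n with h0 | h0
    · rw [hn, hF.natDegree_eq_zero] at h0
      exact absurd (h0 ▸ hirr) (by rw [map_one]; exact not_irreducible_one)
    · exact h0
  obtain ⟨c, hc⟩ : ∃ c, ∀ j, (F.coeff j).natDegree ≤ c := by
    refine ⟨∑ j ∈ Finset.range (n + 1), (F.coeff j).natDegree, fun j => ?_⟩
    rcases lt_or_ge n j with h | h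
    · simp [coeff_eq_zero_of_natDegree_lt (hn ▸ h : F.natDegree < j)]
    · exact Finset.single_le_sum (f := fun j => (F.coeff j).natDegree) (fun _ _ => Nat.zero_le _)
        (Finset.mem_range.2 (Nat.lt_succ_of_le h))
  let D := c * n
  have key : ∀ i ∈ Finset.Ioo 0 n, ∃ r : R, r ≠ 0 ∧ ∀ (k : Type u) [Field k] (ψ : R →+* k),
      (∃ (v : Fin i × Fin (D + 1) → k) (w : Fin (n - i) × Fin (D + 1) → k), gen D i v * gen D (n - i) w = mapP ψ F) →
        ψ r = 0 := by
    intro i hi
    let P : (MvPolynomial ((Fin i × Fin (D + 1)) ⊕ (Fin (n - i) × Fin (D + 1))) R)[X][X] :=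
      gen D i (fun p => MvPolynomial.X (Sum.inl p)) * gen D (n - i) (fun p => MvPolynomial.X (Sum.inr p)) -
      mapP MvPolynomial.C F
    obtain ⟨r, hr0, hr⟩ := exists_elim.{u} (K := K) P fun v h0 => by
      simp only [P, map_sub, map_mul, gen_map, mapP_mapP, MvPolynomial.eval₂Hom_comp_C, sub_eq_zero] at h0
      rw [Finset.mem_Ioo] at hi
      rcases ((hF.map _).irreducible_iff_natDegree.1 hirr).2 _ _ (gen_monic D i _).1 (gen_monic D (n - i) _).1 h0
        with h2 | h2 <;> rw [(gen_monic _ _ _).2] at h2 <;> omega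
    refine ⟨r, hr0, fun k _ ψ ⟨v, w, hvw⟩ => hr k ψ (Sum.elim v w) ?_⟩
    simp only [P, map_sub, map_mul, gen_map, mapP_mapP, MvPolynomial.eval₂Hom_comp_C, sub_eq_zero]
    simpa only [Function.comp_def, MvPolynomial.eval₂Hom_X', Sum.elim_inl, Sum.elim_inr] using hvw
  choose r hr0 hr using key
  refine ⟨∏ i : Finset.Ioo 0 n, r i.1 i.2, Finset.prod_ne_zero_iff.2 fun i _ => hr0 i.1 i.2, fun k _ ψ hψ => ?_⟩
  have hmon : (mapP ψ F).Monic := hF.map _
  have hdeg : (mapP ψ F).natDegree = n := hF.natDegree_map _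
  rw [hmon.irreducible_iff_natDegree]
  refine ⟨fun h1 => by rw [h1, natDegree_one] at hdeg; omega, fun G H hG hH hGH => ?_⟩
  by_contra hcon
  push Not at hcon
  have hsum : G.natDegree + H.natDegree = n := by rw [← hG.natDegree_mul hH, hGH, hdeg]
  have hcψ : ∀ j, ((G * H).coeff j).natDegree ≤ c := fun j => by
    rw [hGH, coeff_mapP]; exact natDegree_map_le.trans (hc j)
  obtain ⟨v, hv⟩ := gen_exists D G hG (natDegree_coeff_le hG hH (hGH ▸ hdeg) hcψ) _ rfl
  obtain ⟨w, hw⟩ := gen_exists D H hH (natDegree_coeff_le hH hG (by rw [mul_comm, hGH, hdeg])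
    (by rw [mul_comm]; exact hcψ)) (n - G.natDegree) (by omega)
  have hi : G.natDegree ∈ Finset.Ioo 0 n := Finset.mem_Ioo.2 (by omega)
  apply hψ
  rw [map_prod]
  exact Finset.prod_eq_zero (Finset.mem_univ ⟨_, hi⟩) (hr _ hi k ψ ⟨v, w, by rw [hv, hw, hGH]⟩)

end LWQual
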