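import Groth.Agent.S13086
import Groth.Agent.ZetaAbs.FinField
import Mathlib

/-!
# Lower bounds for the abscissa of a zeta function from point counts
-/

set_option autoImplicit false
set_option maxHeartbeats 1000000

noncomputable section

universe u

open CategoryTheory AlgebraicGeometry

namespace LWQual

variable {X : Scheme.{u}} (f : X ⟶ Spec (CommRingCat.of (ULift.{u} ℤ))) [LocallyOfFiniteType f] [QuasiCompact f]
  (r : ℕ) (hr : topologicalKrullDim X ≤ r)

include f hr in
/-- There are finitely many cycles of a given norm. -/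
theorem finite_cycles (n : ℕ) (hn : 2 ≤ n) :
    Finite { α : X →₀ ℕ // (∀ x ∈ α.support, IsClosed ({x} : Set X)) ∧
      α.prod (fun x m => Nat.card (X.residueField x) ^ m) = n } := by
  classical
  let C := { α : X →₀ ℕ // (∀ x ∈ α.support, IsClosed ({x} : Set X)) ∧
    α.prod (fun x m => Nat.card (X.residueField x) ^ m) = n }
  set s : ℂ := (((r + 1 : ℕ) : ℝ) : ℂ) with hs
  have hsre : (r : ℝ) < s.re := by rw [hs, Complex.ofReal_re]; push_cast; linarith
  let w : ZetaAbs.Pt X → ℂ := fun x => (ZetaAbs.N x.1 : ℂ) ^ (-s)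
  have hnorm : ∀ x : ZetaAbs.Pt X, ‖w x‖ = (ZetaAbs.N x.1 : ℝ) ^ (-s.re) := fun x => by
    rw [Complex.norm_natCast_cpow_of_pos (lt_of_lt_of_le (by norm_num) x.2.2), Complex.neg_re]
  have hr0 : 0 < s.re := lt_of_le_of_lt (Nat.cast_nonneg r) hsre
  have hq : (2 : ℝ) ^ (-s.re) < 1 := Real.rpow_lt_one_of_one_lt_of_neg (by norm_num) (by linarith)
  have hw : ∀ x, ‖w x‖ ≤ (2 : ℝ) ^ (-s.re) := fun x => by
    rw [hnorm]
    exact Real.rpow_le_rpow_of_nonpos (by norm_num) (by exact_mod_cast x.2.2) (by linarith)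
  have hsum : Summable fun x => ‖w x‖ := by
    simp only [hnorm]
    exact ZetaAbs.summable_N f r hr hsre
  have hmon := ZetaAbs.summable_norm_mon hq hw hsum
  -- cycles of norm `n` are supported on points of positive norm
  have hsupp : ∀ α : C, ∀ x ∈ α.1.support, 2 ≤ ZetaAbs.N x := by
    intro α x hx
    have h0 : Nat.card (X.residueField x) ^ α.1 x ≠ 0 := fun h0 => by
      have := α.2.2
      rw [Finsupp.prod, Finset.prod_eq_zero hx h0] at this
      omega
    have h0' : Nat.card (X.residueField x) ≠ 0 := fun h1 => h0 (by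
      rw [h1, zero_pow (Finsupp.mem_support_iff.mp hx)])
    have h1 := ZetaAbs.N_ne_one x
    simp only [ZetaAbs.N] at h1 ⊢
    omega
  let e : C → (ZetaAbs.Pt X →₀ ℕ) := fun α => α.1.comapDomain Subtype.val Subtype.val_injective.injOn
  have he : ∀ α : C, (e α).mapDomain Subtype.val = α.1 := fun α =>
    Finsupp.mapDomain_comapDomain _ Subtype.val_injective _ fun x hx => ⟨⟨x, α.2.1 x hx, hsupp α x hx⟩, rfl⟩
  have hinj : Function.Injective e := fun α β h => Subtype.ext (by rw [← he α, ← he β, h])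
  have hval : ∀ α : C, ‖ZetaAbs.mon w (e α)‖ = (n : ℝ) ^ (-s.re) := by
    intro α
    have h1 : (e α).prod (fun x m => ZetaAbs.N x.1 ^ m) = n := by
      have h2 := α.2.2
      rw [← he α, Finsupp.prod_mapDomain_index_inj Subtype.val_injective] at h2
      exact h2
    simp only [ZetaAbs.mon, Finsupp.prod, norm_prod, norm_pow, hnorm]
    rw [← h1, Finsupp.prod, Nat.cast_prod, ← Real.finsetProd_rpow _ _ (fun i _ => by positivity)]
    refine Finset.prod_congr rfl fun x _ => ?_
    rw [Nat.cast_pow, ← Real.rpow_natCast, ← Real.rpow_natCast, ← Real.rpow_mul (Nat.cast_nonneg _),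
      ← Real.rpow_mul (Nat.cast_nonneg _), mul_comm]
  have h3 := hmon.comp_injective hinj
  simp only [Function.comp_def, hval] at h3
  exact Finite.of_summable_const (by positivity) h3

include f hr in
/-- There are finitely many closed points of a given norm, and each gives a cycle of that norm. -/
theorem card_norm_le (n : ℕ) (T : Finset (ZetaAbs.Pt X)) (hT : ∀ x ∈ T, ZetaAbs.N x.1 = n) :
    T.card ≤ Zeta.cycleNormCount X n := by
  classical
  rcases T.eq_empty_or_nonempty with rfl | ⟨x₀, hx₀⟩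
  · simp
  have hn : 2 ≤ n := hT x₀ hx₀ ▸ x₀.2.2
  let C := { α : X →₀ ℕ // (∀ x ∈ α.support, IsClosed ({x} : Set X)) ∧
    α.prod (fun x m => Nat.card (X.residueField x) ^ m) = n }
  have hfin : Finite C := finite_cycles f r hr n hn
  haveI := hfin
  let g : T → C := fun x => ⟨Finsupp.single x.1.1 1, fun y hy => by
    rw [Finsupp.support_single _ one_ne_zero, Finset.mem_singleton] at hy
    exact hy ▸ x.1.2.1, by
    exact (Finsupp.prod_single_index (h := fun x m => Nat.card (X.residueField x) ^ m) (pow_zero _)).trans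
      ((pow_one _).trans (hT x.1 x.2))⟩
  have hg : Function.Injective g := fun x y h => by
    have h' := congrArg Subtype.val h
    simp only [g] at h'
    exact Subtype.ext (Subtype.ext (Finsupp.single_left_injective one_ne_zero h'))
  have := Nat.card_le_card_of_injective g hg
  rwa [Nat.card_eq_finsetCard] at this

include f hr in
/-- Convergence of the zeta series bounds the sums of `N(x) ^ (-s)`. -/
theorem sum_rpow_le {s : ℝ} (hsum : LSeriesSummable (Zeta.arithCoeff X) (s : ℂ)) :
    ∃ C : ℝ, ∀ T : Finset (ZetaAbs.Pt X), ∑ x ∈ T, (ZetaAbs.N x.1 : ℝ) ^ (-s) ≤ C := by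
  classical
  have h := hsum.norm
  refine ⟨∑' n, ‖LSeries.term (Zeta.arithCoeff X) (s : ℂ) n‖, fun T => ?_⟩
  have hmaps : ∀ x ∈ T, ZetaAbs.N x.1 ∈ T.image fun x => ZetaAbs.N x.1 := fun x hx => Finset.mem_image_of_mem _ hx
  refine (Finset.sum_fiberwise_of_maps_to hmaps (fun x : ZetaAbs.Pt X => (ZetaAbs.N x.1 : ℝ) ^ (-s))).symm.le.trans ?_
  have hle : ∀ S : Finset ℕ, ∑ n ∈ S, ‖LSeries.term (Zeta.arithCoeff X) (s : ℂ) n‖ ≤
      ∑' n, ‖LSeries.term (Zeta.arithCoeff X) (s : ℂ) n‖ := fun S => h.sum_le_tsum S fun n _ => norm_nonneg _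
  refine le_trans (Finset.sum_le_sum (g := fun n => ‖LSeries.term (Zeta.arithCoeff X) (s : ℂ) n‖) fun n hn => ?_) (hle _)
  obtain ⟨x, -, hx⟩ := Finset.mem_image.1 hn
  have hn0 : n ≠ 0 := by have := x.2.2; omega
  have hterm : ‖LSeries.term (Zeta.arithCoeff X) (s : ℂ) n‖ =
      (Zeta.cycleNormCount X n : ℝ) * (n : ℝ) ^ (-s) := by
    rw [LSeries.term_of_ne_zero hn0, norm_div, Complex.norm_natCast_cpow_of_pos (Nat.pos_of_ne_zero hn0),
      Complex.ofReal_re, Real.rpow_neg (Nat.cast_nonneg _), div_eq_mul_inv,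
      show Zeta.arithCoeff X n = ((Zeta.cycleNormCount X n : ℕ) : ℂ) from rfl, Complex.norm_natCast]
  rw [hterm]
  calc ∑ x ∈ T.filter (fun x => ZetaAbs.N x.1 = n), (ZetaAbs.N x.1 : ℝ) ^ (-s)
      = ∑ _x ∈ T.filter (fun x => ZetaAbs.N x.1 = n), (n : ℝ) ^ (-s) :=
        Finset.sum_congr rfl fun y hy => by rw [(Finset.mem_filter.1 hy).2]
    _ = ((T.filter fun x => ZetaAbs.N x.1 = n).card : ℝ) * (n : ℝ) ^ (-s) := by
        rw [Finset.sum_const, nsmul_eq_mul]
    _ ≤ _ := mul_le_mul_of_nonneg_right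
        (by exact_mod_cast card_norm_le f r hr n _ fun y hy => (Finset.mem_filter.1 hy).2) (by positivity)

omit [QuasiCompact f] in
include f in
/-- The image of a point with values in a finite field is closed, with a finite residue field. -/
theorem point_mem_pt (F : Type u) [Field F] [Finite F] (g : Spec (CommRingCat.of F) ⟶ X) :
    IsClosed ({g (IsLocalRing.closedPoint F)} : Set X) ∧ 2 ≤ ZetaAbs.N (g (IsLocalRing.closedPoint F)) ∧
      ZetaAbs.N (g (IsLocalRing.closedPoint F)) ≤ Nat.card F := by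
  haveI : IsJacobsonRing (ULift.{u} ℤ) :=
    (isJacobsonRing_iso ULift.ringEquiv.symm).1 PointCount.isJacobsonRing_int
  haveI : JacobsonSpace (Spec (CommRingCat.of (ULift.{u} ℤ))) :=
    PrimeSpectrum.isJacobsonRing_iff_jacobsonSpace.1 inferInstance
  haveI : JacobsonSpace X := LocallyOfFiniteType.jacobsonSpace f
  haveI : LocallyOfFiniteType (g ≫ f) := by
    rw [← Spec.map_preimage (g ≫ f)]
    refine (HasRingHomProperty.Spec_iff (P := @LocallyOfFiniteType)).mpr ?_
    set φ := (Spec.preimage (g ≫ f)).hom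
    letI := φ.toAlgebra
    haveI : Module.Finite (ULift.{u} ℤ) F := Module.Finite.of_finite
    exact RingHom.finiteType_algebraMap.2 (inferInstance : Algebra.FiniteType (ULift.{u} ℤ) F)
  haveI : LocallyOfFiniteType g := locallyOfFiniteType_of_comp g f
  have hcl : IsClosed ({g (IsLocalRing.closedPoint F)} : Set X) :=
    g.closePoints_subset_preimage_closedPoints (IsLocalRing.isClosed_singleton_closedPoint F)
  let ψ : X.residueField (g (IsLocalRing.closedPoint F)) →+* F :=
    ((Scheme.SpecToEquivOfField F X) g).2.hom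
  have hinj := ψ.injective
  haveI : Finite (X.residueField (g (IsLocalRing.closedPoint F))) := Finite.of_injective ψ hinj
  refine ⟨hcl, Finite.one_lt_card, Nat.card_le_card_of_injective ψ hinj⟩

include f in
theorem card_points_le (F : Type u) [Field F] [Finite F] (hfin : Finite (Spec (CommRingCat.of F) ⟶ X)) :
    ∃ T : Finset (ZetaAbs.Pt X), (∀ x ∈ T, ZetaAbs.N x.1 ≤ Nat.card F) ∧
      Nat.card (Spec (CommRingCat.of F) ⟶ X) ≤ T.card * Nat.log 2 (Nat.card F) := by
  classical
  letI := Fintype.ofFinite (Spec (CommRingCat.of F) ⟶ X)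
  let pt : (Spec (CommRingCat.of F) ⟶ X) → ZetaAbs.Pt X := fun g =>
    ⟨g (IsLocalRing.closedPoint F), (point_mem_pt f F g).1, (point_mem_pt f F g).2.1⟩
  refine ⟨Finset.univ.image pt, fun x hx => ?_, ?_⟩
  · obtain ⟨g, -, rfl⟩ := Finset.mem_image.1 hx
    exact (point_mem_pt f F g).2.2
  rw [Nat.card_eq_fintype_card, ← Finset.card_univ]
  refine (Finset.card_le_mul_card_image Finset.univ (Nat.log 2 (Nat.card F)) fun x hx => ?_).trans_eq (mul_comm _ _)
  obtain ⟨g₀, -, rfl⟩ := Finset.mem_image.1 hx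
  set x := g₀ (IsLocalRing.closedPoint F) with hxdef
  set κ := X.residueField x
  -- points over a given one are embeddings of its residue field
  have hsurj : ∀ g : {g : Spec (CommRingCat.of F) ⟶ X // g (IsLocalRing.closedPoint F) = x},
      ∃ ψ : κ →+* F, Spec.map (CommRingCat.ofHom ψ) ≫ X.fromSpecResidueField x = g.1 := by
    rintro ⟨g, hg⟩
    obtain ⟨⟨y, ψ⟩, rfl⟩ := (Scheme.SpecToEquivOfField F X).symm.surjective g
    have hy : y = x := by
      rw [← hg]
      exact (Scheme.fromSpecResidueField_apply y _).symm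
    subst hy
    exact ⟨ψ.hom, rfl⟩
  choose Ψ hΨ using hsurj
  have hinj : Function.Injective Ψ := fun g g' h => Subtype.ext (by rw [← hΨ g, ← hΨ g', h])
  haveI hκ : Finite κ := Finite.of_injective _ (Ψ ⟨g₀, rfl⟩).injective
  obtain ⟨p, hp⟩ := CharP.exists F
  haveI := hp
  haveI : Fact p.Prime := ⟨CharP.char_is_prime F p⟩
  haveI : CharP κ p := (RingHom.charP_iff (Ψ ⟨g₀, rfl⟩) (RingHom.injective _) p).2 hp
  letI : Algebra (ZMod p) κ := ZMod.algebra κ p
  letI : Algebra (ZMod p) F := ZMod.algebra F p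
  haveI : Module.Finite (ZMod p) κ := Module.Finite.of_finite
  haveI : Module.Finite (ZMod p) F := Module.Finite.of_finite
  have hcard : Nat.card (κ →ₐ[ZMod p] F) ≤ Module.finrank (ZMod p) κ := card_algHom_le_finrank (ZMod p) κ F
  haveI : Finite {g : Spec (CommRingCat.of F) ⟶ X // g (IsLocalRing.closedPoint F) = x} := Subtype.finite
  have hle : Nat.card {g : Spec (CommRingCat.of F) ⟶ X // g (IsLocalRing.closedPoint F) = x} ≤
      Nat.card (κ →ₐ[ZMod p] F) := by
    refine Nat.card_le_card_of_injective (fun g => ({ Ψ g with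
      commutes' := fun r => RingHom.congr_fun (Subsingleton.elim
        ((Ψ g).comp (algebraMap (ZMod p) κ)) (algebraMap (ZMod p) F)) r } : κ →ₐ[ZMod p] F)) fun g g' h => hinj ?_
    exact RingHom.ext fun z => AlgHom.congr_fun h z
  have hdeg : Module.finrank (ZMod p) κ ≤ Nat.log 2 (Nat.card F) := by
    refine Nat.le_log_of_pow_le one_lt_two ?_
    have h1 : Nat.card κ = p ^ Module.finrank (ZMod p) κ := by
      rw [Module.natCard_eq_pow_finrank (K := ZMod p), Nat.card_zmod]
    exact (Nat.pow_le_pow_left (Fact.out : p.Prime).two_le _).trans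
      (h1.symm.le.trans (Nat.card_le_card_of_injective _ (Ψ ⟨g₀, rfl⟩).injective))
  refine le_trans ?_ (hle.trans (hcard.trans hdeg))
  rw [Nat.card_eq_fintype_card, Fintype.card_subtype]
  refine Finset.card_le_card fun g hg => ?_
  simp only [Finset.mem_filter, Finset.mem_univ, true_and] at hg ⊢
  exact congrArg Subtype.val hg

end LWQual
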