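import Groth.Agent.LWQualLib.FiniteField
import Groth.Agent.LWQualLib.ZetaLow
import Groth.Agent.MiscFlat6.TopDimCovers

/-!
# The abscissa of the zeta function of a scheme over a finite field
-/

set_option autoImplicit false
set_option maxHeartbeats 1000000
set_option backward.isDefEq.respectTransparency false

noncomputable section

universe u

open CategoryTheory AlgebraicGeometry Filter Topology

namespace LWQual

/-- An affine open and a prime carrying the dimension. -/
theorem exists_affine_prime {X : Scheme.{u}} {r : ℕ} (hr : topologicalKrullDim X = r) :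
    ∃ (U : X.Opens) (_ : IsAffineOpen U) (P : Ideal Γ(X, U)) (_ : P.IsPrime),
      ringKrullDim (Γ(X, U) ⧸ P) = r := by
  obtain ⟨p, hp⟩ := (Order.le_krullDim_iff (α := TopologicalSpace.IrreducibleCloseds X) (n := r)).mp hr.ge
  obtain ⟨x, hx⟩ := p.head.isIrreducible.nonempty
  obtain ⟨U, hU, hxU, -⟩ := exists_isAffineOpen_mem_and_subset (x := x) (U := ⊤) trivial
  have h1 : (r : WithBot ℕ∞) ≤ topologicalKrullDim (U : Set X) := hp ▸
    MiscFlat6.length_le_of_head_inter_open p U.isOpen ⟨x, hx, hxU⟩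
  haveI := hU.isOpenImmersion_fromSpec
  have hdimU : ringKrullDim Γ(X, U) = r := by
    rw [← PrimeSpectrum.topologicalKrullDim_eq_ringKrullDim]
    refine le_antisymm ?_ ?_
    · refine le_trans ?_ hr.le
      exact (hU.fromSpec.isOpenEmbedding.isInducing).topologicalKrullDim_le
    · refine h1.trans (le_of_eq ?_)
      have e : (U : Set X) ≃ₜ PrimeSpectrum Γ(X, U) :=
        ((hU.fromSpec.isOpenEmbedding.isEmbedding.toHomeomorph).trans
          (Homeomorph.setCongr hU.range_fromSpec)).symm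
      exact IsHomeomorph.topologicalKrullDim_eq _ e.isHomeomorph
  obtain ⟨l, hl⟩ := (Order.le_krullDim_iff (α := PrimeSpectrum Γ(X, U)) (n := r)).mp hdimU.ge
  refine ⟨U, hU, l.head.asIdeal, l.head.2, le_antisymm
    ((ringKrullDim_le_of_surjective _ Ideal.Quotient.mk_surjective).trans hdimU.le) ?_⟩
  have hle : ∀ i, l.head.asIdeal ≤ (l i).asIdeal := fun i =>
    l.monotone (Fin.zero_le i)
  let f : Fin (l.length + 1) → PrimeSpectrum (Γ(X, U) ⧸ l.head.asIdeal) := fun i =>
    ⟨(l i).asIdeal.map (Ideal.Quotient.mk _), Ideal.map_isPrime_of_surjective (H := (l i).2)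
      Ideal.Quotient.mk_surjective (by rw [Ideal.mk_ker]; exact hle i)⟩
  have hf : StrictMono f := fun i j hij => by
    refine lt_of_le_of_ne (Ideal.map_mono (l.monotone hij.le)) fun h => (l.strictMono hij).ne ?_
    have h' := congrArg (fun q : PrimeSpectrum _ => q.asIdeal.comap (Ideal.Quotient.mk l.head.asIdeal)) h
    simp only [f] at h'
    rw [Ideal.comap_map_of_surjective _ Ideal.Quotient.mk_surjective, Ideal.comap_map_of_surjective _
      Ideal.Quotient.mk_surjective, ← RingHom.ker_eq_comap_bot, Ideal.mk_ker, sup_of_le_left (hle i),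
      sup_of_le_left (hle j)] at h'
    exact PrimeSpectrum.ext h'
  exact hl ▸ Order.LTSeries.length_le_krullDim (LTSeries.mk l.length f hf)

/-- Points of a closed subscheme of an affine open give points of the scheme. -/
theorem card_hom_le {X : Scheme.{u}} {U : X.Opens} (hU : IsAffineOpen U) (P : Ideal Γ(X, U))
    (F : Type u) [Field F] [Finite (Spec (CommRingCat.of F) ⟶ X)] :
    Nat.card ((Γ(X, U) ⧸ P) →+* F) ≤ Nat.card (Spec (CommRingCat.of F) ⟶ X) := by
  haveI := hU.isOpenImmersion_fromSpec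
  refine Nat.card_le_card_of_injective
    (fun φ => Spec.map (CommRingCat.ofHom (φ.comp (Ideal.Quotient.mk P))) ≫ hU.fromSpec) fun φ φ' h => ?_
  rw [cancel_mono, Spec.map_inj] at h
  have h' := congrArg CommRingCat.Hom.hom h
  simp only [CommRingCat.hom_ofHom] at h'
  exact Ideal.Quotient.ringHom_ext h'

/-- A prime of an affine open of dimension `r` with finite characteristic forces the abscissa up to `r`. -/
theorem le_abscissa_of_prime {Y : Scheme.{u}} (g : Y ⟶ Spec (CommRingCat.of (ULift.{u} ℤ)))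
    [LocallyOfFiniteType g] [QuasiCompact g] (r : ℕ) (hr : topologicalKrullDim Y = r)
    {U : Y.Opens} (hU : IsAffineOpen U) (P : Ideal Γ(Y, U)) [P.IsPrime]
    (k : Type u) [Field k] [Finite k] [Algebra k (Γ(Y, U) ⧸ P)] [Algebra.FiniteType k (Γ(Y, U) ⧸ P)]
    (hdim : ringKrullDim (Γ(Y, U) ⧸ P) = r) :
    ((r : ℝ) : EReal) ≤ LSeries.abscissaOfAbsConv (Zeta.arithCoeff Y) := by
  classical
  by_contra hlt
  push Not at hlt
  -- a convergent exponent below the dimension
  obtain ⟨s, hs1, hs2⟩ : ∃ s : ℝ, LSeries.abscissaOfAbsConv (Zeta.arithCoeff Y) < (s : EReal) ∧ s < r := by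
    obtain ⟨q, h1, h2⟩ := EReal.exists_rat_btwn_of_lt hlt
    exact ⟨q, h1, by exact_mod_cast h2⟩
  have hsum : LSeriesSummable (Zeta.arithCoeff Y) (max s 0 : ℝ) := by
    refine LSeriesSummable_of_abscissaOfAbsConv_lt_re ?_
    rw [Complex.ofReal_re]
    exact hs1.trans_le (by exact_mod_cast le_max_left s 0)
  rcases Nat.eq_zero_or_pos r with rfl | hr0
  · -- dimension zero: a point gives infinitely many cycles
    obtain ⟨d, B, hd, hmany⟩ := exists_many_points k (Γ(Y, U) ⧸ P)
    obtain ⟨F, _, _, hNF, hfinA, hbig⟩ := hmany (⌈(2 * B) ^ 2⌉₊ + 2)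
    haveI := hfinA
    have hd0 : d = 0 := by
      rw [hdim] at hd
      exact_mod_cast hd.symm
    subst hd0
    rw [pow_zero, mul_one] at hbig
    have hq : ((⌈(2 * B) ^ 2⌉₊ + 2 : ℕ) : ℝ) ≤ Nat.card F := by exact_mod_cast hNF
    have hsq : 2 * B < Real.sqrt (Nat.card F) := by
      refine (le_abs_self _).trans_lt ?_
      rw [← Real.sqrt_sq_eq_abs]
      refine Real.sqrt_lt_sqrt (sq_nonneg _) (lt_of_lt_of_le ?_ hq)
      push_cast
      linarith [Nat.le_ceil ((2 * B) ^ 2)]
    have hB : B / Real.sqrt (Nat.card F) ≤ 1 / 2 := by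
      rw [div_le_iff₀ (Real.sqrt_pos.2 (by exact_mod_cast Nat.card_pos))]
      linarith
    have hne : Nonempty ((Γ(Y, U) ⧸ P) →+* F) := by
      by_contra he
      rw [not_nonempty_iff] at he
      rw [Nat.card_of_isEmpty, Nat.cast_zero, zero_add] at hbig
      linarith
    obtain ⟨φ⟩ := hne
    haveI := hU.isOpenImmersion_fromSpec
    obtain ⟨hcl, h2, -⟩ := point_mem_pt g F (Spec.map (CommRingCat.ofHom (φ.comp (Ideal.Quotient.mk P))) ≫ hU.fromSpec)
    set x := (Spec.map (CommRingCat.ofHom (φ.comp (Ideal.Quotient.mk P))) ≫ hU.fromSpec) (IsLocalRing.closedPoint F)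
    -- the multiples of one point
    have hge : ∀ m : ℕ, 1 ≤ Zeta.cycleNormCount Y (ZetaAbs.N x ^ (m + 1)) := fun m => by
      let C := { α : Y →₀ ℕ // (∀ y ∈ α.support, IsClosed ({y} : Set Y)) ∧
        α.prod (fun y m => Nat.card (Y.residueField y) ^ m) = ZetaAbs.N x ^ (m + 1) }
      have hC : Nat.card C ≠ 0 → 1 ≤ Zeta.cycleNormCount Y (ZetaAbs.N x ^ (m + 1)) := fun h =>
        Nat.one_le_iff_ne_zero.2 h
      refine hC (Nat.card_ne_zero.2 ⟨⟨⟨Finsupp.single x (m + 1), fun y hy => ?_, ?_⟩⟩, ?_⟩)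
      · rw [Finsupp.support_single _ (Nat.succ_ne_zero m), Finset.mem_singleton] at hy
        exact hy ▸ hcl
      · exact Finsupp.prod_single_index (h := fun y m => Nat.card (Y.residueField y) ^ m) (pow_zero _)
      · exact finite_cycles g 0 hr.le _ (le_trans h2 (Nat.le_self_pow (Nat.succ_ne_zero m) _))
    have hnot : ¬ LSeriesSummable (Zeta.arithCoeff Y) ((0 : ℝ) : ℂ) := by
      intro h0
      have h := h0.norm.comp_injective (i := fun m : ℕ => ZetaAbs.N x ^ (m + 1))
        ((Nat.pow_right_injective h2).comp (fun a b h => Nat.succ_injective h))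
      have h1 : Summable fun _ : ℕ => (1 : ℝ) := by
        refine Summable.of_nonneg_of_le (fun _ => zero_le_one) (fun m => ?_) h
        have hn0 : ZetaAbs.N x ^ (m + 1) ≠ 0 := pow_ne_zero _ (by omega)
        simp only [Function.comp_apply]
        rw [LSeries.term_of_ne_zero hn0, Complex.ofReal_zero, Complex.cpow_zero, div_one,
          show Zeta.arithCoeff Y (ZetaAbs.N x ^ (m + 1)) = ((Zeta.cycleNormCount Y (ZetaAbs.N x ^ (m + 1)) : ℕ) : ℂ)
            from rfl, Complex.norm_natCast]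
        exact_mod_cast hge m
      exact absurd (summable_const_iff _ |>.1 h1) one_ne_zero
    apply hnot
    rw [Nat.cast_zero] at hs2
    rwa [max_eq_right hs2.le] at hsum
  -- positive dimension
  set σ : ℝ := max s 0
  have hσ : σ < r := max_lt hs2 (by exact_mod_cast hr0)
  have hσ0 : 0 ≤ σ := le_max_right _ _
  obtain ⟨C, hC⟩ := sum_rpow_le g r hr.le hsum
  obtain ⟨d, B, hd, hmany⟩ := exists_many_points k (Γ(Y, U) ⧸ P)
  have hdr : d = r := by
    rw [hdim] at hd
    exact_mod_cast hd.symm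
  subst hdr
  -- `q ^ d` outgrows `log q * q ^ σ`
  set δ : ℝ := ((d : ℝ) - σ) / 2
  have hδ : 0 < δ := by simp only [δ]; linarith
  have hlim : Tendsto (fun q : ℕ => Real.log q / (q : ℝ) ^ (2 * δ)) atTop (𝓝 0) :=
    ((isLittleO_log_rpow_atTop (by linarith : 0 < 2 * δ)).tendsto_div_nhds_zero).comp tendsto_natCast_atTop_atTop
  have hev : ∀ᶠ q : ℕ in atTop, 4 * |C| / Real.log 2 * (Real.log q / (q : ℝ) ^ (2 * δ)) < 1 := by
    have := hlim.const_mul (4 * |C| / Real.log 2)
    rw [mul_zero] at this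
    exact this.eventually (eventually_lt_nhds zero_lt_one)
  obtain ⟨N₀, hN₀⟩ := eventually_atTop.1 hev
  obtain ⟨F, _, _, hNF, -, hbig⟩ := hmany (max N₀ (⌈(4 * B) ^ 2⌉₊ + 2))
  set q := Nat.card F
  have hq : N₀ ≤ q := (le_max_left _ _).trans hNF
  have hq2 : ((⌈(4 * B) ^ 2⌉₊ + 2 : ℕ) : ℝ) ≤ q := by exact_mod_cast (le_max_right _ _).trans hNF
  push_cast at hq2
  have hq0 : (0 : ℝ) < q := by linarith [Nat.le_ceil ((4 * B) ^ 2), sq_nonneg (4 * B)]
  have hsq : 4 * B < Real.sqrt q := by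
    refine (le_abs_self _).trans_lt ?_
    rw [← Real.sqrt_sq_eq_abs]
    exact Real.sqrt_lt_sqrt (sq_nonneg _) (by linarith [Nat.le_ceil ((4 * B) ^ 2)])
  haveI hfinY : Finite (Spec (CommRingCat.of F) ⟶ Y) := by
    obtain ⟨p, hp⟩ := CharP.exists F
    obtain ⟨D, p₀, hb⟩ := ZetaAbs.points_bound g d hr.le
    haveI := hp
    exact (hb F p).1
  obtain ⟨T, hT, hTcard⟩ := card_points_le g F hfinY
  have hA : (Nat.card ((Γ(Y, U) ⧸ P) →+* F) : ℝ) ≤ (T.card : ℝ) * Nat.log 2 q := by
    exact_mod_cast (card_hom_le hU P F).trans hTcard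
  have hTq : (T.card : ℝ) * (q : ℝ) ^ (-σ) ≤ C := by
    refine le_trans ?_ (hC T)
    rw [← nsmul_eq_mul, ← Finset.sum_const]
    refine Finset.sum_le_sum fun x hx => ?_
    exact Real.rpow_le_rpow_of_nonpos (by exact_mod_cast lt_of_lt_of_le (by norm_num) x.2.2)
      (by exact_mod_cast hT x hx) (by linarith)
  have hlog : (Nat.log 2 q : ℝ) ≤ Real.log q / Real.log 2 := by
    rw [le_div_iff₀ (Real.log_pos one_lt_two), ← Real.log_pow]
    refine Real.log_le_log (by positivity) ?_
    exact_mod_cast Nat.pow_log_le_self 2 (by intro h; rw [h] at hq0; simp at hq0)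
  have hmain : (q : ℝ) ^ d ≤ 2 * (|C| * (q : ℝ) ^ σ * (Real.log q / Real.log 2)) := by
    have hd' : B * (q : ℝ) ^ d / Real.sqrt q ≤ (q : ℝ) ^ d / 2 := by
      rw [div_le_iff₀ (Real.sqrt_pos.2 hq0)]
      have hB2 : B ≤ Real.sqrt q / 2 := by linarith [Real.sqrt_nonneg (q : ℝ)]
      calc B * (q : ℝ) ^ d ≤ Real.sqrt q / 2 * (q : ℝ) ^ d := mul_le_mul_of_nonneg_right hB2 (pow_nonneg hq0.le d)
        _ = (q : ℝ) ^ d / 2 * Real.sqrt q := by ring
    have hT' : (T.card : ℝ) ≤ |C| * (q : ℝ) ^ σ := by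
      rw [Real.rpow_neg hq0.le, ← div_eq_mul_inv, div_le_iff₀ (Real.rpow_pos_of_pos hq0 _)] at hTq
      exact hTq.trans (mul_le_mul_of_nonneg_right (le_abs_self C) (by positivity))
    have : (T.card : ℝ) * Nat.log 2 q ≤ |C| * (q : ℝ) ^ σ * (Real.log q / Real.log 2) :=
      mul_le_mul hT' hlog (by positivity) (by positivity)
    linarith
  have hqd : (q : ℝ) ^ d = (q : ℝ) ^ σ * (q : ℝ) ^ (2 * δ) := by
    rw [← Real.rpow_add hq0, ← Real.rpow_natCast]
    congr 1
    simp only [δ]; ring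
  have h1 := hN₀ q hq
  have hp : 0 < (q : ℝ) ^ (2 * δ) := Real.rpow_pos_of_pos hq0 _
  rw [← mul_div_assoc, div_lt_one hp] at h1
  have hσp : 0 < (q : ℝ) ^ σ := Real.rpow_pos_of_pos hq0 _
  rw [hqd] at hmain
  have hlog0 : 0 ≤ Real.log q / Real.log 2 :=
    div_nonneg (Real.log_nonneg (by linarith [Nat.le_ceil ((4 * B) ^ 2), sq_nonneg (4 * B)]))
      (Real.log_nonneg one_le_two)
  have h2 : (q : ℝ) ^ (2 * δ) ≤ 2 * (|C| * (Real.log q / Real.log 2)) :=
    le_of_mul_le_mul_left (by linarith) hσp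
  have h3 : 4 * |C| / Real.log 2 * Real.log q = 4 * (|C| * (Real.log q / Real.log 2)) := by ring
  rw [h3] at h1
  nlinarith [mul_nonneg (abs_nonneg C) hlog0]

/-- The abscissa of a scheme of finite type over a finite field is at least its dimension. -/
theorem le_abscissa_of_finiteField {k : Type u} [Field k] [Finite k] {Y : Scheme.{u}}
    (f : Y ⟶ Spec (CommRingCat.of k)) [LocallyOfFiniteType f] [QuasiCompact f] (r : ℕ)
    (hr : topologicalKrullDim Y = r) :
    ((r : ℝ) : EReal) ≤ LSeries.abscissaOfAbsConv (Zeta.arithCoeff Y) := by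
  haveI := ZetaAbs.lft_toInt f
  haveI := ZetaAbs.qc_toInt f
  obtain ⟨U, hU, P, hP, hdim⟩ := exists_affine_prime hr
  haveI := hP
  letI : Algebra k (Γ(Y, U) ⧸ P) := ((Ideal.Quotient.mk P).comp ((f.appLE ⊤ U (by simp)).hom.comp
    (Scheme.ΓSpecIso (CommRingCat.of k)).inv.hom)).toAlgebra
  haveI : Algebra.FiniteType k (Γ(Y, U) ⧸ P) := by
    rw [← RingHom.finiteType_algebraMap, RingHom.algebraMap_toAlgebra]
    exact RingHom.FiniteType.comp (RingHom.FiniteType.of_surjective _ Ideal.Quotient.mk_surjective)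
      ((f.finiteType_appLE (U := ⊤) (isAffineOpen_top _) hU (by simp)).comp
        (RingHom.FiniteType.of_surjective _ (Scheme.ΓSpecIso (CommRingCat.of k)).commRingCatIsoToRingEquiv.symm.surjective))
  exact le_abscissa_of_prime (f ≫ ZetaAbs.toInt k) r hr hU P k hdim

end LWQual
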