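import Groth.Agent.LWQualLib.Arith

/-!
# The abscissa of the zeta function of an arithmetic scheme with a component of characteristic zero
-/

set_option autoImplicit false
set_option maxHeartbeats 1000000
set_option backward.isDefEq.respectTransparency false

noncomputable section

universe u

open CategoryTheory AlgebraicGeometry NumberField IsDedekindDomain

namespace LWQual

/-- A prime of an affine open of dimension `r` of characteristic zero forces the abscissa up to `r`. -/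
theorem le_abscissa_of_charZero {Y : Scheme.{u}} (g : Y ⟶ Spec (CommRingCat.of (ULift.{u} ℤ)))
    [LocallyOfFiniteType g] [QuasiCompact g] (r : ℕ) (hr : topologicalKrullDim Y = r)
    {U : Y.Opens} (hU : IsAffineOpen U) (P : Ideal Γ(Y, U)) [P.IsPrime]
    [CharZero (Γ(Y, U) ⧸ P)] [Algebra.FiniteType ℤ (Γ(Y, U) ⧸ P)]
    (hdim : ringKrullDim (Γ(Y, U) ⧸ P) = r) :
    ((r : ℝ) : EReal) ≤ LSeries.abscissaOfAbsConv (Zeta.arithCoeff Y) := by
  classical
  obtain ⟨K, _, _, d, S, hS, hdimle, M, hM, hcard, hdisj⟩ := exists_many_maximal (Γ(Y, U) ⧸ P)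
  have hrd : (r : ℝ) ≤ d + 1 := by
    rw [hdim] at hdimle
    have : r ≤ d + 1 := by exact_mod_cast hdimle
    exact_mod_cast this
  by_contra hlt
  push Not at hlt
  obtain ⟨s, hs1, hs2⟩ : ∃ s : ℝ, LSeries.abscissaOfAbsConv (Zeta.arithCoeff Y) < (s : EReal) ∧ s < r := by
    obtain ⟨q, h1, h2⟩ := EReal.exists_rat_btwn_of_lt hlt
    exact ⟨q, h1, by exact_mod_cast h2⟩
  set σ : ℝ := max s 0 with hσdef
  have hsum : LSeriesSummable (Zeta.arithCoeff Y) (σ : ℝ) := by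
    refine LSeriesSummable_of_abscissaOfAbsConv_lt_re ?_
    rw [Complex.ofReal_re]
    exact hs1.trans_le (by exact_mod_cast le_max_left s 0)
  have hσ0 : 0 ≤ σ := le_max_right _ _
  have hσd : σ ≤ d + 1 := (max_le hs2.le (Nat.cast_nonneg r)).trans hrd
  obtain ⟨C, hC⟩ := sum_rpow_le g r hr.le hsum
  -- the closed point of a maximal ideal
  let mor : ∀ (m : Ideal (Γ(Y, U) ⧸ P)), Spec (CommRingCat.of ((Γ(Y, U) ⧸ P) ⧸ m)) ⟶ Y := fun m =>
    Spec.map (CommRingCat.ofHom ((Ideal.Quotient.mk m).comp (Ideal.Quotient.mk P))) ≫ hU.fromSpec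
  have hpt : ∀ (x : Σ p : (DegOne K \ S : Set (HeightOneSpectrum (𝓞 K))), {m // m ∈ M p}),
      ∃ y : ZetaAbs.Pt Y, ZetaAbs.N y.1 ≤ Ideal.absNorm x.1.1.asIdeal ∧
        ∃ q : PrimeSpectrum Γ(Y, U), q.asIdeal = x.2.1.comap (Ideal.Quotient.mk P) ∧ y.1 = hU.fromSpec q := by
    intro x
    obtain ⟨hmax, hc⟩ := hM x.1 x.2.1 x.2.2
    haveI := hmax
    letI : Field ((Γ(Y, U) ⧸ P) ⧸ x.2.1) := Ideal.Quotient.field _
    haveI : Finite ((Γ(Y, U) ⧸ P) ⧸ x.2.1) := Nat.finite_of_card_ne_zero (by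
      rw [hc]; exact Nat.ne_zero_of_lt (absNorm_ge_two K x.1.1))
    obtain ⟨h1, h2, h3⟩ := point_mem_pt g ((Γ(Y, U) ⧸ P) ⧸ x.2.1) (mor x.2.1)
    refine ⟨⟨_, h1, h2⟩, h3.trans hc.le,
      (Spec.map (CommRingCat.ofHom ((Ideal.Quotient.mk x.2.1).comp (Ideal.Quotient.mk P))))
        (IsLocalRing.closedPoint _), ?_, rfl⟩
    show Ideal.comap ((Ideal.Quotient.mk x.2.1).comp (Ideal.Quotient.mk P))
      (IsLocalRing.closedPoint ((Γ(Y, U) ⧸ P) ⧸ x.2.1)).asIdeal = _
    have hbot : (IsLocalRing.closedPoint ((Γ(Y, U) ⧸ P) ⧸ x.2.1)).asIdeal = ⊥ :=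
      IsLocalRing.maximalIdeal_eq_bot
    rw [hbot, ← RingHom.ker_eq_comap_bot, ← RingHom.comap_ker, Ideal.mk_ker]
  choose pt hptN q hq hptq using hpt
  haveI := hU.isOpenImmersion_fromSpec
  have hinj : Function.Injective pt := fun x y h => by
    have h1 : q x = q y := hU.fromSpec.isOpenEmbedding.injective (by rw [← hptq x, ← hptq y, h])
    have h2 : x.2.1 = y.2.1 := Ideal.comap_injective_of_surjective _ Ideal.Quotient.mk_surjective
      (by rw [← hq x, ← hq y, h1])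
    obtain ⟨x₁, x₂, hx⟩ := x
    obtain ⟨y₁, y₂, hy⟩ := y
    obtain rfl : x₂ = y₂ := h2
    obtain rfl := hdisj x₁ y₁ x₂ hx hy
    rfl
  refine not_summable_degOne K S hS (summable_of_sum_le (c := 2 * C) (fun p => by positivity) fun T => ?_)
  calc ∑ p ∈ T, (Ideal.absNorm p.1.asIdeal : ℝ)⁻¹
      ≤ ∑ p ∈ T, 2 * ∑ m : {m // m ∈ M p}, (ZetaAbs.N (pt ⟨p, m⟩).1 : ℝ) ^ (-σ) := by
        refine Finset.sum_le_sum fun p _ => ?_
        set n : ℝ := (Ideal.absNorm p.1.asIdeal : ℝ)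
        have hn : 1 ≤ n := by
          simp only [n]; exact_mod_cast (absNorm_ge_two K p.1).trans' one_le_two
        have h1 : ∑ _m : {m // m ∈ M p}, n ^ (-σ) ≤ ∑ m : {m // m ∈ M p}, (ZetaAbs.N (pt ⟨p, m⟩).1 : ℝ) ^ (-σ) :=
          Finset.sum_le_sum fun m _ => Real.rpow_le_rpow_of_nonpos
            (by exact_mod_cast Nat.zero_lt_of_lt (pt ⟨p, m⟩).2.2) (by simp only [n]; exact_mod_cast hptN ⟨p, m⟩) (by linarith)
        rw [Finset.sum_const, Finset.card_univ, Fintype.card_coe, nsmul_eq_mul] at h1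
        have h2 : n ^ d / 2 * n ^ (-σ) ≤ ((M p).card : ℝ) * n ^ (-σ) :=
          mul_le_mul_of_nonneg_right (hcard p) (Real.rpow_nonneg (by linarith) _)
        have h3 : n⁻¹ ≤ n ^ d * n ^ (-σ) := by
          rw [← Real.rpow_natCast, ← Real.rpow_add (by linarith), ← Real.rpow_neg_one]
          exact Real.rpow_le_rpow_of_exponent_le hn (by linarith)
        linarith
    _ = 2 * ∑ y ∈ (T.sigma fun p => (Finset.univ : Finset {m // m ∈ M p})).image pt, (ZetaAbs.N y.1 : ℝ) ^ (-σ) := by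
        rw [Finset.sum_image hinj.injOn, Finset.sum_sigma, Finset.mul_sum]
    _ ≤ _ := mul_le_mul_of_nonneg_left (hC _) two_pos.le

/-- The abscissa of an arithmetic scheme is at least its dimension. -/
theorem le_abscissa_of_int {Y : Scheme.{u}} (g : Y ⟶ Spec (CommRingCat.of (ULift.{u} ℤ)))
    [LocallyOfFiniteType g] [QuasiCompact g] (r : ℕ) (hr : topologicalKrullDim Y = r) :
    ((r : ℝ) : EReal) ≤ LSeries.abscissaOfAbsConv (Zeta.arithCoeff Y) := by
  obtain ⟨U, hU, P, hP, hdim⟩ := exists_affine_prime hr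
  haveI := hP
  have hft : ((Ideal.Quotient.mk P).comp ((g.appLE ⊤ U (by simp)).hom.comp
      ((Scheme.ΓSpecIso (CommRingCat.of (ULift.{u} ℤ))).inv.hom.comp ULift.ringEquiv.symm.toRingHom))).FiniteType :=
    RingHom.FiniteType.comp (RingHom.FiniteType.of_surjective _ Ideal.Quotient.mk_surjective)
      ((g.finiteType_appLE (U := ⊤) (isAffineOpen_top _) hU (by simp)).comp
        (RingHom.FiniteType.of_surjective _ ((Scheme.ΓSpecIso (CommRingCat.of (ULift.{u} ℤ))).commRingCatIsoToRingEquiv.symm.surjective.comp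
          ULift.ringEquiv.symm.surjective)))
  haveI : Algebra.FiniteType ℤ (Γ(Y, U) ⧸ P) := by
    rw [← RingHom.finiteType_algebraMap, RingHom.ext_int (algebraMap ℤ (Γ(Y, U) ⧸ P))]
    exact hft
  obtain ⟨p, hp⟩ := CharP.exists (Γ(Y, U) ⧸ P)
  haveI := hp
  rcases CharP.char_is_prime_or_zero (Γ(Y, U) ⧸ P) p with hpr | rfl
  · haveI : Fact p.Prime := ⟨hpr⟩
    letI : Algebra (ULift.{u} (ZMod p)) (Γ(Y, U) ⧸ P) :=
      ((ZMod.castHom (dvd_refl p) (Γ(Y, U) ⧸ P)).comp ULift.ringEquiv.toRingHom).toAlgebra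
    haveI : Algebra.FiniteType (ULift.{u} (ZMod p)) (Γ(Y, U) ⧸ P) := by
      rw [← RingHom.finiteType_algebraMap]
      refine RingHom.FiniteType.of_comp_finiteType (f := algebraMap ℤ (ULift.{u} (ZMod p))) ?_
      rw [RingHom.ext_int ((algebraMap (ULift.{u} (ZMod p)) (Γ(Y, U) ⧸ P)).comp _) (algebraMap ℤ _)]
      exact RingHom.finiteType_algebraMap.2 inferInstance
    exact le_abscissa_of_prime g r hr hU P (ULift.{u} (ZMod p)) hdim
  · haveI : CharZero (Γ(Y, U) ⧸ P) := CharP.charP_to_charZero _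
    exact le_abscissa_of_charZero g r hr hU P hdim

end LWQual
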