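import Groth.Agent.ZetaAbs.Euler
import Mathlib

/-!
# Degree-one primes of a number field are not summable with weight `1 / N`
-/

set_option autoImplicit false
set_option maxHeartbeats 1000000

noncomputable section

open Filter Topology NumberField IsDedekindDomain

namespace LWQual

variable (K : Type*) [Field K] [NumberField K]

/-- The primes of degree one. -/
def DegOne : Set (HeightOneSpectrum (𝓞 K)) := {P | (Ideal.absNorm P.asIdeal).Prime}

theorem absNorm_ge_two (P : HeightOneSpectrum (𝓞 K)) : 2 ≤ Ideal.absNorm P.asIdeal := by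
  have h1 : Ideal.absNorm P.asIdeal ≠ 0 := mt Ideal.absNorm_eq_zero_iff.1 P.ne_bot
  have h2 : Ideal.absNorm P.asIdeal ≠ 1 := mt Ideal.absNorm_eq_one_iff.1 P.isPrime.ne_top
  omega

theorem finite_above (q : ℕ) : {P : HeightOneSpectrum (𝓞 K) | Ideal.absNorm P.asIdeal ≤ q}.Finite := by
  have h : {I : Ideal (𝓞 K) | Ideal.absNorm I ≤ q}.Finite := Ideal.finite_setOfPred_absNorm_le q
  exact (h.preimage (f := fun P : HeightOneSpectrum (𝓞 K) => P.asIdeal) fun P _ Q _ h => HeightOneSpectrum.ext h)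

theorem summable_not_degOne : Summable fun P : ((DegOne K)ᶜ : Set (HeightOneSpectrum (𝓞 K))) =>
    (Ideal.absNorm P.1.asIdeal : ℝ)⁻¹ := by
  classical
  set d := Module.finrank ℚ K
  -- the rational prime below
  have hp : ∀ P : HeightOneSpectrum (𝓞 K), ∃ p m : ℕ, p.Prime ∧ Ideal.absNorm P.asIdeal = p ^ m ∧ (p : 𝓞 K) ∈ P.asIdeal := by
    intro P
    haveI := P.isMaximal
    letI : Field (𝓞 K ⧸ P.asIdeal) := Ideal.Quotient.field P.asIdeal
    haveI : Finite (𝓞 K ⧸ P.asIdeal) := Ideal.finiteQuotientOfFreeOfNeBot P.asIdeal P.ne_bot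
    letI := Fintype.ofFinite (𝓞 K ⧸ P.asIdeal)
    obtain ⟨p, hc⟩ := CharP.exists (𝓞 K ⧸ P.asIdeal)
    haveI := hc
    obtain ⟨m, hpr, hm⟩ := FiniteField.card (𝓞 K ⧸ P.asIdeal) p
    refine ⟨p, m, hpr, ?_, ?_⟩
    · rw [Ideal.absNorm_apply, Submodule.cardQuot_apply, Nat.card_eq_fintype_card, hm]
    · rw [← Ideal.Quotient.eq_zero_iff_mem, map_natCast, CharP.cast_eq_zero]
  choose p m hpr hN hmem using hp
  have hcount : ∀ (q : ℕ) (T : Finset (HeightOneSpectrum (𝓞 K))), q.Prime → (∀ P ∈ T, p P = q) → T.card ≤ d := by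
    intro q T hq hT
    have hdvd : (∏ P ∈ T, P.asIdeal) ∣ Ideal.span {(q : 𝓞 K)} := by
      refine Finset.prod_dvd_of_coprime (fun P _ Q _ hPQ => ?_) fun P hP => ?_
      · haveI := P.isMaximal
        haveI := Q.isMaximal
        exact Ideal.isCoprime_of_isMaximal fun h => hPQ (HeightOneSpectrum.ext h)
      · rw [Ideal.dvd_span_singleton, ← hT P hP]
        exact hmem P
    have h1 := map_dvd Ideal.absNorm hdvd
    rw [map_prod, Ideal.absNorm_span_singleton] at h1
    have hnq : (Algebra.norm ℤ (q : 𝓞 K)).natAbs = q ^ d := by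
      have : (q : 𝓞 K) = algebraMap ℤ (𝓞 K) q := by simp
      rw [this, Algebra.norm_algebraMap, NumberField.RingOfIntegers.rank, Int.natAbs_pow, Int.natAbs_natCast]
    rw [hnq] at h1
    have h2 : q ^ T.card ∣ q ^ d := by
      refine dvd_trans ?_ h1
      rw [← Finset.prod_const]
      refine Finset.prod_dvd_prod_of_dvd _ _ fun P hP => ?_
      rw [hN, hT P hP]
      refine dvd_pow_self q fun h0 => ?_
      have := absNorm_ge_two K P
      rw [hN, h0, pow_zero] at this
      omega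
    exact (Nat.pow_dvd_pow_iff_le_right hq.one_lt).1 h2
  refine summable_of_sum_le (c := (d : ℝ) * ∑' n : ℕ, ((n : ℝ) ^ 2)⁻¹) (fun P => by positivity) fun T => ?_
  have hmaps : ∀ P ∈ T, p P.1 ∈ T.image fun P => p P.1 := fun P hP => Finset.mem_image_of_mem _ hP
  have hfw := Finset.sum_fiberwise_of_maps_to hmaps
    (fun P : ((DegOne K)ᶜ : Set (HeightOneSpectrum (𝓞 K))) => (Ideal.absNorm P.1.asIdeal : ℝ)⁻¹)
  have htail : ∑ q ∈ T.image (fun P => p P.1), (d : ℝ) * ((q : ℝ) ^ 2)⁻¹ ≤ (d : ℝ) * ∑' n : ℕ, ((n : ℝ) ^ 2)⁻¹ := by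
    rw [← tsum_mul_left]
    exact ((Real.summable_nat_pow_inv.2 one_lt_two).mul_left _).sum_le_tsum _ fun _ _ => by positivity
  refine (le_of_eq hfw.symm).trans (le_trans (Finset.sum_le_sum fun q hq => ?_) htail)
  obtain ⟨P₀, -, rfl⟩ := Finset.mem_image.1 hq
  have hc : (T.filter fun P => p P.1 = p P₀.1).card ≤ d := by
    rw [← Finset.card_map (Function.Embedding.subtype _)]
    refine hcount (p P₀.1) _ (hpr _) fun P hP => ?_
    obtain ⟨Q, hQ, rfl⟩ := Finset.mem_map.1 hP
    exact (Finset.mem_filter.1 hQ).2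
  calc ∑ P ∈ T.filter (fun P => p P.1 = p P₀.1), (Ideal.absNorm P.1.asIdeal : ℝ)⁻¹
      ≤ ∑ _P ∈ T.filter (fun P => p P.1 = p P₀.1), ((p P₀.1 : ℝ) ^ 2)⁻¹ := by
        refine Finset.sum_le_sum fun P hP => ?_
        have hm2 : 2 ≤ m P.1 := by
          by_contra h
          have h2 := absNorm_ge_two K P.1
          rcases Nat.lt_or_ge (m P.1) 1 with h0 | h0
          · rw [hN, show m P.1 = 0 by omega, pow_zero] at h2; omega
          · refine P.2 ?_
            show (Ideal.absNorm P.1.asIdeal).Prime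
            rw [hN, show m P.1 = 1 by omega, pow_one]
            exact hpr _
        rw [hN, (Finset.mem_filter.1 hP).2, Nat.cast_pow]
        have h1 : (1 : ℝ) ≤ (p P₀.1 : ℝ) := by exact_mod_cast (hpr P₀.1).one_le
        exact inv_anti₀ (by positivity) (pow_le_pow_right₀ h1 hm2)
    _ ≤ (d : ℝ) * ((p P₀.1 : ℝ) ^ 2)⁻¹ := by
        rw [Finset.sum_const, nsmul_eq_mul]
        exact mul_le_mul_of_nonneg_right (by exact_mod_cast hc) (by positivity)

/-- The reciprocal norms of all primes are not summable. -/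
theorem not_summable_primes : ¬ Summable fun P : HeightOneSpectrum (𝓞 K) => (Ideal.absNorm P.asIdeal : ℝ)⁻¹ := by
  classical
  intro hS
  set B := Real.exp ((1 - (2 : ℝ)⁻¹)⁻¹ * ∑' P : HeightOneSpectrum (𝓞 K), (Ideal.absNorm P.asIdeal : ℝ)⁻¹)
  have key : ∀ s : ℝ, 1 < s → ‖dedekindZeta K s‖ ≤ B := by
    intro s hs
    let w : HeightOneSpectrum (𝓞 K) → ℂ := fun P => (Ideal.absNorm P.asIdeal : ℂ) ^ (-(s : ℂ))
    have hnorm : ∀ P, ‖w P‖ = (Ideal.absNorm P.asIdeal : ℝ) ^ (-s) := fun P => by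
      rw [Complex.norm_natCast_cpow_of_pos (lt_of_lt_of_le two_pos (absNorm_ge_two K P)), Complex.neg_re, Complex.ofReal_re]
    have hle : ∀ P, ‖w P‖ ≤ (Ideal.absNorm P.asIdeal : ℝ)⁻¹ := fun P => by
      rw [hnorm, ← Real.rpow_neg_one]
      exact Real.rpow_le_rpow_of_exponent_le (by exact_mod_cast (absNorm_ge_two K P).trans' one_le_two) (by linarith)
    have hw : ∀ P, ‖w P‖ ≤ (2 : ℝ)⁻¹ := fun P => (hle P).trans (inv_anti₀ two_pos (by exact_mod_cast absNorm_ge_two K P))
    have hsum : Summable fun P => ‖w P‖ := Summable.of_nonneg_of_le (fun _ => norm_nonneg _) hle hS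
    have hmon := ZetaAbs.summable_norm_mon (by norm_num) hw hsum
    have htot : ∑' α, ‖ZetaAbs.mon w α‖ ≤ B := by
      refine Real.tsum_le_of_sum_le (fun _ => norm_nonneg _) fun T => ?_
      let F := T.biUnion Finsupp.support
      obtain ⟨h1, h2, -⟩ := ZetaAbs.finite_euler w F fun i _ => (hw i).trans_lt (by norm_num)
      calc ∑ α ∈ T, ‖ZetaAbs.mon w α‖ = ∑ α ∈ T.subtype (fun α => α.support ⊆ F), ‖ZetaAbs.mon w α.1‖ :=
            (Finset.sum_subtype_of_mem (fun α => ‖ZetaAbs.mon w α‖)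
              fun α hα => Finset.subset_biUnion_of_mem Finsupp.support hα).symm
        _ ≤ ∑' α : {α : HeightOneSpectrum (𝓞 K) →₀ ℕ // α.support ⊆ F}, ‖ZetaAbs.mon w α.1‖ :=
            h1.sum_le_tsum _ fun _ _ => norm_nonneg _
        _ = ∏ i ∈ F, (1 - ‖w i‖)⁻¹ := h2
        _ ≤ ∏ i ∈ F, Real.exp ((1 - (2 : ℝ)⁻¹)⁻¹ * ‖w i‖) := by
            refine Finset.prod_le_prod (fun i _ => inv_nonneg.mpr (by linarith [hw i])) fun i _ => ?_
            have h3 : (0 : ℝ) < 1 - ‖w i‖ := by linarith [hw i]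
            calc (1 - ‖w i‖)⁻¹ = (1 - ‖w i‖)⁻¹ * ‖w i‖ + 1 := by field_simp; ring_nf
              _ ≤ (1 - (2 : ℝ)⁻¹)⁻¹ * ‖w i‖ + 1 := by
                  gcongr
                  all_goals linarith [hw i]
              _ ≤ _ := Real.add_one_le_exp _
        _ = Real.exp ((1 - (2 : ℝ)⁻¹)⁻¹ * ∑ i ∈ F, ‖w i‖) := by rw [← Real.exp_sum, Finset.mul_sum]
        _ ≤ B := by
            refine Real.exp_le_exp.mpr (mul_le_mul_of_nonneg_left ?_ (by norm_num))
            exact (Finset.sum_le_sum fun i _ => hle i).trans (hS.sum_le_tsum _ fun _ _ => by positivity)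
    -- ideals as exponent families
    let Φ : {I : Ideal (𝓞 K) // I ≠ ⊥} → (HeightOneSpectrum (𝓞 K) →₀ ℕ) := fun I =>
      Multiset.toFinsupp ((UniqueFactorizationMonoid.normalizedFactors I.1).pmap
        (fun P (hP : Prime P) => (⟨P, Ideal.isPrime_of_prime hP, hP.ne_zero⟩ : HeightOneSpectrum (𝓞 K)))
        fun P hP => UniqueFactorizationMonoid.prime_of_normalized_factor P hP)
    have hΦN : ∀ I, ‖ZetaAbs.mon w (Φ I)‖ = (Ideal.absNorm I.1 : ℝ) ^ (-s) := by
      intro I
      have h1 : (UniqueFactorizationMonoid.normalizedFactors I.1).prod = I.1 :=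
        associated_iff_eq.1 (UniqueFactorizationMonoid.prod_normalizedFactors I.2)
      conv_rhs => rw [← h1, map_multiset_prod, Nat.cast_multiset_prod, Multiset.map_map]
      simp only [ZetaAbs.mon, Finsupp.prod, norm_prod, norm_pow, hnorm]
      simp only [Φ, Multiset.toFinsupp_support, Multiset.toFinsupp_apply]
      rw [← Finset.prod_multiset_map_count, Multiset.map_pmap]
      dsimp only
      rw [Multiset.pmap_eq_map]
      exact Real.multiset_prod_map_rpow _ (fun a => (Ideal.absNorm a : ℝ)) (fun i _ => Nat.cast_nonneg _) _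
    have hΦi : Function.Injective Φ := by
      intro I J h
      apply Subtype.ext
      have h' := congrArg (fun α : HeightOneSpectrum (𝓞 K) →₀ ℕ =>
        ((Finsupp.toMultiset α).map fun P => P.asIdeal).prod) h
      simp only [Φ, Multiset.toFinsupp_toMultiset, Multiset.map_pmap] at h'
      rw [Multiset.pmap_eq_map, Multiset.pmap_eq_map, Multiset.map_id', Multiset.map_id'] at h'
      rwa [associated_iff_eq.1 (UniqueFactorizationMonoid.prod_normalizedFactors I.2),
        associated_iff_eq.1 (UniqueFactorizationMonoid.prod_normalizedFactors J.2)] at h'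
    have hsumI : Summable fun I : {I : Ideal (𝓞 K) // I ≠ ⊥} => (Ideal.absNorm I.1 : ℝ) ^ (-s) := by
      have := hmon.comp_injective hΦi
      simpa only [Function.comp_def, hΦN] using this
    have hI : ∑' I : {I : Ideal (𝓞 K) // I ≠ ⊥}, (Ideal.absNorm I.1 : ℝ) ^ (-s) ≤ B := by
      refine le_trans ?_ htot
      refine Summable.tsum_le_tsum_of_inj Φ hΦi (fun _ _ => norm_nonneg _) (fun I => (hΦN I).ge) hsumI hmon
    -- regroup by norm
    have hterm : ∀ n, ‖LSeries.term (fun n => (Nat.card {I : Ideal (𝓞 K) // Ideal.absNorm I = n} : ℂ)) (s : ℂ) n‖ =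
        ∑' I : ((fun I : {I : Ideal (𝓞 K) // I ≠ ⊥} => Ideal.absNorm I.1) ⁻¹' {n}), (Ideal.absNorm I.1.1 : ℝ) ^ (-s) := by
      intro n
      rcases eq_or_ne n 0 with rfl | hn
      · haveI : IsEmpty ((fun I : {I : Ideal (𝓞 K) // I ≠ ⊥} => Ideal.absNorm I.1) ⁻¹' {0}) :=
          ⟨fun I => I.1.2 (Ideal.absNorm_eq_zero_iff.1 I.2)⟩
        simp
      rw [LSeries.term_of_ne_zero hn, norm_div, Complex.norm_natCast,
        Complex.norm_natCast_cpow_of_pos (Nat.pos_of_ne_zero hn), Complex.ofReal_re,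
        tsum_congr (fun I : ((fun I : {I : Ideal (𝓞 K) // I ≠ ⊥} => Ideal.absNorm I.1) ⁻¹' {n}) => by
          rw [show Ideal.absNorm I.1.1 = n from I.2]),
        tsum_const, nsmul_eq_mul, Real.rpow_neg (Nat.cast_nonneg _), div_eq_mul_inv]
      congr 2
      exact Nat.card_congr
        { toFun := fun I => ⟨⟨I.1, fun h => hn (by rw [← I.2, h, Ideal.absNorm_bot])⟩, I.2⟩
          invFun := fun I => ⟨I.1.1, I.2⟩
          left_inv := fun _ => rfl
          right_inv := fun _ => rfl }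
    have hfib := hsumI.hasSum.tsum_fiberwise fun I : {I : Ideal (𝓞 K) // I ≠ ⊥} => Ideal.absNorm I.1
    have hfib' : HasSum (fun n => ‖LSeries.term (fun n => (Nat.card {I : Ideal (𝓞 K) // Ideal.absNorm I = n} : ℂ)) (s : ℂ) n‖)
        (∑' I : {I : Ideal (𝓞 K) // I ≠ ⊥}, (Ideal.absNorm I.1 : ℝ) ^ (-s)) := by
      simp only [hterm]; exact hfib
    exact (norm_tsum_le_tsum_norm hfib'.summable).trans (hfib'.tsum_eq.le.trans hI)
  have h1 := tendsto_sub_one_mul_dedekindZeta_nhdsGT K
  have h2 : Tendsto (fun s : ℝ => ((s : ℂ) - 1) * dedekindZeta K s) (𝓝[>] 1) (𝓝 0) := by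
    refine squeeze_zero_norm' (a := fun s : ℝ => |s - 1| * B) ?_ ?_
    · filter_upwards [self_mem_nhdsWithin] with s hs
      rw [norm_mul, ← Complex.ofReal_one, ← Complex.ofReal_sub, Complex.norm_real, Real.norm_eq_abs]
      exact mul_le_mul_of_nonneg_left (key s hs) (abs_nonneg _)
    · have : Tendsto (fun s : ℝ => |s - 1| * B) (𝓝 1) (𝓝 0) := by
        have hc : Continuous fun s : ℝ => |s - 1| * B := by fun_prop
        simpa using hc.tendsto 1
      exact this.mono_left nhdsWithin_le_nhds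
  exact dedekindZeta_residue_ne_zero K (by exact_mod_cast tendsto_nhds_unique h1 h2)

/-- The reciprocal norms of degree-one primes are not summable, even off a finite set. -/
theorem not_summable_degOne (S : Set (HeightOneSpectrum (𝓞 K))) (hS : S.Finite) :
    ¬ Summable fun P : (DegOne K \ S : Set (HeightOneSpectrum (𝓞 K))) => (Ideal.absNorm P.1.asIdeal : ℝ)⁻¹ := by
  intro h
  let f : HeightOneSpectrum (𝓞 K) → ℝ := fun P => (Ideal.absNorm P.asIdeal : ℝ)⁻¹
  have h1 : Summable (f ∘ ((↑) : (DegOne K \ S : Set (HeightOneSpectrum (𝓞 K))) → _)) := h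
  have h2 : Summable (f ∘ ((↑) : ((DegOne K)ᶜ : Set (HeightOneSpectrum (𝓞 K))) → _)) := summable_not_degOne K
  have h3 : Summable (f ∘ ((↑) : S → _)) := by
    haveI := hS.to_subtype
    exact Summable.of_finite
  rw [summable_subtype_iff_indicator] at h1 h2 h3
  refine not_summable_primes K (Summable.of_nonneg_of_le (fun P => by positivity) (fun P => ?_) ((h1.add h2).add h3))
  by_cases hd : P ∈ DegOne K
  · by_cases hs : P ∈ S
    · rw [Set.indicator_of_mem hs]
      have : 0 ≤ (DegOne K \ S).indicator f P := Set.indicator_nonneg (fun _ _ => by positivity) _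
      have : 0 ≤ ((DegOne K)ᶜ).indicator f P := Set.indicator_nonneg (fun _ _ => by positivity) _
      linarith
    · rw [Set.indicator_of_mem (show P ∈ DegOne K \ S from ⟨hd, hs⟩)]
      have : 0 ≤ ((DegOne K)ᶜ).indicator f P := Set.indicator_nonneg (fun _ _ => by positivity) _
      have : 0 ≤ S.indicator f P := Set.indicator_nonneg (fun _ _ => by positivity) _
      linarith
  · rw [Set.indicator_of_mem (show P ∈ (DegOne K)ᶜ from hd)]
    have : 0 ≤ (DegOne K \ S).indicator f P := Set.indicator_nonneg (fun _ _ => by positivity) _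
    have : 0 ≤ S.indicator f P := Set.indicator_nonneg (fun _ _ => by positivity) _
    linarith

end LWQual
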