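import Groth.Agent.LWQualLib.Abscissa
import Groth.Agent.LWQualLib.DegOne
import Groth.Agent.DimIneqLib.Basic

/-!
# Degree-one maximal ideals of an arithmetic domain of characteristic zero
-/

set_option autoImplicit false
set_option maxHeartbeats 2000000
set_option synthInstance.maxHeartbeats 100000
set_option backward.isDefEq.respectTransparency false

noncomputable section

universe u

open NumberField IsDedekindDomain Module

namespace LWQual

/-- The relative algebraic closure in a finitely generated extension is finite. -/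
theorem algebraicClosure_finite {k : Type*} {K : Type*} [Field k] [Field K] [Algebra k K]
    [Algebra.EssFiniteType k K] : FiniteDimensional k (algebraicClosure k K) := by
  obtain ⟨s, hs⟩ := exists_isTranscendenceBasis k K
  let x : s → K := Subtype.val
  let F := IntermediateField.adjoin k (Set.range x)
  have : Algebra.IsAlgebraic F K := hs.isAlgebraic_field
  have : Algebra.EssFiniteType F K := Algebra.EssFiniteType.of_comp k F K
  have : Module.Finite F K := Algebra.finite_of_essFiniteType_of_isAlgebraic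
  have hA : AlgebraicIndependent (algebraicClosure k K) x := hs.1.extendScalars _
  have key : ∀ t : Finset (algebraicClosure k K),
      LinearIndepOn k id (t : Set (algebraicClosure k K)) → t.card ≤ finrank F K := by
    intro t ht
    let v : t → K := fun i => ((i : algebraicClosure k K) : K)
    have hR : LinearIndependent (Algebra.adjoin k (Set.range x)) v := by
      rw [Fintype.linearIndependent_iff]
      intro c hc
      have hmem : ∀ i, ∃ P : MvPolynomial s k, MvPolynomial.aeval x P = (c i : K) := fun i => by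
        exact (SetLike.ext_iff.mp (Algebra.adjoin_range_eq_range_aeval k x) _).mp (c i).2
      choose P hP using hmem
      have hz : ∑ i : t, MvPolynomial.C (i : algebraicClosure k K) *
          MvPolynomial.map (algebraMap k (algebraicClosure k K)) (P i) = 0 := by
        apply hA
        simp only [map_sum, map_mul, map_zero, MvPolynomial.aeval_C, MvPolynomial.aeval_map_algebraMap]
        rw [← hc]
        refine Finset.sum_congr rfl fun i _ => ?_
        rw [hP i, Algebra.smul_def]
        exact mul_comm _ _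
      intro i
      have hPi : P i = 0 := by
        ext m
        have hm : ∑ j : t, (P j).coeff m • (j : algebraicClosure k K) = 0 := by
          have := congrArg (MvPolynomial.coeff m) hz
          simpa [MvPolynomial.coeff_sum, MvPolynomial.coeff_C_mul, MvPolynomial.coeff_map,
            Algebra.smul_def, mul_comm] using this
        simpa using Fintype.linearIndependent_iff.mp ht (fun j => (P j).coeff m) hm i
      apply Subtype.ext
      rw [← hP i, hPi]
      simp
    have hF : LinearIndependent F v := by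
      open scoped IntermediateField.algebraAdjoinAdjoin in
      exact (LinearIndependent.iff_fractionRing (Algebra.adjoin k (Set.range x)) F).mp hR
    simpa using hF.fintype_card_le_finrank
  exact Module.rank_lt_aleph0_iff.mp
    (lt_of_le_of_lt (rank_le key) (Cardinal.natCast_lt_aleph0))

/-- The algebra structure over `ULift ℤ`. -/
@[reducible] def uliftIntAlgebra (B : Type u) [CommRing B] : Algebra (ULift.{u} ℤ) B where
  smul := fun r x => r.down • x
  algebraMap := (Int.castRingHom B).comp ULift.ringEquiv.toRingHom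
  commutes' := fun r x => mul_comm _ _
  smul_def' := fun r x => by
    show r.down • x = _
    simp [zsmul_eq_mul, ULift.ringEquiv]

/-- An arithmetic domain of characteristic zero has many maximal ideals over primes of degree one. -/
theorem exists_many_maximal_aux (A L : Type u) [CommRing A] [IsDomain A] [CharZero A] [Algebra.FiniteType ℤ A]
    [Field L] [Algebra A L] [IsFractionRing A L] :
    ∃ (K : Type u) (_ : Field K) (_ : NumberField K) (d : ℕ) (S : Set (HeightOneSpectrum (𝓞 K))),
      S.Finite ∧ ringKrullDim A ≤ ((d + 1 : ℕ) : WithBot ℕ∞) ∧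
      ∃ M : (DegOne K \ S : Set (HeightOneSpectrum (𝓞 K))) → Finset (Ideal A),
        (∀ P, ∀ m ∈ M P, m.IsMaximal ∧ Nat.card (A ⧸ m) = Ideal.absNorm P.1.asIdeal) ∧
        (∀ P, (Ideal.absNorm P.1.asIdeal : ℝ) ^ d / 2 ≤ (M P).card) ∧
        ∀ P Q m, m ∈ M P → m ∈ M Q → P = Q := by
  classical
  haveI : CharZero L := charZero_of_injective_algebraMap (IsFractionRing.injective A L)
  haveI : Algebra.EssFiniteType A L := Algebra.EssFiniteType.of_isLocalization L (nonZeroDivisors A)
  haveI : Algebra.EssFiniteType ℤ L := Algebra.EssFiniteType.comp ℤ A L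
  haveI : Algebra.EssFiniteType ℚ L := Algebra.EssFiniteType.of_comp ℤ ℚ L
  haveI hKfin : FiniteDimensional ℚ (algebraicClosure ℚ L) := algebraicClosure_finite
  haveI halg : Algebra.IsAlgebraic ℚ (algebraicClosure ℚ L) := algebraicClosure.isAlgebraic ℚ L
  let K := algebraicClosure ℚ L
  haveI : CharZero K := charZero_of_injective_algebraMap (algebraMap ℚ K).injective
  haveI : NumberField K :=
    { to_charZero := inferInstance
      to_finiteDimensional := by convert hKfin }
  obtain ⟨s, hs, hsep⟩ := exists_isTranscendenceBasis_and_isSeparable_of_perfectField ℚ L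
  set d := s.card with hd
  let t : Fin d → L := fun i => (s.equivFin.symm i : L)
  have hrange : Set.range t = (s : Set L) := by
    ext z
    constructor
    · rintro ⟨i, rfl⟩; exact (s.equivFin.symm i).2
    · intro hz; exact ⟨s.equivFin ⟨z, hz⟩, by simp [t]⟩
  have ht : AlgebraicIndependent K t :=
    (hs.1.comp _ s.equivFin.symm.injective).extendScalars _
  haveI : Algebra.IsSeparable (IntermediateField.adjoin K (Set.range t)) L := by
    have hle : IntermediateField.adjoin ℚ (s : Set L) ≤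
        (IntermediateField.adjoin K (Set.range t)).restrictScalars ℚ := by
      rw [IntermediateField.adjoin_le_iff, ← hrange]
      exact IntermediateField.subset_adjoin _ _
    letI := (IntermediateField.inclusion hle).toRingHom.toAlgebra
    haveI : IsScalarTower (IntermediateField.adjoin ℚ (s : Set L))
        ((IntermediateField.adjoin K (Set.range t)).restrictScalars ℚ) L :=
      IsScalarTower.of_algebraMap_eq fun _ => rfl
    exact ⟨fun z => IsSeparable.tower_top ((IntermediateField.adjoin K (Set.range t)).restrictScalars ℚ)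
      (Algebra.IsSeparable.isSeparable (IntermediateField.adjoin ℚ (s : Set L)) z)⟩
  have hc : ∀ y : L, IsAlgebraic K y → y ∈ Set.range (algebraMap K L) := fun y hy =>
    ⟨⟨y, mem_algebraicClosure_iff.2 (IsAlgebraic.restrictScalars ℚ hy)⟩, rfl⟩
  obtain ⟨XA, hXA⟩ := (inferInstance : Algebra.FiniteType ℤ A).out
  let j : A →+* L := algebraMap A L
  let A' : Subalgebra (𝓞 K) L := Algebra.adjoin (𝓞 K) ((XA.image j : Finset L) : Set L)
  have hjA : ∀ x : A, j x ∈ A' := fun x => by
    have hx : x ∈ Algebra.adjoin ℤ (XA : Set A) := hXA ▸ Algebra.mem_top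
    induction hx using Algebra.adjoin_induction with
    | mem v hv => exact Algebra.subset_adjoin (Finset.mem_coe.2 (Finset.mem_image_of_mem _ hv))
    | algebraMap n => simp only [j, eq_intCast, map_intCast]; exact intCast_mem A' n
    | add p q _ _ hp hq => rw [map_add]; exact add_mem hp hq
    | mul p q _ _ hp hq => rw [map_mul]; exact mul_mem hp hq
  let i : A →+* A' := j.codRestrict A' hjA
  -- a common denominator for the constants
  obtain ⟨T, hT⟩ := (Module.Finite.fg_top : (⊤ : Submodule ℤ (𝓞 K)).FG)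
  obtain ⟨⟨b₀, hb₀⟩, hden⟩ := IsLocalization.exist_integer_multiples_of_finset (nonZeroDivisors A)
    (T.image (algebraMap (𝓞 K) L))
  have hω : ∀ w : 𝓞 K, ∃ x : A, j x = algebraMap (𝓞 K) L w * j b₀ := fun w => by
    have hw : w ∈ Submodule.span ℤ (T : Set (𝓞 K)) := hT ▸ Submodule.mem_top
    induction hw using Submodule.span_induction with
    | mem v hv =>
      obtain ⟨x, hx⟩ := hden _ (Finset.mem_image_of_mem _ hv)
      refine ⟨x, hx.trans ?_⟩
      show b₀ • algebraMap (𝓞 K) L v = _
      rw [Algebra.smul_def, mul_comm]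
    | zero => exact ⟨0, by simp⟩
    | add p q _ _ hp hq =>
      obtain ⟨x, hx⟩ := hp
      obtain ⟨y, hy⟩ := hq
      exact ⟨x + y, by rw [map_add, map_add, hx, hy, add_mul]⟩
    | smul n p _ hp =>
      obtain ⟨x, hx⟩ := hp
      exact ⟨n • x, by rw [map_zsmul, map_zsmul, hx, smul_mul_assoc]⟩
  choose av hav using hω
  have hb0 : j b₀ ≠ 0 := IsFractionRing.to_map_ne_zero_of_mem_nonZeroDivisors hb₀
  obtain ⟨a, r, B, ⟨c, hac⟩, ha, hr, hB, hcount⟩ := generic_count d (R := 𝓞 K) (K := K) (L := L)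
    (IntermediateField.fg_top_iff.2 (Algebra.EssFiniteType.of_comp ℚ K L)) hc t ht A' ⟨_, rfl⟩
    (fun l => by
      obtain ⟨p, q, hq, rfl⟩ := IsFractionRing.div_surjective A l
      exact ⟨_, hjA p, _, hjA q, IsFractionRing.to_map_ne_zero_of_mem_nonZeroDivisors hq, rfl⟩) (i b₀) hb0
  letI fld : ∀ P : HeightOneSpectrum (𝓞 K), Field (𝓞 K ⧸ P.asIdeal) := fun P => by
    haveI := P.isMaximal
    exact Ideal.Quotient.field P.asIdeal
  let S : Set (HeightOneSpectrum (𝓞 K)) :=
    {P | P.asIdeal ∣ Ideal.span {r}} ∪ {P | Ideal.absNorm P.asIdeal ≤ ⌈(2 * B) ^ 2⌉₊}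
  have hS : S.Finite :=
    (Ideal.finite_factors (by simpa using hr)).union (finite_above K _)
  -- the residue field of a prime outside `S`
  have hP0 : ∀ P : (DegOne K \ S : Set (HeightOneSpectrum (𝓞 K))), r ∉ P.1.asIdeal := fun P h =>
    P.2.2 (Or.inl (Ideal.dvd_span_singleton.2 h))
  have hpts : ∀ P : (DegOne K \ S : Set (HeightOneSpectrum (𝓞 K))),
      ∃ _ : Fintype (Pts (Ideal.Quotient.mk P.1.asIdeal) a),
        ∀ φ : Pts (Ideal.Quotient.mk P.1.asIdeal) a, Function.Surjective (φ.1.comp i) := by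
    intro P
    haveI := P.1.isMaximal
    haveI : Finite (𝓞 K ⧸ P.1.asIdeal) := Ideal.finiteQuotientOfFreeOfNeBot P.1.asIdeal P.1.ne_bot
    haveI := (hcount (𝓞 K ⧸ P.1.asIdeal) (Ideal.Quotient.mk P.1.asIdeal)
      (fun h0 => hP0 P (Ideal.Quotient.eq_zero_iff_mem.1 h0))).1
    refine ⟨Fintype.ofFinite _, fun φ y => ?_⟩
    have hp : (Nat.card (𝓞 K ⧸ P.1.asIdeal)).Prime := by
      have h := P.2.1
      change (Ideal.absNorm P.1.asIdeal).Prime at h
      rwa [Ideal.absNorm_apply, Submodule.cardQuot_apply] at h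
    haveI : Fact (Nat.card (𝓞 K ⧸ P.1.asIdeal)).Prime := ⟨hp⟩
    haveI : CharP (𝓞 K ⧸ P.1.asIdeal) (Nat.card (𝓞 K ⧸ P.1.asIdeal)) := by
      letI := Fintype.ofFinite (𝓞 K ⧸ P.1.asIdeal)
      rw [Nat.card_eq_fintype_card] at hp ⊢
      exact charP_of_card_eq_prime (hp := ⟨hp⟩) rfl
    letI := Fintype.ofFinite (𝓞 K ⧸ P.1.asIdeal)
    have hsurj : Function.Surjective (ZMod.castHom dvd_rfl (𝓞 K ⧸ P.1.asIdeal)) :=
      (ZMod.castHom_bijective (n := Nat.card (𝓞 K ⧸ P.1.asIdeal)) (𝓞 K ⧸ P.1.asIdeal)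
        Nat.card_eq_fintype_card.symm).2
    obtain ⟨z, rfl⟩ := hsurj y
    exact ⟨(z.val : A), by rw [map_natCast, ZMod.castHom_apply, ZMod.cast_eq_val]⟩
  choose hfin hsurj using hpts
  let M : (DegOne K \ S : Set (HeightOneSpectrum (𝓞 K))) → Finset (Ideal A) := fun P =>
    (@Finset.univ _ (hfin P)).image fun φ => RingHom.ker (φ.1.comp i)
  -- the values on the constants are read off on `A`
  have hb : ∀ {F : Type u} [Field F] {ψ : 𝓞 K →+* F} (φ : Pts ψ a) (w : 𝓞 K),
      ψ w * φ.1 (i b₀) = φ.1 (i (av w)) ∧ φ.1 (i b₀) ≠ 0 := by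
    intro F _ ψ φ w
    refine ⟨?_, fun h0 => φ.2.2 ((congrArg φ.1 hac).trans (by rw [map_mul, h0, zero_mul]))⟩
    rw [← RingHom.congr_fun φ.2.1 w, RingHom.comp_apply, ← map_mul]
    exact congrArg φ.1 (Subtype.ext (hav w).symm)
  refine ⟨K, inferInstance, inferInstance, d, S, hS, ?_, M, ?_, ?_, ?_⟩
  · -- the dimension bound
    haveI : CharZero (ULift.{u} ℤ) := charZero_of_injective_ringHom
      (f := (ULift.ringEquiv (R := ℤ)).symm.toRingHom) ULift.ringEquiv.symm.injective
    haveI : IsDomain (ULift.{u} ℤ) := ULift.ringEquiv.injective.isDomain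
    haveI : IsNoetherianRing (ULift.{u} ℤ) := isNoetherianRing_of_ringEquiv ℤ ULift.ringEquiv.symm
    letI algA : Algebra (ULift.{u} ℤ) A := uliftIntAlgebra A
    letI algK : Algebra (ULift.{u} ℤ) K := uliftIntAlgebra K
    letI algL : Algebra (ULift.{u} ℤ) L := uliftIntAlgebra L
    haveI : IsScalarTower ℤ (ULift.{u} ℤ) A := IsScalarTower.of_algebraMap_eq' (RingHom.ext_int _ _)
    haveI : Algebra.FiniteType (ULift.{u} ℤ) A := Algebra.FiniteType.of_restrictScalars_finiteType ℤ _ A
    haveI hFA : FaithfulSMul (ULift.{u} ℤ) A := (faithfulSMul_iff_algebraMap_injective _ _).2 fun x y h =>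
      ULift.ext _ _ (Int.cast_injective (α := A) h)
    haveI hFK : FaithfulSMul (ULift.{u} ℤ) K := (faithfulSMul_iff_algebraMap_injective _ _).2 fun x y h =>
      ULift.ext _ _ (Int.cast_injective (α := K) h)
    haveI : IsScalarTower ℤ (ULift.{u} ℤ) K := IsScalarTower.of_algebraMap_eq' (RingHom.ext_int _ _)
    haveI : IsScalarTower (ULift.{u} ℤ) A L := IsScalarTower.of_algebraMap_eq fun x => by simp [RingHom.algebraMap_toAlgebra]
    haveI : IsScalarTower (ULift.{u} ℤ) K L := IsScalarTower.of_algebraMap_eq fun x => by simp [RingHom.algebraMap_toAlgebra]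
    haveI : Algebra.IsAlgebraic ℤ ℚ := IsLocalization.isAlgebraic ℚ (nonZeroDivisors ℤ)
    haveI : Algebra.IsAlgebraic ℚ K := halg
    haveI : Algebra.IsAlgebraic ℤ K := Algebra.IsAlgebraic.trans ℤ ℚ K
    haveI : Algebra.IsAlgebraic (ULift.{u} ℤ) K := Algebra.IsAlgebraic.extendScalars (R := ℤ)
      (RingHom.injective_int (algebraMap ℤ (ULift.{u} ℤ)))
    haveI : Algebra.IsAlgebraic A L := IsLocalization.isAlgebraic L (nonZeroDivisors A)
    have hKL : Algebra.trdeg K L = d := by
      have h1 := trdeg_add_eq ℚ K (A := L)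
      rw [trdeg_eq_zero, zero_add, ← hs.cardinalMk_eq_trdeg, Cardinal.mk_coe_finset] at h1
      exact h1
    have htr : DimIneqLib.tr (ULift.{u} ℤ) A = d := by
      have h1 := DimIneqLib.tr_add (R := ULift.{u} ℤ) (S := A) (T := L)
      have h2 := DimIneqLib.tr_add (R := ULift.{u} ℤ) (S := K) (T := L)
      rw [DimIneqLib.tr_eq_zero (R := A) (S := L), add_zero] at h1
      rw [DimIneqLib.tr_eq_zero (R := ULift.{u} ℤ) (S := K), zero_add] at h2
      rw [h1, ← h2, DimIneqLib.tr, hKL, Cardinal.toENat_nat]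
    rw [ringKrullDim_le_iff_isMaximal_height_le]
    intro q hq
    haveI : q.LiesOver (q.comap (algebraMap (ULift.{u} ℤ) A)) := ⟨rfl⟩
    have h1 := DimIneqLib.main q (q.comap (algebraMap (ULift.{u} ℤ) A))
    rw [htr] at h1
    have h2 : (q.comap (algebraMap (ULift.{u} ℤ) A)).height ≤ 1 := by
      have h3 := Ideal.height_le_ringKrullDim_of_ne_top (I := q.comap (algebraMap (ULift.{u} ℤ) A))
        (Ideal.IsPrime.ne_top inferInstance)
      rw [ringKrullDim_eq_of_ringEquiv ULift.ringEquiv, IsPrincipalIdealRing.ringKrullDim_eq_one ℤ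
        (Int.not_isField)] at h3
      exact_mod_cast h3
    have h4 : q.height ≤ ((d + 1 : ℕ) : ℕ∞) := by
      push_cast
      calc q.height ≤ _ := le_self_add
        _ ≤ _ := h1
        _ ≤ 1 + (d : ℕ∞) := add_le_add h2 le_rfl
        _ = _ := add_comm _ _
    exact_mod_cast h4
  · intro P m hm
    obtain ⟨φ, -, rfl⟩ := Finset.mem_image.1 hm
    haveI := P.1.isMaximal
    refine ⟨RingHom.ker_isMaximal_of_surjective _ (hsurj P φ), ?_⟩
    rw [Nat.card_congr (RingHom.quotientKerEquivOfSurjective (hsurj P φ)).toEquiv, Ideal.absNorm_apply,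
      Submodule.cardQuot_apply]
  · intro P
    haveI := P.1.isMaximal
    haveI : Finite (𝓞 K ⧸ P.1.asIdeal) := Ideal.finiteQuotientOfFreeOfNeBot P.1.asIdeal P.1.ne_bot
    have h := (hcount (𝓞 K ⧸ P.1.asIdeal) (Ideal.Quotient.mk P.1.asIdeal)
      (fun h0 => hP0 P (Ideal.Quotient.eq_zero_iff_mem.1 h0))).2
    have hcard : (M P).card = Nat.card (Pts (Ideal.Quotient.mk P.1.asIdeal) a) := by
      letI := hfin P
      rw [Nat.card_eq_fintype_card, ← Finset.card_univ]
      refine Finset.card_image_of_injective _ fun φ φ' h => ?_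
      have hval : ∀ x : A, φ.1 (i x) = φ'.1 (i x) := fun x => by
        obtain ⟨z, hz⟩ := hsurj P φ (φ.1 (i x))
        haveI := P.1.isMaximal
        have hker : ∀ y : A, φ.1 (i y) = 0 ↔ φ'.1 (i y) = 0 := fun y => by
          have := congrArg (y ∈ ·) h
          simpa [RingHom.mem_ker] using this
        have hp : (Nat.card (𝓞 K ⧸ P.1.asIdeal)).Prime := by
          have h := P.2.1
          change (Ideal.absNorm P.1.asIdeal).Prime at h
          rwa [Ideal.absNorm_apply, Submodule.cardQuot_apply] at h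
        haveI : Fact (Nat.card (𝓞 K ⧸ P.1.asIdeal)).Prime := ⟨hp⟩
        letI := Fintype.ofFinite (𝓞 K ⧸ P.1.asIdeal)
        obtain ⟨n, hn⟩ : ∃ n : ℕ, (n : 𝓞 K ⧸ P.1.asIdeal) = φ.1 (i x) := by
          haveI : CharP (𝓞 K ⧸ P.1.asIdeal) (Nat.card (𝓞 K ⧸ P.1.asIdeal)) := by
            rw [Nat.card_eq_fintype_card] at hp ⊢
            exact charP_of_card_eq_prime (hp := ⟨hp⟩) rfl
          obtain ⟨z, hz⟩ := (ZMod.castHom_bijective (n := Nat.card (𝓞 K ⧸ P.1.asIdeal)) (𝓞 K ⧸ P.1.asIdeal)
            Nat.card_eq_fintype_card.symm).2 (φ.1 (i x))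
          exact ⟨z.val, by rw [← hz, ZMod.castHom_apply, ZMod.cast_eq_val]⟩
        have h1 : φ.1 (i (x - n)) = 0 := by rw [map_sub, map_sub, map_natCast, map_natCast, hn, sub_self]
        have h2 := (hker _).1 h1
        rw [map_sub, map_sub, map_natCast, map_natCast, sub_eq_zero] at h2
        rw [h2, hn]
      refine Subtype.ext (RingHom.ext fun z => ?_)
      obtain ⟨z, hz⟩ := z
      induction hz using Algebra.adjoin_induction with
      | mem v hv =>
        obtain ⟨w, hw, rfl⟩ := Finset.mem_image.1 hv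
        exact hval w
      | algebraMap w => exact (RingHom.congr_fun φ.2.1 w).trans (RingHom.congr_fun φ'.2.1 w).symm
      | add p q hp hq hp' hq' =>
        have e : ∀ φ : Pts (Ideal.Quotient.mk P.1.asIdeal) a,
            φ.1 ⟨p + q, add_mem hp hq⟩ = φ.1 ⟨p, hp⟩ + φ.1 ⟨q, hq⟩ := fun φ => map_add φ.1 ⟨p, hp⟩ ⟨q, hq⟩
        exact (e φ).trans ((congrArg₂ (· + ·) hp' hq').trans (e φ').symm)
      | mul p q hp hq hp' hq' =>
        have e : ∀ φ : Pts (Ideal.Quotient.mk P.1.asIdeal) a,
            φ.1 ⟨p * q, mul_mem hp hq⟩ = φ.1 ⟨p, hp⟩ * φ.1 ⟨q, hq⟩ := fun φ => map_mul φ.1 ⟨p, hp⟩ ⟨q, hq⟩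
        exact (e φ).trans ((congrArg₂ (· * ·) hp' hq').trans (e φ').symm)
    rw [hcard]
    have hN : Ideal.absNorm P.1.asIdeal = Nat.card (𝓞 K ⧸ P.1.asIdeal) := by
      rw [Ideal.absNorm_apply, Submodule.cardQuot_apply]
    rw [hN]
    have hlt : ((⌈(2 * B) ^ 2⌉₊ : ℕ) : ℝ) < Nat.card (𝓞 K ⧸ P.1.asIdeal) := by
      have h' : ¬ Ideal.absNorm P.1.asIdeal ≤ ⌈(2 * B) ^ 2⌉₊ := fun h => P.2.2 (Or.inr h)
      rw [hN] at h'
      exact_mod_cast not_le.1 h'
    have hsq : 2 * B ≤ Real.sqrt (Nat.card (𝓞 K ⧸ P.1.asIdeal)) := by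
      refine (le_abs_self _).trans ?_
      rw [← Real.sqrt_sq_eq_abs]
      exact Real.sqrt_le_sqrt ((Nat.le_ceil _).trans hlt.le)
    have hs0 : 0 < Real.sqrt (Nat.card (𝓞 K ⧸ P.1.asIdeal)) := Real.sqrt_pos.2 (by exact_mod_cast Nat.card_pos)
    have h1 := (abs_le.1 ((le_div_iff₀ hs0).2 h)).1
    have h2 : B * (Nat.card (𝓞 K ⧸ P.1.asIdeal) : ℝ) ^ d / Real.sqrt (Nat.card (𝓞 K ⧸ P.1.asIdeal)) ≤
        (Nat.card (𝓞 K ⧸ P.1.asIdeal) : ℝ) ^ d / 2 := by
      rw [div_le_iff₀ hs0]
      nlinarith [pow_nonneg (Nat.cast_nonneg (α := ℝ) (Nat.card (𝓞 K ⧸ P.1.asIdeal))) d]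
    linarith
  · intro P Q m hP hQ
    obtain ⟨φ, -, hφ⟩ := Finset.mem_image.1 hP
    obtain ⟨φ', -, hφ'⟩ := Finset.mem_image.1 hQ
    haveI := P.1.isMaximal
    haveI := Q.1.isMaximal
    refine Subtype.ext (HeightOneSpectrum.ext (Ideal.ext fun w => ?_))
    rw [← Ideal.Quotient.eq_zero_iff_mem, ← Ideal.Quotient.eq_zero_iff_mem,
      ← mul_eq_zero_iff_right (hb φ w).2, ← mul_eq_zero_iff_right (hb φ' w).2, (hb φ w).1, (hb φ' w).1]
    have := congrArg (av w ∈ ·) (hφ.trans hφ'.symm)
    simpa [RingHom.mem_ker] using this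

/-- An arithmetic domain of characteristic zero has many maximal ideals over primes of degree one. -/
theorem exists_many_maximal (A : Type u) [CommRing A] [IsDomain A] [CharZero A] [Algebra.FiniteType ℤ A] :
    ∃ (K : Type u) (_ : Field K) (_ : NumberField K) (d : ℕ) (S : Set (HeightOneSpectrum (𝓞 K))),
      S.Finite ∧ ringKrullDim A ≤ ((d + 1 : ℕ) : WithBot ℕ∞) ∧
      ∃ M : (DegOne K \ S : Set (HeightOneSpectrum (𝓞 K))) → Finset (Ideal A),
        (∀ P, ∀ m ∈ M P, m.IsMaximal ∧ Nat.card (A ⧸ m) = Ideal.absNorm P.1.asIdeal) ∧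
        (∀ P, (Ideal.absNorm P.1.asIdeal : ℝ) ^ d / 2 ≤ (M P).card) ∧
        ∀ P Q m, m ∈ M P → m ∈ M Q → P = Q := by
  exact exists_many_maximal_aux A (FractionRing A)

end LWQual
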