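import Mathlib

/-!
# Bivariate polynomials and the weighted degree bound for monic factors
-/

set_option autoImplicit false

noncomputable section

open Polynomial

namespace LWQual

variable {R S T : Type*} [CommRing R] [CommRing S] [CommRing T]

/-- Change of coefficients of a bivariate polynomial. -/
def mapP (f : R →+* S) : R[X][X] →+* S[X][X] := mapRingHom (mapRingHom f)

/-- Evaluation of a bivariate polynomial. -/
def ev (f : R →+* S) (u v : S) : R[X][X] →+* S := eval₂RingHom (eval₂RingHom f u) v

theorem mapP_apply (f : R →+* S) (p : R[X][X]) : mapP f p = p.map (mapRingHom f) := rfl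

theorem coeff_mapP (f : R →+* S) (p : R[X][X]) (j : ℕ) : (mapP f p).coeff j = (p.coeff j).map f := by
  simp [mapP]

theorem mapP_mapP (f : R →+* S) (g : S →+* T) (p : R[X][X]) : mapP g (mapP f p) = mapP (g.comp f) p := by
  ext i j
  simp [mapP]

theorem mapP_id (p : R[X][X]) : mapP (RingHom.id R) p = p := by
  ext i j
  simp [mapP]

theorem mapP_injective {f : R →+* S} (hf : Function.Injective f) : Function.Injective (mapP f) :=
  Polynomial.map_injective _ (Polynomial.map_injective _ hf)

theorem mapP_C (f : R →+* S) (p : R[X]) : mapP f (C p) = C (p.map f) := by simp [mapP]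

theorem ev_C (f : R →+* S) (u v : S) (p : R[X]) : ev f u v (C p) = p.eval₂ f u := by
  simp [ev]

theorem ev_X (f : R →+* S) (u v : S) : ev f u v X = v := by simp [ev]

theorem ev_CX (f : R →+* S) (u v : S) : ev f u v (C X) = u := by simp [ev]

theorem ev_CC (f : R →+* S) (u v : S) (r : R) : ev f u v (C (C r)) = f r := by simp [ev]

theorem ev_mapP (f : R →+* S) (g : S →+* T) (u v : T) (p : R[X][X]) :
    ev g u v (mapP f p) = ev (g.comp f) u v p := by
  refine RingHom.congr_fun (?_ : (ev g u v).comp (mapP f) = ev (g.comp f) u v) p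
  refine Polynomial.ringHom_ext' (Polynomial.ringHom_ext' (RingHom.ext fun r => ?_) ?_) ?_ <;>
    simp [ev, mapP]

theorem map_ev (f : R →+* S) (g : S →+* T) (u v : S) (p : R[X][X]) :
    g (ev f u v p) = ev (g.comp f) (g u) (g v) p := by
  refine RingHom.congr_fun (?_ : g.comp (ev f u v) = ev (g.comp f) (g u) (g v)) p
  refine Polynomial.ringHom_ext' (Polynomial.ringHom_ext' (RingHom.ext fun r => ?_) ?_) ?_ <;>
    simp [ev]

/-- All coefficients of a monic factor of a polynomial with coefficients of degree at most `c`
have degree at most `c * n`. -/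
theorem natDegree_coeff_le {k : Type*} [CommRing k] [IsDomain k] {G H : k[X][X]} (hG : G.Monic)
    (hH : H.Monic) {n c : ℕ} (hn : (G * H).natDegree = n) (hc : ∀ j, ((G * H).coeff j).natDegree ≤ c)
    (j : ℕ) : (G.coeff j).natDegree ≤ c * n := by
  classical
  let τ : k[X][X] →+* k[X][X] := eval₂RingHom (mapRingHom C) (C X * X ^ c)
  have hτ : ∀ (P : k[X][X]) (m l : ℕ), ((τ P).coeff m).coeff l =
      if c * l ≤ m then (P.coeff l).coeff (m - c * l) else 0 := by
    intro P m l
    induction P using Polynomial.induction_on' with
    | add p q hp hq =>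
      simp only [map_add, coeff_add, hp, hq]
      split_ifs <;> simp
    | monomial i a =>
      have h1 : τ (monomial i a) = a.map C * (C (X ^ i) * X ^ (c * i)) := by
        simp [τ, mul_pow, ← pow_mul, map_pow]
      rw [h1, mul_left_comm, coeff_C_mul, coeff_mul_X_pow', coeff_monomial]
      by_cases hil : i = l
      · subst hil
        rw [if_pos rfl]
        split_ifs with h
        · simp
        · simp
      · rw [if_neg hil]
        split_ifs <;> simp [Ne.symm hil, coeff_X_pow]
  have hup : (τ (G * H)).natDegree ≤ c * n := by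
    rw [natDegree_le_iff_coeff_eq_zero]
    intro m hm
    ext l
    rw [hτ, coeff_zero]
    split_ifs with h
    · rcases lt_trichotomy l n with hl | hl | hl
      · refine coeff_eq_zero_of_natDegree_lt ((hc l).trans_lt ?_)
        have : c * (l + 1) ≤ c * n := Nat.mul_le_mul_left c hl
        rw [Nat.mul_succ] at this
        omega
      · have hmon := (hG.mul hH).coeff_natDegree
        rw [hn] at hmon
        rw [hl, hmon, coeff_one, if_neg (by rw [hl] at h; omega)]
      · rw [show (G * H).coeff l = 0 from coeff_eq_zero_of_natDegree_lt (by omega), coeff_zero]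
    · rfl
  have hne : ∀ P : k[X][X], P.Monic → τ P ≠ 0 := fun P hP h0 => by
    have := hτ P (c * P.natDegree) P.natDegree
    rw [if_pos le_rfl, h0, hP.coeff_natDegree, Nat.sub_self] at this
    simp at this
  rw [map_mul, natDegree_mul (hne G hG) (hne H hH)] at hup
  rcases eq_or_ne (G.coeff j) 0 with h0 | h0
  · simp [h0]
  have h2 := hτ G (c * j + (G.coeff j).natDegree) j
  rw [if_pos (Nat.le_add_right _ _), Nat.add_sub_cancel_left] at h2
  have h3 : (τ G).coeff (c * j + (G.coeff j).natDegree) ≠ 0 := fun h => by
    rw [h, coeff_zero] at h2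
    exact leadingCoeff_ne_zero.2 h0 h2.symm
  have h4 := le_natDegree_of_ne_zero h3
  omega

end LWQual
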