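import Groth.Agent.LWQualLib.Induct
import Groth.Agent.WeilLib.Dim
import Groth.Agent.PointCount.Ring

/-!
# Points of a variety over a finite field with arbitrary field of constants
-/

set_option autoImplicit false
set_option maxHeartbeats 2000000
set_option synthInstance.maxHeartbeats 100000
set_option backward.isDefEq.respectTransparency false

noncomputable section

open Module

namespace LWQual

universe u

/-- Points killing a non-zero function. -/
theorem card_killing_le (k A : Type u) [Field k] [Finite k] [CommRing A] [IsDomain A] [Algebra k A]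
    [Algebra.FiniteType k A] {r : ℕ} (hr : ringKrullDim A = r) (α : A) (hα : α ≠ 0) :
    ∃ D : ℕ, ∀ (K : Type u) [Field K] [Algebra k K] [Finite K],
      Finite {φ : A →ₐ[k] K // φ α = 0} ∧ Nat.card {φ : A →ₐ[k] K // φ α = 0} * Nat.card K ≤ D * Nat.card K ^ r := by
  classical
  obtain ⟨p, hp⟩ := CharP.exists k
  haveI := hp
  haveI : Fact p.Prime := ⟨CharP.char_is_prime k p⟩
  letI : Algebra (ZMod p) k := ZMod.algebra k p
  haveI : Module.Finite (ZMod p) k := Module.Finite.of_finite
  have hle := ringKrullDim_quotient_succ_le_of_nonZeroDivisor (r := α) (mem_nonZeroDivisors_of_ne_zero hα)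
  rw [hr] at hle
  rcases Nat.eq_zero_or_pos r with rfl | hr0
  · -- a field has no functions with zeros
    refine ⟨0, fun K _ _ _ => ?_⟩
    haveI : IsEmpty {φ : A →ₐ[k] K // φ α = 0} := ⟨fun φ => by
      haveI : Nontrivial (A ⧸ Ideal.span {α}) := Ideal.Quotient.nontrivial_iff.2 fun h => by
        obtain ⟨c, hc⟩ := Ideal.span_singleton_eq_top.1 h |>.exists_right_inv
        have := congrArg φ.1 hc
        rw [map_mul, φ.2, zero_mul, map_one] at this
        exact zero_ne_one this
      have h0 := ringKrullDim_nonneg_of_nontrivial (R := A ⧸ Ideal.span {α})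
      have h1 : (0 : WithBot ℕ∞) + 1 ≤ ((0 : ℕ) : WithBot ℕ∞) := (add_le_add h0 le_rfl).trans hle
      rw [Nat.cast_zero, zero_add] at h1
      exact absurd h1 (not_le.2 zero_lt_one)⟩
    exact ⟨inferInstance, by simp⟩
  obtain ⟨s, rfl⟩ := Nat.exists_eq_succ_of_ne_zero hr0.ne'
  have hdim : ringKrullDim (A ⧸ Ideal.span {α}) ≤ s := by
    push_cast at hle
    generalize ringKrullDim (A ⧸ Ideal.span {α}) = x at hle ⊢
    cases x with
    | bot => exact bot_le
    | coe x =>
      have h' : x + 1 ≤ ((s : ℕ∞)) + 1 := by exact_mod_cast hle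
      exact WithBot.coe_le_coe.2 ((ENat.add_le_add_iff_right ENat.one_ne_top).1 h')
  letI : Algebra (ZMod p) (A ⧸ Ideal.span {α}) :=
    ((algebraMap k (A ⧸ Ideal.span {α})).comp (algebraMap (ZMod p) k)).toAlgebra
  haveI : IsScalarTower (ZMod p) k (A ⧸ Ideal.span {α}) := IsScalarTower.of_algebraMap_eq' rfl
  haveI : Algebra.FiniteType k (A ⧸ Ideal.span {α}) :=
    Algebra.FiniteType.of_surjective (Ideal.Quotient.mkₐ k (Ideal.span {α})) Ideal.Quotient.mk_surjective
  haveI : Algebra.FiniteType (ZMod p) (A ⧸ Ideal.span {α}) :=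
    Algebra.FiniteType.trans (R := ZMod p) (S := k) (A := A ⧸ Ideal.span {α}) inferInstance inferInstance
  obtain ⟨D, hD⟩ := PointCount.field_bound p (A ⧸ Ideal.span {α}) s hdim
  refine ⟨D, fun K _ _ _ => ?_⟩
  obtain ⟨hfin, hcard⟩ := hD K
  let e : {φ : A →ₐ[k] K // φ α = 0} → (A ⧸ Ideal.span {α} →+* K) := fun φ =>
    Ideal.Quotient.lift _ φ.1.toRingHom fun x hx => by
      obtain ⟨c, rfl⟩ := Ideal.mem_span_singleton.1 hx
      show φ.1 (α * c) = 0
      rw [map_mul, φ.2, zero_mul]
  have he : Function.Injective e := fun φ φ' h => Subtype.ext (AlgHom.ext fun x =>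
    RingHom.congr_fun h (Ideal.Quotient.mk _ x))
  refine ⟨Finite.of_injective e he, ?_⟩
  rw [pow_succ, ← mul_assoc]
  exact Nat.mul_le_mul_right _ ((Nat.card_le_card_of_injective e he).trans hcard)

/-- Embeddings of one finite field into another. -/
theorem card_algHom_finite (k k' K : Type u) [Field k] [Finite k] [Field k'] [Algebra k k'] [FiniteDimensional k k']
    [Field K] [Algebra k K] [Finite K] :
    Nat.card (k' →ₐ[k] K) = if finrank k k' ∣ finrank k K then finrank k k' else 0 := by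
  haveI : Finite k' := Module.finite_of_finite k
  haveI : Module.Finite k K := Module.Finite.of_finite
  split_ifs with h
  · obtain ⟨σ⟩ := FiniteField.nonempty_algHom_of_finrank_dvd h
    refine le_antisymm (card_algHom_le_finrank k k' K) ?_
    rw [← IsGalois.card_aut_eq_finrank k k']
    exact Nat.card_le_card_of_injective (fun τ : k' ≃ₐ[k] k' => σ.comp τ.toAlgHom) fun τ τ' hτ =>
      AlgEquiv.ext fun x => σ.injective (AlgHom.congr_fun hτ x)
  · haveI : IsEmpty (k' →ₐ[k] K) := ⟨fun σ => h (by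
      letI := σ.toRingHom.toAlgebra
      haveI : IsScalarTower k k' K := IsScalarTower.of_algebraMap_eq fun x => (σ.commutes x).symm
      exact ⟨finrank k' K, (Module.finrank_mul_finrank k k' K).symm⟩)⟩
    exact Nat.card_of_isEmpty

/-- The points of a variety over a finite field, counted by its field of constants. -/
theorem component_count (k A L : Type u) [Field k] [Finite k] [CommRing A] [IsDomain A] [Algebra k A]
    [Algebra.FiniteType k A] [Field L] [Algebra A L] [Algebra k L] [IsScalarTower k A L] [IsFractionRing A L]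
    {r : ℕ} (hr : ringKrullDim A = r) :
    FiniteDimensional k (algebraicClosure k L) ∧
    ∃ c : ℝ, 0 ≤ c ∧ ∀ (K : Type u) [Field K] [Algebra k K] [Finite K],
      Finite (A →ₐ[k] K) ∧
      (finrank k (algebraicClosure k L) ∣ finrank k K →
        |(Nat.card (A →ₐ[k] K) : ℝ) - finrank k (algebraicClosure k L) * (Nat.card K : ℝ) ^ r| *
          Real.sqrt (Nat.card K) ≤ c * (Nat.card K : ℝ) ^ r) ∧
      (¬ finrank k (algebraicClosure k L) ∣ finrank k K →
        (Nat.card (A →ₐ[k] K) : ℝ) * Nat.card K ≤ c * (Nat.card K : ℝ) ^ r) := by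
  classical
  obtain ⟨d, hd, htr⟩ := WeilLib.dim_eq_trdeg k A L
  obtain rfl : d = r := by
    rw [hr] at hd
    exact_mod_cast hd.symm
  haveI : Algebra.EssFiniteType A L := Algebra.EssFiniteType.of_isLocalization L (nonZeroDivisors A)
  haveI : Algebra.EssFiniteType k L := Algebra.EssFiniteType.comp k A L
  obtain ⟨s, hs, hsep⟩ := exists_isTranscendenceBasis_and_isSeparable_of_perfectField k L
  have hcard : s.card = d := by
    have h1 := hs.cardinalMk_eq_trdeg
    rw [htr, Cardinal.mk_coe_finset] at h1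
    exact_mod_cast h1
  let t : Fin d → L := fun i => ((s.equivFinOfCardEq hcard).symm i : L)
  have hrange : Set.range t = (s : Set L) := by
    ext z
    constructor
    · rintro ⟨i, rfl⟩; exact ((s.equivFinOfCardEq hcard).symm i).2
    · intro hz; exact ⟨s.equivFinOfCardEq hcard ⟨z, hz⟩, by simp [t]⟩
  set k' := algebraicClosure k L with hk'
  haveI hfin : FiniteDimensional k k' := FieldsMiscLib.algebraicClosure_finite_of_fg (IntermediateField.fg_top k L)
  haveI : Finite k' := Module.finite_of_finite k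
  refine ⟨hfin, ?_⟩
  set m := finrank k k'
  have hc : ∀ y : L, IsAlgebraic k' y → y ∈ Set.range (algebraMap k' L) := fun y hy =>
    ⟨⟨y, mem_algebraicClosure_iff.2 (IsAlgebraic.restrictScalars k hy)⟩, rfl⟩
  have ht : AlgebraicIndependent k' t := by
    haveI : Algebra.IsAlgebraic k k' := algebraicClosure.isAlgebraic k L
    exact (hs.1.comp _ (s.equivFinOfCardEq hcard).symm.injective).extendScalars _
  haveI : Algebra.IsSeparable (IntermediateField.adjoin k' (Set.range t)) L := by
    have hle : IntermediateField.adjoin k (s : Set L) ≤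
        (IntermediateField.adjoin k' (Set.range t)).restrictScalars k := by
      rw [IntermediateField.adjoin_le_iff, ← hrange]
      exact IntermediateField.subset_adjoin _ _
    letI := (IntermediateField.inclusion hle).toRingHom.toAlgebra
    haveI : IsScalarTower (IntermediateField.adjoin k (s : Set L))
        ((IntermediateField.adjoin k' (Set.range t)).restrictScalars k) L :=
      IsScalarTower.of_algebraMap_eq fun _ => rfl
    exact ⟨fun z => IsSeparable.tower_top ((IntermediateField.adjoin k' (Set.range t)).restrictScalars k)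
      (Algebra.IsSeparable.isSeparable (IntermediateField.adjoin k (s : Set L)) z)⟩
  obtain ⟨XA, hXA⟩ := (inferInstance : Algebra.FiniteType k A).out
  let j : A →ₐ[k] L := IsScalarTower.toAlgHom k A L
  let A' : Subalgebra k' L := Algebra.adjoin k' ((XA.image j : Finset L) : Set L)
  have hjA : ∀ a : A, j a ∈ A' := fun a => by
    have ha : a ∈ Algebra.adjoin k (XA : Set A) := hXA ▸ Algebra.mem_top
    have h1 : j a ∈ (Algebra.adjoin k (XA : Set A)).map j := ⟨a, ha, rfl⟩
    rw [AlgHom.map_adjoin] at h1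
    have h2 : Algebra.adjoin k (j '' (XA : Set A)) ≤ A'.restrictScalars k := Algebra.adjoin_le fun z hz => by
      show z ∈ A'
      refine Algebra.subset_adjoin ?_
      rwa [Finset.coe_image]
    exact h2 h1
  letI := Fintype.ofFinite k'
  obtain ⟨⟨b₀, hb₀⟩, hden⟩ := IsLocalization.exist_integer_multiples_of_finset (nonZeroDivisors A)
    (Finset.univ.image fun w : k' => (w : L))
  let S : Subalgebra k L := j.range
  have hbS : j b₀ ∈ S := ⟨b₀, rfl⟩
  have hω : ∀ w : k', (w : L) * j b₀ ∈ S := fun w => by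
    obtain ⟨x, hx⟩ := hden _ (Finset.mem_image_of_mem (fun w : k' => (w : L)) (Finset.mem_univ w))
    refine ⟨x, hx.trans ?_⟩
    show b₀ • (w : L) = _
    rw [Algebra.smul_def, mul_comm]
    rfl
  -- `j b₀` clears the constants
  have hle : Submonoid.closure ((XA.image j : Finset L) : Set L) ≤ S.toSubmonoid :=
    Submonoid.closure_le.2 fun w hw => by
      obtain ⟨a, -, rfl⟩ := Finset.mem_image.1 hw
      exact ⟨a, rfl⟩
  have hclear' : ∀ z ∈ A', ∀ w : k', (w : L) * z * j b₀ ∈ S := fun z hz => by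
    rw [← Subalgebra.mem_toSubmodule, Algebra.adjoin_eq_span] at hz
    induction hz using Submodule.span_induction with
    | mem v hv => intro w; rw [mul_right_comm]; exact S.mul_mem (hω w) (hle hv)
    | zero => intro w; simp
    | add p q _ _ hp hq => intro w; rw [mul_add, add_mul]; exact add_mem (hp w) (hq w)
    | smul w' p _ hp =>
      intro w
      have e : (w : L) * (w' • p) = ((w * w' : k') : L) * p := by
        rw [Algebra.smul_def, ← mul_assoc]; rfl
      rw [e]
      exact hp (w * w')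
  have hclear : ∀ z ∈ A', z * j b₀ ∈ S := fun z hz => by simpa using hclear' z hz 1
  have hb₀0 : j b₀ ≠ 0 := IsFractionRing.to_map_ne_zero_of_mem_nonZeroDivisors hb₀
  obtain ⟨a, r, B, ⟨c, hac⟩, ha, hr', hB, hcount⟩ := generic_count d (R := k') (K := k') (L := L)
    (IntermediateField.fg_top_iff.2 (Algebra.EssFiniteType.of_comp k k' L)) hc t ht A' ⟨_, rfl⟩
    (fun l => by
      obtain ⟨p, q, hq, rfl⟩ := IsFractionRing.div_surjective A l
      exact ⟨_, hjA p, _, hjA q, IsFractionRing.to_map_ne_zero_of_mem_nonZeroDivisors hq, rfl⟩) ⟨j b₀, hjA b₀⟩ hb₀0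
  obtain ⟨α, hα⟩ := hclear _ a.2
  change j α = (a : L) * j b₀ at hα
  have hjα : j α ≠ 0 := hα ▸ mul_ne_zero ha hb₀0
  have hα0 : α ≠ 0 := fun h => hjα (by rw [h, map_zero])
  obtain ⟨D, hD⟩ := card_killing_le k A hr α hα0
  have hSA : S ≤ A'.restrictScalars k := by
    rintro _ ⟨x, rfl⟩
    exact hjA x
  let sS : S := ⟨j α, α, rfl⟩
  let sA : A'.restrictScalars k := ⟨j α, hjA α⟩
  let T : Subalgebra k L := Algebra.adjoin k ((A' : Set L) ∪ {(j α)⁻¹})
  have hAT : A'.restrictScalars k ≤ T := fun v hv => Algebra.subset_adjoin (Or.inl hv)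
  have hinv : (j α)⁻¹ ∈ T := Algebra.subset_adjoin (Or.inr rfl)
  have hTS : ∀ v ∈ T, ∃ n : ℕ, v * (j α) ^ n ∈ S := fun v hv => by
    refine exists_mem_pow sS.2 (fun w hw => ⟨1, ?_⟩) hv
    rw [pow_one]
    rcases hw with hw | rfl
    · show w * j α ∈ S
      rw [hα, ← mul_assoc]
      exact hclear _ (mul_mem hw a.2)
    · rw [inv_mul_cancel₀ hjα]; exact one_mem _
  have hTA : ∀ v ∈ T, ∃ n : ℕ, v * (j α) ^ n ∈ A'.restrictScalars k := fun v hv => by
    obtain ⟨n, hn⟩ := hTS v hv
    exact ⟨n, hSA hn⟩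
  refine ⟨(m : ℝ) * B + D, by positivity, fun K _ _ _ => ?_⟩
  let ψ : k →+* K := algebraMap k K
  haveI hfinA : Finite (A →ₐ[k] K) := Finite.of_injective (fun (φ : A →ₐ[k] K) (v : XA) => φ v.1)
    fun φ φ' h => AlgHom.ext_of_adjoin_eq_top hXA fun v hv => congrFun h ⟨v, hv⟩
  refine ⟨hfinA, ?_⟩
  obtain ⟨e₁⟩ := nonempty_equiv_loc ψ S T (hSA.trans hAT) sS hjα hinv hTS
  obtain ⟨e₂⟩ := nonempty_equiv_loc ψ (A'.restrictScalars k) T hAT sA hjα hinv hTA
  let eA : A ≃ₐ[k] S := AlgEquiv.ofInjective j (IsFractionRing.injective A L)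
  let e₀ : {φ : A →ₐ[k] K // ¬ φ α = 0} ≃ Pts ψ α :=
    { toFun := fun φ => ⟨φ.1.toRingHom, RingHom.ext φ.1.commutes, φ.2⟩
      invFun := fun φ => ⟨{ φ.1 with commutes' := RingHom.congr_fun φ.2.1 }, φ.2.2⟩
      left_inv := fun _ => rfl
      right_inv := fun _ => rfl }
  let a' : A'.restrictScalars k := a
  let b' : A'.restrictScalars k := ⟨j b₀, hjA b₀⟩
  let c' : A'.restrictScalars k := c
  have hsA : sA = a' * b' := Subtype.ext hα
  have hac' : a' = b' * c' := hac
  let iK : k' →+* A'.restrictScalars k := algebraMap k' A'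
  have hmap : ∀ x : k, iK (algebraMap k k' x) = algebraMap k (A'.restrictScalars k) x := fun x =>
    Subtype.ext (IsScalarTower.algebraMap_apply k k' L x).symm
  let toσ : ∀ φ : A'.restrictScalars k →+* K, φ.comp (algebraMap k (A'.restrictScalars k)) = ψ → (k' →ₐ[k] K) :=
    fun φ h => { φ.comp iK with commutes' := fun x => (congrArg φ (hmap x)).trans (RingHom.congr_fun h x) }
  let e₃ : Pts ψ sA ≃ Σ σ : k' →ₐ[k] K, Pts σ.toRingHom a :=
    { toFun := fun φ => ⟨toσ φ.1 φ.2.1, ⟨φ.1, rfl, fun h0 => φ.2.2 (by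
          have h0' : φ.1 a' = 0 := h0
          exact (congrArg φ.1 hsA).trans (by rw [map_mul, h0', zero_mul]))⟩⟩
      invFun := fun p => ⟨p.2.1, RingHom.ext fun x =>
          (congrArg p.2.1 (hmap x).symm).trans ((RingHom.congr_fun p.2.2.1 (algebraMap k k' x)).trans (p.1.commutes x)), by
          let φ : A'.restrictScalars k →+* K := p.2.1
          have h3 : φ a' ≠ 0 := p.2.2.2
          show φ sA ≠ 0
          rw [hsA, map_mul]
          refine mul_ne_zero h3 fun h0 => h3 ?_
          rw [hac', map_mul, h0, zero_mul]⟩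
      left_inv := fun φ => rfl
      right_inv := fun p => by
        rcases p with ⟨σ, ⟨φ, hφ, hφ'⟩⟩
        have h' : RingHom.comp (φ : A'.restrictScalars k →+* K) (algebraMap k (A'.restrictScalars k)) = ψ :=
          RingHom.ext fun x =>
            (congrArg φ (hmap x).symm).trans ((RingHom.congr_fun hφ (algebraMap k k' x)).trans (σ.commutes x))
        obtain rfl : toσ φ h' = σ := AlgHom.ext fun z => RingHom.congr_fun hφ z
        rfl }
  have hσ : ∀ σ : k' →ₐ[k] K, σ.toRingHom r ≠ 0 := fun σ => (map_ne_zero _).2 hr'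
  haveI : ∀ σ : k' →ₐ[k] K, Finite (Pts σ.toRingHom a) := fun σ => (hcount K σ.toRingHom (hσ σ)).1
  haveI : Finite (k' →ₐ[k] K) := Finite.of_injective (fun σ => (σ : k' → K)) DFunLike.coe_injective
  letI := Fintype.ofFinite (k' →ₐ[k] K)
  let e := e₀.trans ((ptsCongr ψ eA α).trans ((e₁.trans e₂.symm).trans e₃))
  obtain ⟨hfin0, hkill⟩ := hD K
  have hsplit : Nat.card (A →ₐ[k] K) = Nat.card {φ : A →ₐ[k] K // φ α = 0} +
      ∑ σ : k' →ₐ[k] K, Nat.card (Pts σ.toRingHom a) := by
    rw [← Nat.card_congr (Equiv.sumCompl fun φ : A →ₐ[k] K => φ α = 0), Nat.card_sum, Nat.card_congr e, Nat.card_sigma]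
  have hcardσ := card_algHom_finite k k' K
  set Q : ℝ := (Nat.card K : ℝ)
  have hQ : 1 ≤ Q := by simp only [Q]; exact_mod_cast Nat.card_pos
  have hs0 : 0 ≤ Real.sqrt Q := Real.sqrt_nonneg _
  have hsQ : Real.sqrt Q ≤ Q := by
    rw [Real.sqrt_le_iff]
    exact ⟨by linarith, by nlinarith⟩
  set Z : ℝ := (Nat.card {φ : A →ₐ[k] K // φ α = 0} : ℝ) with hZ
  have hkill' : Z * Q ≤ (D : ℝ) * Q ^ d := by
    simp only [Z, Q]; exact_mod_cast hkill
  have hZ0 : 0 ≤ Z := Nat.cast_nonneg _
  rw [hsplit]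
  push_cast
  refine ⟨fun hdvd => ?_, fun hndvd => ?_⟩
  · rw [if_pos hdvd, Nat.card_eq_fintype_card, ← Finset.card_univ] at hcardσ
    change _ = m at hcardσ
    have hsum : |∑ σ : k' →ₐ[k] K, (Nat.card (Pts σ.toRingHom a) : ℝ) - (m : ℝ) * Q ^ d| * Real.sqrt Q ≤ (m : ℝ) * B * Q ^ d := by
      rw [← hcardσ, show ((Finset.univ : Finset (k' →ₐ[k] K)).card : ℝ) * Q ^ d = ∑ _σ : k' →ₐ[k] K, Q ^ d by
        rw [Finset.sum_const, nsmul_eq_mul], ← Finset.sum_sub_distrib, mul_assoc]
      refine le_trans (mul_le_mul_of_nonneg_right (Finset.abs_sum_le_sum_abs _ _) hs0) ?_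
      rw [Finset.sum_mul, ← nsmul_eq_mul, ← Finset.sum_const]
      exact Finset.sum_le_sum fun σ _ => (hcount K σ.toRingHom (hσ σ)).2
    rw [add_sub_assoc]
    refine le_trans (mul_le_mul_of_nonneg_right (abs_add_le _ _) hs0) ?_
    rw [add_mul, add_mul, ← hZ, abs_of_nonneg hZ0]
    have := mul_le_mul_of_nonneg_left hsQ hZ0
    linarith
  · haveI : IsEmpty (k' →ₐ[k] K) := by
      rw [if_neg hndvd] at hcardσ
      exact (Nat.card_eq_zero.1 hcardσ).resolve_right fun h => not_finite (k' →ₐ[k] K)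
    rw [Finset.univ_eq_empty, Finset.sum_empty, add_zero, ← hZ]
    have : (0 : ℝ) ≤ (m : ℝ) * B * Q ^ d := by positivity
    linarith

end LWQual
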