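import Groth.Agent.LWQualLib.Basic
import Groth.Agent.FFLib.MonicPlane
import Groth.Agent.FFLib.DegOne

/-!
# Rational places over the simple points of a plane model
-/

set_option autoImplicit false
set_option maxHeartbeats 1000000

noncomputable section

open Polynomial

namespace LWQual

open Groth.Agent.FFLib FunFld

variable {k L : Type*} [Field k] [Field L] [Algebra k L]

theorem ev_mem_adjoin (x y : L) (p : k[X][X]) :
    ev (algebraMap k L) x y p ∈ Algebra.adjoin k ({x, y} : Set L) := by
  induction p using Polynomial.induction_on' with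
  | add p q hp hq => rw [map_add]; exact add_mem hp hq
  | monomial i a =>
    rw [← C_mul_X_pow_eq_monomial, map_mul, map_pow, ev_C, ev_X]
    refine Subalgebra.mul_mem _ ?_ (pow_mem (Algebra.subset_adjoin (by simp)) i)
    exact aeval_mem_adjoin x y a

theorem ev_id_eq (u v : k) (p : k[X][X]) : ev (RingHom.id k) u v p = (p.eval (C v)).eval u := by
  refine RingHom.congr_fun (?_ : ev (RingHom.id k) u v = (evalRingHom u).comp (evalRingHom (C v))) p
  refine Polynomial.ringHom_ext' (Polynomial.ringHom_ext' (RingHom.ext fun r => ?_) ?_) ?_ <;> simp [ev]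

theorem v_ev_sub_lt (P : Place k L) {x y : L} {u v : k} (hu : P.1 (x - algebraMap k L u) < 1)
    (hv : P.1 (y - algebraMap k L v) < 1) (p : k[X][X]) :
    P.1 (ev (algebraMap k L) x y p - algebraMap k L (ev (RingHom.id k) u v p)) < 1 := by
  have hle : ∀ {z : L} {c : k}, P.1 (z - algebraMap k L c) < 1 → P.1 z ≤ 1 := fun {z c} h => by
    rw [show z = (z - algebraMap k L c) + algebraMap k L c by ring]
    exact (P.1.map_add _ _).trans (max_le h.le (P.2.1 c))
  have hmul : ∀ {a b : L} {c d : k}, P.1 (a - algebraMap k L c) < 1 → P.1 (b - algebraMap k L d) < 1 →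
      P.1 (a * b - algebraMap k L (c * d)) < 1 := fun {a b c d} ha hb => by
    rw [map_mul, show a * b - algebraMap k L c * algebraMap k L d =
      a * (b - algebraMap k L d) + (a - algebraMap k L c) * algebraMap k L d by ring]
    refine (P.1.map_add _ _).trans_lt (max_lt ?_ ?_)
    · rw [map_mul]; exact (mul_le_of_le_one_left' (hle ha)).trans_lt hb
    · rw [map_mul]; exact (mul_le_of_le_one_right' (P.2.1 d)).trans_lt ha
  have hC : ∀ q : k[X], P.1 (q.eval₂ (algebraMap k L) x - algebraMap k L (q.eval u)) < 1 := fun q => by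
    induction q using Polynomial.induction_on with
    | C a => simp
    | add f g hf hg =>
      rw [eval₂_add, eval_add, map_add,
        show ∀ a b c d : L, a + b - (c + d) = (a - c) + (b - d) from fun a b c d => by ring]
      exact (P.1.map_add _ _).trans_lt (max_lt hf hg)
    | monomial i a ih =>
      rw [pow_succ, ← mul_assoc, eval₂_mul, eval₂_X, eval_mul, eval_X]
      exact hmul ih hu
  induction p using Polynomial.induction_on with
  | C a => rw [ev_C, ev_C]; exact hC a
  | add f g hf hg =>
    rw [map_add, map_add, map_add, show ∀ a b c d : L, a + b - (c + d) = (a - c) + (b - d) from fun a b c d => by ring]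
    exact (P.1.map_add _ _).trans_lt (max_lt hf hg)
  | monomial i a ih =>
    rw [pow_succ, ← mul_assoc]
    simp only [map_mul _ (C a * X ^ i) X, ev_X]
    exact hmul ih hv

theorem v_ev_eq_one (P : Place k L) {x y : L} {u v : k} (hu : P.1 (x - algebraMap k L u) < 1)
    (hv : P.1 (y - algebraMap k L v) < 1) {p : k[X][X]} (hp : ev (RingHom.id k) u v p ≠ 0) :
    P.1 (ev (algebraMap k L) x y p) = 1 := by
  rw [show ev (algebraMap k L) x y p = algebraMap k L (ev (RingHom.id k) u v p) +
    (ev (algebraMap k L) x y p - algebraMap k L (ev (RingHom.id k) u v p)) by ring]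
  rw [P.1.map_add_eq_of_lt_left ((v_ev_sub_lt P hu hv p).trans_eq (v_const P hp).symm)]
  exact v_const P hp

theorem ev_eq_zero_of (P : Place k L) {x y : L} {u v : k} (hu : P.1 (x - algebraMap k L u) < 1)
    (hv : P.1 (y - algebraMap k L v) < 1) {p : k[X][X]} (hp : P.1 (ev (algebraMap k L) x y p) < 1) :
    ev (RingHom.id k) u v p = 0 := by
  by_contra h
  rw [v_ev_eq_one P hu hv h] at hp
  exact lt_irrefl _ hp

variable (hK : IsFunctionField k L) (x y : L) (hx : Transcendental k x) (Φ : k[X][X])
  (hker : ∀ P : k[X][X], ev (algebraMap k L) x y P = 0 → Φ ∣ P)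
  (hgen : ∀ l : L, ∃ (q : k[X]) (P : k[X][X]), q ≠ 0 ∧ aeval x q * l = ev (algebraMap k L) x y P)
  {U V : k[X][X]} {h : k[X]} (hcert : U * Φ + V * derivative Φ = C h)

include hK hx hker in
/-- There is a place over every point of the plane model. -/
theorem exists_place_over {u v : k} (hp : ev (RingHom.id k) u v Φ = 0) :
    ∃ P : Place k L, P.1 (x - algebraMap k L u) < 1 ∧ P.1 (y - algebraMap k L v) < 1 := by
  let A : Subring L := (Algebra.adjoin k ({x, y} : Set L)).toSubring
  let xu : A := ⟨x - algebraMap k L u, sub_mem (Algebra.subset_adjoin (by simp)) (Subalgebra.algebraMap_mem _ u)⟩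
  let yv : A := ⟨y - algebraMap k L v, sub_mem (Algebra.subset_adjoin (by simp)) (Subalgebra.algebraMap_mem _ v)⟩
  have hne : Ideal.span {xu, yv} ≠ ⊤ := by
    rw [Ne, Ideal.eq_top_iff_one, Ideal.mem_span_pair]
    rintro ⟨⟨a, ha⟩, ⟨b, hb⟩, hab⟩
    obtain ⟨pa, hpa⟩ := exists_ev2 x y ha
    obtain ⟨pb, hpb⟩ := exists_ev2 x y hb
    have e : ∀ p : k[X][X], ev2 x y p = ev (algebraMap k L) x y p := fun p => rfl
    rw [e] at hpa hpb
    have h1 : ev (algebraMap k L) x y (pa * (C X - C (C u)) + pb * (X - C (C v)) - 1) = 0 := by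
      simp only [map_sub, map_add, map_mul, map_one, ev_CX, ev_CC, ev_X, hpa, hpb, sub_eq_zero]
      exact congrArg Subtype.val hab
    obtain ⟨D, hD⟩ := hker _ h1
    have h2 := congrArg (ev (RingHom.id k) u v) hD
    simp only [map_sub, map_add, map_mul, map_one, ev_CX, ev_CC, ev_X, RingHom.id_apply, sub_self, mul_zero,
      add_zero, zero_sub, hp, zero_mul] at h2
    simp at h2
  have hne0 : Ideal.span {xu, yv} ≠ ⊥ := fun h => by
    have h1 : xu ∈ Ideal.span {xu, yv} := Ideal.subset_span (by simp)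
    rw [h, Ideal.mem_bot] at h1
    exact hx ⟨X - C u, X_sub_C_ne_zero u, by simpa [xu] using congrArg Subtype.val h1⟩
  obtain ⟨P, -, hP⟩ := exists_place_of_ideal hK A (fun c => Subalgebra.algebraMap_mem _ c) _ hne hne0
  exact ⟨P, hP xu (Ideal.subset_span (by simp)), hP yv (Ideal.subset_span (by simp))⟩

include hK hx hker hgen hcert in
/-- At a simple point every element is a power of `x - u` times a unit. -/
theorem exists_local_form {u v : k} (hp : ev (RingHom.id k) u v Φ = 0) (hh : h.eval u ≠ 0)
    (hroot : ev (algebraMap k L) x y Φ = 0) {z : L} (hz : z ≠ 0) :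
    ∃ (m : ℤ) (s t : k[X][X]), ev (RingHom.id k) u v s ≠ 0 ∧ ev (RingHom.id k) u v t ≠ 0 ∧
      z * ev (algebraMap k L) x y t = (x - algebraMap k L u) ^ m * ev (algebraMap k L) x y s := by
  classical
  obtain ⟨P, hPx, hPy⟩ := exists_place_over hK x y hx Φ hker hp
  set π := x - algebraMap k L u with hπ
  have hπ0 : π ≠ 0 := fun h0 => hx ⟨X - C u, X_sub_C_ne_zero u, by simpa [π] using h0⟩
  have hπ1 : 0 < P.ord π := (v_lt_one_iff P hπ0).1 hPx
  -- the equation near the point
  obtain ⟨B, hB⟩ : X - C (C v) ∣ Φ - C (Φ.eval (C v)) :=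
    dvd_iff_isRoot.2 (by simp [IsRoot])
  obtain ⟨A, hA⟩ : X - C u ∣ Φ.eval (C v) := dvd_iff_isRoot.2 (by
    rw [IsRoot]
    rw [ev_id_eq] at hp
    exact hp)
  have hΦeq : Φ = (X - C (C v)) * B + (C X - C (C u)) * C A := by
    rw [← hB, ← map_sub C, ← map_mul, ← hA, sub_add_cancel]
  have hBne : ev (RingHom.id k) u v B ≠ 0 := by
    intro hB0
    have h1 := congrArg (ev (RingHom.id k) u v) hcert
    rw [map_add, map_mul, map_mul, hp, mul_zero, zero_add, hΦeq] at h1
    simp only [derivative_add, derivative_mul, derivative_sub, derivative_X, derivative_C, sub_zero, one_mul,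
      mul_zero, add_zero, zero_mul, map_add, map_mul, map_sub, ev_X, ev_CC, RingHom.id_apply, sub_self,
      hB0] at h1
    rw [ev_C, eval₂_id] at h1
    exact hh h1.symm
  have hL := hroot
  rw [hΦeq] at hL
  simp only [map_add, map_mul, map_sub, ev_X, ev_CC, ev_CX, ← hπ] at hL
  -- the descent
  have key : ∀ (N : ℕ) (p : k[X][X]), ev (algebraMap k L) x y p ≠ 0 → P.ord (ev (algebraMap k L) x y p) ≤ N →
      ∃ (m : ℕ) (s t : k[X][X]), ev (RingHom.id k) u v s ≠ 0 ∧ ev (RingHom.id k) u v t ≠ 0 ∧
        ev (algebraMap k L) x y p * ev (algebraMap k L) x y t = π ^ m * ev (algebraMap k L) x y s := by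
    intro N
    induction N using Nat.strong_induction_on with
    | _ N ih =>
      intro p hp0 hpN
      by_cases hpuv : ev (RingHom.id k) u v p = 0
      swap
      · exact ⟨0, p, 1, hpuv, by simp, by simp⟩
      obtain ⟨P2, hP2⟩ : X - C (C v) ∣ p - C (p.eval (C v)) := dvd_iff_isRoot.2 (by simp [IsRoot])
      obtain ⟨P1, hP1⟩ : X - C u ∣ p.eval (C v) := dvd_iff_isRoot.2 (by
        rw [IsRoot]
        rw [ev_id_eq] at hpuv
        exact hpuv)
      have hpeq : p = (X - C (C v)) * P2 + (C X - C (C u)) * C P1 := by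
        rw [← hP2, ← map_sub C, ← map_mul, ← hP1, sub_add_cancel]
      let p' : k[X][X] := C P1 * B - C A * P2
      have hp' : ev (algebraMap k L) x y p * ev (algebraMap k L) x y B = π * ev (algebraMap k L) x y p' := by
        rw [hpeq]
        simp only [p', map_add, map_mul, map_sub, ev_X, ev_CC, ev_CX, ← hπ]
        linear_combination (ev (algebraMap k L) x y P2) * hL
      have hB1 : ev (algebraMap k L) x y B ≠ 0 := fun h0 => by
        have := v_ev_eq_one P hPx hPy hBne
        rw [h0, map_zero] at this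
        exact zero_ne_one this
      have hp'0 : ev (algebraMap k L) x y p' ≠ 0 := fun h0 => by
        rw [h0, mul_zero] at hp'
        exact mul_ne_zero hp0 hB1 hp'
      have hord := congrArg P.ord hp'
      rw [ord_mul P hp0 hB1, ord_mul P hπ0 hp'0, (v_eq_one_iff P hB1).1 (v_ev_eq_one P hPx hPy hBne),
        add_zero] at hord
      have hnn : 0 ≤ P.ord (ev (algebraMap k L) x y p') := by
        rw [← v_le_one_iff]
        rw [show ev (algebraMap k L) x y p' = algebraMap k L (ev (RingHom.id k) u v p') +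
          (ev (algebraMap k L) x y p' - algebraMap k L (ev (RingHom.id k) u v p')) by ring]
        exact (P.1.map_add _ _).trans (max_le (P.2.1 _) (v_ev_sub_lt P hPx hPy p').le)
      obtain ⟨m, s, t, hs, ht, he⟩ := ih (N - 1) (by omega) p' hp'0 (by omega)
      refine ⟨m + 1, s, B * t, hs, by rw [map_mul]; exact mul_ne_zero hBne ht, ?_⟩
      rw [map_mul, ← mul_assoc, hp', mul_assoc, he, pow_succ]
      ring
  obtain ⟨q, p, hq, hqp⟩ := hgen z
  have hq0 : aeval x q ≠ 0 := fun h0 => hx ⟨q, hq, h0⟩
  have hqe : ev (algebraMap k L) x y (C q) = aeval x q := by rw [ev_C]; rfl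
  have hp0 : ev (algebraMap k L) x y p ≠ 0 := by rw [← hqp]; exact mul_ne_zero hq0 hz
  obtain ⟨m, s, t, hs, ht, he⟩ := key _ p hp0 (le_abs_self _ |>.trans_eq (Int.natCast_natAbs _).symm)
  obtain ⟨m', s', t', hs', ht', he'⟩ := key _ (C q) (by rw [hqe]; exact hq0)
    (le_abs_self _ |>.trans_eq (Int.natCast_natAbs _).symm)
  refine ⟨(m : ℤ) - m', s * t', t * s', by rw [map_mul]; exact mul_ne_zero hs ht',
    by rw [map_mul]; exact mul_ne_zero ht hs', ?_⟩
  rw [map_mul, map_mul, zpow_sub₀ hπ0, zpow_natCast, zpow_natCast, div_mul_eq_mul_div, eq_div_iff (pow_ne_zero _ hπ0)]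
  rw [hqe] at he'
  rw [← hqp] at he
  linear_combination (ev (algebraMap k L) x y t') * he - (z * ev (algebraMap k L) x y t) * he'

end LWQual
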