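import Groth.Agent.LWQualLib.Weil
import Groth.Agent.LWQualLib.Places
import Groth.Agent.LWQualLib.AbsIrr

/-!
# The number of points of an absolutely irreducible plane curve over a finite field
-/

set_option autoImplicit false
set_option maxHeartbeats 1000000
set_option backward.isDefEq.respectTransparency false

noncomputable section

open Polynomial Module

namespace LWQual

open Groth.Agent.FFLib FunFld

variable {k L : Type*} [Field k] [Field L] [Algebra k L]
variable (hK : IsFunctionField k L) (x y : L) (hx : Transcendental k x) (Φ : k[X][X])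
  (hΦ : Φ.Monic) (hroot : ev (algebraMap k L) x y Φ = 0)
  (hker : ∀ P : k[X][X], ev (algebraMap k L) x y P = 0 → Φ ∣ P)
  (hgen : ∀ l : L, ∃ (q : k[X]) (P : k[X][X]), q ≠ 0 ∧ aeval x q * l = ev (algebraMap k L) x y P)
  {U V : k[X][X]} {h : k[X]} (hcert : U * Φ + V * derivative Φ = C h)

theorem mul_mem_L_add {D E : Divisor k L} {a b : L} (ha : a ∈ FunFld.L D) (hb : b ∈ FunFld.L E) :
    a * b ∈ FunFld.L (D + E) := fun P => by
  rw [map_mul, Finsupp.add_apply, WithZero.exp_add]
  exact mul_le_mul' (ha P) (hb P)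

include hx hΦ hroot hgen in
/-- The function field is finite over `k(x)`, of degree at most that of the equation. -/
theorem finite_over : FiniteDimensional (IntermediateField.adjoin k ({x} : Set L)) L ∧
    finrank (IntermediateField.adjoin k ({x} : Set L)) L ≤ Φ.natDegree := by
  set E := IntermediateField.adjoin k ({x} : Set L) with hE
  let f : k[X] →+* E :=
    (aeval (⟨x, IntermediateField.mem_adjoin_simple_self k x⟩ : E) : k[X] →ₐ[k] E).toRingHom
  have hf : (algebraMap E L).comp f = (aeval x : k[X] →ₐ[k] L).toRingHom := RingHom.ext fun p =>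
    (Polynomial.aeval_algHom_apply E.val _ p).symm
  have hev : ∀ p : k[X][X], aeval y (p.map f) = ev (algebraMap k L) x y p := fun p => by
    rw [aeval_def, eval₂_map, hf]
    rfl
  have hint : IsIntegral E y := ⟨Φ.map f, hΦ.map f, by rw [← aeval_def, hev, hroot]⟩
  have htop : IntermediateField.adjoin E ({y} : Set L) = ⊤ := by
    rw [eq_top_iff]
    intro l _
    obtain ⟨q, P, hq, hP⟩ := hgen l
    have hq0 : aeval x q ≠ 0 := fun h0 => hx ⟨q, hq, h0⟩
    have hl : l = algebraMap E L (f q)⁻¹ * aeval y (P.map f) := by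
      rw [map_inv₀, hev, ← hP]
      rw [show algebraMap E L (f q) = aeval x q from RingHom.congr_fun hf q]
      field_simp
    rw [hl]
    exact mul_mem (IntermediateField.algebraMap_mem _ _)
      (IntermediateField.algebra_adjoin_le_adjoin _ _ (aeval_mem_adjoin_singleton _ _))
  have hfdA := IntermediateField.adjoin.finiteDimensional hint
  rw [htop] at hfdA
  refine ⟨?_, ?_⟩
  · exact Module.Finite.equiv (IntermediateField.topEquiv (F := E) (E := L)).toLinearEquiv
  · rw [← IntermediateField.finrank_top', ← htop, IntermediateField.adjoin.finrank hint,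
      ← hΦ.natDegree_map f]
    exact natDegree_le_of_dvd (minpoly.dvd E y (by rw [hev, hroot])) (hΦ.map f).ne_zero

include hΦ hroot in
/-- The order of `y` at the poles of `x`. -/
theorem mem_L_smul_pole (hK : IsFunctionField k L) {c : ℕ} (hc : ∀ j, (Φ.coeff j).natDegree ≤ c) :
    y ∈ FunFld.L (c • pole (k := k) x) := by
  intro P
  rw [Finsupp.smul_apply, pole_apply hK]
  rcases le_or_gt 0 (P.ord x) with h0 | h0
  · rw [max_eq_right (by omega), smul_zero, WithZero.exp_zero]
    exact v_le_one_of_monic hΦ hroot P ((v_le_one_iff P x).2 h0)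
  · rw [max_eq_left (by omega)]
    by_contra hlt
    push Not at hlt
    set β := P.1 x with hβ
    have hx0 : x ≠ 0 := fun h => by rw [h] at h0; simp at h0
    have hβe : β = WithZero.exp (-P.ord x) := v_eq P hx0
    have hβ1 : 1 < β := (one_lt_v_iff P x).2 h0
    have hpow : ∀ m : ℕ, m ≤ c → β ^ m ≤ WithZero.exp (c • (-P.ord x)) := fun m hm => by
      rw [WithZero.exp_nsmul, ← hβe]
      exact pow_le_pow_right₀ hβ1.le hm
    have hy1 : 1 < P.1 y := (show (1 : WithZero (Multiplicative ℤ)) ≤ _ from
      le_of_eq_of_le (pow_zero β).symm (hpow 0 (Nat.zero_le _))).trans_lt hlt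
    have hy0 : y ≠ 0 := fun h => by rw [h, map_zero] at hy1; exact not_lt_zero' hy1
    have h1 : ev (algebraMap k L) x y Φ =
        y ^ Φ.natDegree + ∑ i ∈ Finset.range Φ.natDegree, aeval x (Φ.coeff i) * y ^ i := by
      show Polynomial.eval₂ _ y Φ = _
      rw [Polynomial.eval₂_eq_sum_range, Finset.sum_range_succ, hΦ.coeff_natDegree, map_one, one_mul, add_comm]
      rfl
    have h2 : P.1 (∑ i ∈ Finset.range Φ.natDegree, aeval x (Φ.coeff i) * y ^ i) < P.1 (y ^ Φ.natDegree) := by
      refine P.1.map_sum_lt ((Valuation.ne_zero_iff _).2 (pow_ne_zero _ hy0)) fun i hi => ?_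
      have hcoef : P.1 (aeval x (Φ.coeff i)) < P.1 y := by
        refine lt_of_le_of_lt ?_ hlt
        rw [aeval_eq_sum_range]
        refine P.1.map_sum_le fun j hj => ?_
        refine (v_smul_le P _ _).trans ?_
        rw [map_pow]
        exact hpow j ((Nat.lt_succ_iff.1 (Finset.mem_range.1 hj)).trans (hc i))
      rw [map_mul, map_pow, map_pow]
      calc P.1 (aeval x (Φ.coeff i)) * P.1 y ^ i < P.1 y * P.1 y ^ i :=
            mul_lt_mul_of_pos_right hcoef (pow_pos (zero_lt_one.trans hy1) i)
        _ = P.1 y ^ (i + 1) := by rw [pow_succ']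
        _ ≤ P.1 y ^ Φ.natDegree := pow_le_pow_right₀ hy1.le (Finset.mem_range.1 hi)
    rw [hroot] at h1
    have h3 := P.1.map_add_eq_of_lt_left h2
    rw [← h1, map_zero] at h3
    rw [← h3] at h2
    exact not_lt_zero' h2

include hK hx hΦ hroot hker hgen in
/-- The genus of the curve is bounded by `c n² + 1`. -/
theorem genus_le {c : ℕ} (hc : ∀ j, (Φ.coeff j).natDegree ≤ c) :
    genus k L ≤ c * Φ.natDegree ^ 2 + 1 := by
  classical
  obtain ⟨hfd, hfr⟩ := finite_over x y hx Φ hΦ hroot hgen
  set n := Φ.natDegree with hn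
  set B : Divisor k L := pole x with hB
  have hdeg : B.deg = finrank (IntermediateField.adjoin k ({x} : Set L)) L := deg_pole hK hx
  have hpos : 0 < B.deg := by rw [hdeg]; exact_mod_cast finrank_pos
  obtain ⟨N, hN⟩ := exists_delta_eq_genus hK
  let M := N.toNat
  have hell : (M + 1) * n ≤ ell ((M + c * n) • B) := by
    let f : Fin (M + 1) × Fin n → L := fun p => x ^ (p.1 : ℕ) * y ^ (p.2 : ℕ)
    have hli : LinearIndependent k f := by
      rw [Fintype.linearIndependent_iff]
      intro a ha
      let P : k[X][X] := ∑ p : Fin (M + 1) × Fin n, monomial (p.2 : ℕ) (monomial (p.1 : ℕ) (a p))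
      have hP : ev (algebraMap k L) x y P = 0 := by
        rw [← ha, map_sum]
        refine Finset.sum_congr rfl fun p _ => ?_
        rw [← C_mul_X_pow_eq_monomial, map_mul, map_pow, ev_C, ev_X, eval₂_monomial, Algebra.smul_def, mul_assoc]
      have hPd : P.degree < Φ.degree := by
        rw [degree_eq_natDegree hΦ.ne_zero, degree_lt_iff_coeff_zero]
        intro m hm
        rw [finsetSum_coeff]
        refine Finset.sum_eq_zero fun p _ => ?_
        rw [coeff_monomial, if_neg]
        have := p.2.2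
        omega
      have hP0 : P = 0 := eq_zero_of_dvd_of_degree_lt (hker P hP) hPd
      intro p
      have h1 := congrArg (fun q => (q.coeff (p.2 : ℕ)).coeff (p.1 : ℕ)) hP0
      simp only [P, finsetSum_coeff, coeff_zero] at h1
      rw [Finset.sum_eq_single p (fun q _ hq => by
        rw [coeff_monomial]
        split_ifs with h2
        · rw [coeff_monomial, if_neg]
          exact fun h3 => hq (Prod.ext (Fin.ext h3) (Fin.ext h2))
        · simp) (by simp)] at h1
      simpa using h1
    have hy' := mem_L_smul_pole x y Φ hΦ hroot hK hc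
    have hxp : ∀ a : ℕ, x ^ a ∈ FunFld.L (a • B) := fun a => by
      induction a with
      | zero => intro P; simp
      | succ a ih => rw [pow_succ, succ_nsmul]; exact mul_mem_L_add ih (mem_L_pole hK.1 x)
    have hyp : ∀ a : ℕ, y ^ a ∈ FunFld.L ((c * a) • B) := fun a => by
      induction a with
      | zero => intro P; simp
      | succ a ih => rw [pow_succ, Nat.mul_succ, add_nsmul]; exact mul_mem_L_add ih hy'
    have hmem : ∀ p, f p ∈ FunFld.L ((M + c * n) • B) := fun p => by
      refine L_mono ?_ (mul_mem_L_add (hxp p.1) (hyp p.2))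
      rw [← add_nsmul]
      refine nsmul_le_nsmul_left (pole_nonneg x) (Nat.add_le_add ?_ (Nat.mul_le_mul_left _ ?_))
      · exact Nat.lt_succ_iff.1 p.1.2
      · exact p.2.2.le
    haveI := finiteDimensional_L hK ((M + c * n) • B)
    have h2 : LinearIndependent k (fun p => (⟨f p, hmem p⟩ : FunFld.L ((M + c * n) • B))) :=
      LinearIndependent.of_comp (FunFld.L ((M + c * n) • B)).subtype hli
    simpa [ell] using h2.fintype_card_le_finrank
  have hδ := hN ((M + c * n) • B) (by
    rw [deg_nsmul]
    calc N ≤ (M : ℤ) := Int.self_le_toNat N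
      _ ≤ ((M + c * n : ℕ) : ℤ) := by push_cast; nlinarith
      _ ≤ ((M + c * n : ℕ) : ℤ) * B.deg := le_mul_of_one_le_right (Int.natCast_nonneg _) hpos)
  rw [delta, deg_nsmul] at hδ
  have h1 : B.deg ≤ n := by rw [hdeg]; exact_mod_cast hfr
  have h2 : ((M + c * n : ℕ) : ℤ) * B.deg ≤ ((M + c * n : ℕ) : ℤ) * n :=
    mul_le_mul_of_nonneg_left h1 (Int.natCast_nonneg _)
  have h3 : (((M + 1) * n : ℕ) : ℤ) ≤ ell ((M + c * n) • B) := by exact_mod_cast hell
  push_cast at h2 h3
  have h4 : (genus k L : ℤ) ≤ (c : ℤ) * n ^ 2 + 1 := by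
    rw [← hδ]
    push_cast
    nlinarith
  exact_mod_cast h4

include hK in
/-- Positive coefficients of an effective divisor bound the number of its places. -/
theorem card_le_deg {D : Divisor k L} (hD : 0 ≤ D) (S : Finset (Place k L)) (hS : ∀ P ∈ S, 1 ≤ D P) :
    (S.card : ℤ) ≤ D.deg := by
  classical
  have hsub : S ⊆ D.support := fun P hP => Finsupp.mem_support_iff.2 (by have := hS P hP; omega)
  calc (S.card : ℤ) = ∑ P ∈ S, 1 := by simp
    _ ≤ ∑ P ∈ S, D P * (P.deg : ℤ) := Finset.sum_le_sum fun P hP => by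
        have := deg_pos hK P
        have := hS P hP
        nlinarith
    _ ≤ ∑ P ∈ D.support, D P * (P.deg : ℤ) := Finset.sum_le_sum_of_subset_of_nonneg hsub fun P _ _ =>
        mul_nonneg (hD P) (Int.natCast_nonneg _)
    _ = D.deg := rfl

include hK hx hΦ hroot hker hgen hcert in
/-- The rational places over the good part of the plane model are its rational points. -/
theorem exists_equiv :
    Nonempty ({P : Place k L // P.deg = 1 ∧ 0 ≤ P.ord x ∧ P.1 (aeval x h) = 1} ≃
      {p : k × k // ev (RingHom.id k) p.1 p.2 Φ = 0 ∧ h.eval p.1 ≠ 0}) := by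
  classical
  have huniq : ∀ (P : Place k L) (z : L) (a b : k), P.1 (z - algebraMap k L a) < 1 →
      P.1 (z - algebraMap k L b) < 1 → a = b := fun P z a b ha hb => by
    by_contra hne
    have h1 := P.1.map_sub (z - algebraMap k L b) (z - algebraMap k L a)
    rw [show z - algebraMap k L b - (z - algebraMap k L a) = algebraMap k L (a - b) by rw [map_sub]; ring,
      v_const P (sub_ne_zero.2 hne)] at h1
    exact not_le.2 (max_lt hb ha) h1
  have hCh : ev (algebraMap k L) x y (C h) = aeval x h := by rw [ev_C]; rfl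
  have hEh : ∀ u v : k, ev (RingHom.id k) u v (C h) = h.eval u := fun u v => by rw [ev_C, eval₂_id]
  have hpt : ∀ P : {P : Place k L // P.deg = 1 ∧ 0 ≤ P.ord x ∧ P.1 (aeval x h) = 1},
      ∃ p : {p : k × k // ev (RingHom.id k) p.1 p.2 Φ = 0 ∧ h.eval p.1 ≠ 0},
        P.1.1 (x - algebraMap k L p.1.1) < 1 ∧ P.1.1 (y - algebraMap k L p.1.2) < 1 := by
    rintro ⟨P, hP, hxP, hhP⟩
    have hx1 : P.1 x ≤ 1 := (v_le_one_iff P x).2 hxP
    obtain ⟨u, hu⟩ := exists_const_sub_lt hP hx1
    obtain ⟨v, hv⟩ := exists_const_sub_lt hP (v_le_one_of_monic hΦ hroot P hx1)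
    refine ⟨⟨(u, v), ev_eq_zero_of P hu hv (by rw [hroot, map_zero]; exact zero_lt_one), fun h0 => ?_⟩, hu, hv⟩
    have h1 := v_ev_sub_lt P hu hv (C h)
    rw [hEh, h0, map_zero, sub_zero, hCh, hhP] at h1
    exact lt_irrefl _ h1
  choose e heu hev using hpt
  refine ⟨Equiv.ofBijective e ⟨?_, ?_⟩⟩
  · intro P Q hPQ
    apply Subtype.ext
    have hu := heu P
    have hv := hev P
    have hu' := heu Q
    have hv' := hev Q
    rw [← hPQ] at hu' hv'
    obtain ⟨hp, hne⟩ := (e P).2
    set u := (e P).1.1
    set v := (e P).1.2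
    have hπ0 : x - algebraMap k L u ≠ 0 := fun h0 => hx ⟨X - C u, X_sub_C_ne_zero u, by simpa using h0⟩
    refine place_ext_of_le P.1 Q.1 fun z hz => ?_
    rcases eq_or_ne z 0 with rfl | hz0
    · simp
    obtain ⟨m, s, t, hs, ht, he⟩ :=
      exists_local_form hK x y hx Φ hker hgen hcert hp hne hroot hz0
    have key : ∀ R : Place k L, R.1 (x - algebraMap k L u) < 1 → R.1 (y - algebraMap k L v) < 1 →
        R.ord z = m * R.ord (x - algebraMap k L u) := by
      intro R h1 h2
      have hs1 := v_ev_eq_one R h1 h2 hs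
      have ht1 := v_ev_eq_one R h1 h2 ht
      have hs0 : ev (algebraMap k L) x y s ≠ 0 := fun h0 => by rw [h0, map_zero] at hs1; exact zero_ne_one hs1
      have ht0 : ev (algebraMap k L) x y t ≠ 0 := fun h0 => by rw [h0, map_zero] at ht1; exact zero_ne_one ht1
      have := congrArg R.ord he
      rw [ord_mul R hz0 ht0, ord_mul R (zpow_ne_zero _ hπ0) hs0, ord_zpow, (v_eq_one_iff R hs0).1 hs1,
        (v_eq_one_iff R ht0).1 ht1] at this
      linarith
    rw [v_le_one_iff, key _ hu' hv']
    rw [v_le_one_iff, key _ hu hv] at hz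
    have h1 := (v_lt_one_iff P.1 hπ0).1 hu
    have h2 := (v_lt_one_iff Q.1 hπ0).1 hu'
    have hm : 0 ≤ m := nonneg_of_mul_nonneg_left hz h1
    positivity
  · rintro ⟨⟨u, v⟩, hp, hne⟩
    obtain ⟨P, hu, hv⟩ := exists_place_over hK x y hx Φ hker hp
    have hπ0 : x - algebraMap k L u ≠ 0 := fun h0 => hx ⟨X - C u, X_sub_C_ne_zero u, by simpa using h0⟩
    have hx1 : P.1 x ≤ 1 := by
      rw [show x = (x - algebraMap k L u) + algebraMap k L u by ring]
      exact (P.1.map_add _ _).trans (max_le hu.le (P.2.1 u))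
    have hh1 : P.1 (aeval x h) = 1 := by
      rw [← hCh]; exact v_ev_eq_one P hu hv (by rw [hEh]; exact hne)
    have hconst : ∀ z : L, P.1 z ≤ 1 → ∃ a : k, P.1 (z - algebraMap k L a) < 1 := by
      intro z hz
      rcases eq_or_ne z 0 with rfl | hz0
      · exact ⟨0, by simp⟩
      obtain ⟨m, s, t, hs, ht, he⟩ := exists_local_form hK x y hx Φ hker hgen hcert hp hne hroot hz0
      have hs1 := v_ev_eq_one P hu hv hs
      have ht1 := v_ev_eq_one P hu hv ht
      have hz' : P.1 z = P.1 (x - algebraMap k L u) ^ m := by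
        have := congrArg P.1 he
        rwa [map_mul, map_mul, hs1, ht1, mul_one, mul_one, map_zpow₀] at this
      rcases lt_trichotomy m 0 with hm | hm | hm
      · exfalso
        have h1 := (v_lt_one_iff P hπ0).1 hu
        rw [hz', ← map_zpow₀, v_le_one_iff, ord_zpow] at hz
        nlinarith
      · subst hm
        rw [zpow_zero, one_mul] at he
        set cs := ev (RingHom.id k) u v s
        set ct := ev (RingHom.id k) u v t
        refine ⟨cs / ct, ?_⟩
        have hts := v_ev_sub_lt P hu hv t
        have hss := v_ev_sub_lt P hu hv s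
        have h3 : P.1 ((z - algebraMap k L (cs / ct)) * ev (algebraMap k L) x y t) < 1 := by
          rw [sub_mul, he, show ev (algebraMap k L) x y s - algebraMap k L (cs / ct) * ev (algebraMap k L) x y t =
            (ev (algebraMap k L) x y s - algebraMap k L cs) -
              algebraMap k L (cs / ct) * (ev (algebraMap k L) x y t - algebraMap k L ct) by
            rw [mul_sub, ← map_mul, div_mul_cancel₀ _ ht]; ring]
          refine (P.1.map_sub _ _).trans_lt (max_lt hss ?_)
          rw [map_mul]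
          exact (mul_le_of_le_one_left' (P.2.1 _)).trans_lt hts
        rwa [map_mul, ht1, mul_one] at h3
      · refine ⟨0, ?_⟩
        rw [map_zero, sub_zero, hz', ← map_zpow₀, v_lt_one_iff P (zpow_ne_zero _ hπ0), ord_zpow]
        exact mul_pos hm ((v_lt_one_iff P hπ0).1 hu)
    have hdeg : P.deg = 1 := by
      refine finrank_eq_one (1 : IsLocalRing.ResidueField P.O) one_ne_zero fun w => ?_
      obtain ⟨⟨z, hz⟩, rfl⟩ := IsLocalRing.residue_surjective w
      obtain ⟨a, ha⟩ := hconst z hz
      refine ⟨a, ?_⟩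
      rw [Algebra.smul_def, mul_one, algebraMap_residue, eq_comm, ← sub_eq_zero, ← map_sub,
        residue_eq_zero_iff_lt]
      exact ha
    refine ⟨⟨P, hdeg, (v_le_one_iff P x).1 hx1, hh1⟩, Subtype.ext (Prod.ext ?_ ?_)⟩
    · exact huniq P x _ _ (heu ⟨P, hdeg, (v_le_one_iff P x).1 hx1, hh1⟩) hu
    · exact huniq P y _ _ (hev ⟨P, hdeg, (v_le_one_iff P x).1 hx1, hh1⟩) hv

end LWQual
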