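import Mathlib

/-!
# Points of birational algebras
-/

set_option autoImplicit false

noncomputable section

namespace LWQual

universe u

/-- The points over `ψ` where `a` does not vanish. -/
abbrev Pts {R A F : Type*} [CommRing R] [CommRing A] [Algebra R A] [Field F] (ψ : R →+* F) (a : A) : Type _ :=
  {φ : A →+* F // φ.comp (algebraMap R A) = ψ ∧ φ a ≠ 0}

variable {R : Type*} [CommRing R] {F : Type*} [Field F] (ψ : R →+* F)

/-- Points of isomorphic algebras. -/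
def ptsCongr {A A' : Type*} [CommRing A] [Algebra R A] [CommRing A'] [Algebra R A'] (e : A ≃ₐ[R] A') (a : A) :
    Pts ψ a ≃ Pts ψ (e a) where
  toFun φ := ⟨φ.1.comp e.symm.toRingEquiv.toRingHom,
    RingHom.ext fun r => by simpa using RingHom.congr_fun φ.2.1 r, by simpa using φ.2.2⟩
  invFun φ := ⟨φ.1.comp e.toRingEquiv.toRingHom,
    RingHom.ext fun r => by simpa using RingHom.congr_fun φ.2.1 r, by simpa using φ.2.2⟩
  left_inv φ := Subtype.ext (RingHom.ext fun x => by simp)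
  right_inv φ := Subtype.ext (RingHom.ext fun x => by simp)

variable {L : Type*} [Field L] [Algebra R L]

theorem nonempty_equiv_loc (S T : Subalgebra R L) (hST : S ≤ T) (s : S) (hs : (s : L) ≠ 0)
    (hinv : (s : L)⁻¹ ∈ T) (hT : ∀ t ∈ T, ∃ n : ℕ, t * (s : L) ^ n ∈ S) :
    Nonempty (Pts ψ s ≃ Pts ψ (1 : T)) := by
  let g : Pts ψ (1 : T) → Pts ψ s := fun φ => ⟨φ.1.comp (Subalgebra.inclusion hST).toRingHom,
    RingHom.ext fun r => by
      have := RingHom.congr_fun φ.2.1 r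
      simpa using this,
    fun h0 => φ.2.2 (by
      have e : (1 : T) = Subalgebra.inclusion hST s * ⟨_, hinv⟩ :=
        Subtype.ext (by simp [mul_inv_cancel₀ hs])
      have h0' : φ.1 (Subalgebra.inclusion hST s) = 0 := h0
      calc φ.1 1 = φ.1 (Subalgebra.inclusion hST s * ⟨_, hinv⟩) := congrArg φ.1 e
        _ = 0 := by rw [map_mul, h0', zero_mul])⟩
  have hinj : Function.Injective g := fun φ φ' h => by
    apply Subtype.ext
    ext t
    obtain ⟨n, hn⟩ := hT t.1 t.2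
    have e : t * (Subalgebra.inclusion hST s) ^ n = Subalgebra.inclusion hST ⟨_, hn⟩ := Subtype.ext (by simp)
    have h1 : ∀ z : S, φ.1 (Subalgebra.inclusion hST z) = φ'.1 (Subalgebra.inclusion hST z) :=
      fun z => RingHom.congr_fun (congrArg Subtype.val h) z
    have h2 := congrArg φ.1 e
    have h3 := congrArg φ'.1 e
    rw [map_mul, map_pow] at h2 h3
    rw [← h1, ← h1 ⟨_, hn⟩, ← h2] at h3
    exact (mul_right_cancel₀ (pow_ne_zero _ (g φ).2.2) h3).symm
  have hsurj : Function.Surjective g := fun φ => by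
    have key : ∀ (t : T) {n m : ℕ} (hn : (t : L) * (s : L) ^ n ∈ S) (hm : (t : L) * (s : L) ^ m ∈ S),
        φ.1 ⟨_, hn⟩ * φ.1 s ^ m = φ.1 ⟨_, hm⟩ * φ.1 s ^ n := fun t n m hn hm => by
      rw [← map_pow, ← map_pow, ← map_mul, ← map_mul]
      congr 1
      exact Subtype.ext (by push_cast; ring)
    choose N hN using fun t : T => hT t.1 t.2
    let f : T → F := fun t => φ.1 ⟨_, hN t⟩ / φ.1 s ^ N t
    have hf : ∀ (t : T) (n : ℕ) (hn : (t : L) * (s : L) ^ n ∈ S), f t = φ.1 ⟨_, hn⟩ / φ.1 s ^ n := fun t n hn => by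
      rw [div_eq_div_iff (pow_ne_zero _ φ.2.2) (pow_ne_zero _ φ.2.2)]
      exact key t (hN t) hn
    have hfS : ∀ z : S, f (Subalgebra.inclusion hST z) = φ.1 z := fun z => by
      rw [hf (Subalgebra.inclusion hST z) 0 (by simp)]
      simp only [pow_zero, div_one]
      congr 1
      exact Subtype.ext (by simp)
    let φ' : T →+* F :=
      { toFun := f
        map_one' := by
          rw [show (1 : T) = Subalgebra.inclusion hST 1 from (map_one _).symm, hfS, map_one]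
        map_zero' := by
          rw [show (0 : T) = Subalgebra.inclusion hST 0 from (map_zero _).symm, hfS, map_zero]
        map_mul' := fun a b => by
          have hab : ((a * b : T) : L) * (s : L) ^ (N a + N b) ∈ S := by
            rw [pow_add, Subalgebra.coe_mul, mul_mul_mul_comm]; exact mul_mem (hN a) (hN b)
          rw [hf (a * b) _ hab]
          simp only [f]
          rw [div_mul_div_comm, ← map_mul φ.1, ← pow_add]
          congr 2
          exact Subtype.ext (by simp only [Subalgebra.coe_mul, pow_add]; ring)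
        map_add' := fun a b => by
          have ha : (a : L) * (s : L) ^ (N a + N b) ∈ S := by
            rw [pow_add, ← mul_assoc]; exact mul_mem (hN a) (pow_mem s.2 _)
          have hb : (b : L) * (s : L) ^ (N a + N b) ∈ S := by
            rw [add_comm, pow_add, ← mul_assoc]; exact mul_mem (hN b) (pow_mem s.2 _)
          have hab : ((a + b : T) : L) * (s : L) ^ (N a + N b) ∈ S := by
            rw [Subalgebra.coe_add, add_mul]; exact add_mem ha hb
          rw [hf (a + b) _ hab, hf a _ ha, hf b _ hb, ← add_div, ← map_add φ.1]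
          congr 2
          exact Subtype.ext (by push_cast; ring) }
    refine ⟨⟨φ', RingHom.ext fun r => ?_, by rw [map_one]; exact one_ne_zero⟩, Subtype.ext (RingHom.ext hfS)⟩
    show f (algebraMap R T r) = ψ r
    rw [← RingHom.congr_fun φ.2.1 r, RingHom.comp_apply, ← hfS]
    rfl
  exact ⟨(Equiv.ofBijective g ⟨hinj, hsurj⟩).symm⟩

theorem exists_mem_pow {S : Subalgebra R L} {s : L} (hs : s ∈ S) {X : Set L}
    (hX : ∀ x ∈ X, ∃ n : ℕ, x * s ^ n ∈ S) {t : L} (ht : t ∈ Algebra.adjoin R X) :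
    ∃ n : ℕ, t * s ^ n ∈ S := by
  induction ht using Algebra.adjoin_induction with
  | mem x hx => exact hX x hx
  | algebraMap r => exact ⟨0, by rw [pow_zero, mul_one]; exact S.algebraMap_mem r⟩
  | add a b _ _ ha hb =>
    obtain ⟨n, hn⟩ := ha
    obtain ⟨m, hm⟩ := hb
    refine ⟨n + m, ?_⟩
    rw [add_mul]
    refine add_mem ?_ ?_
    · rw [pow_add, ← mul_assoc]; exact mul_mem hn (pow_mem hs _)
    · rw [add_comm, pow_add, ← mul_assoc]; exact mul_mem hm (pow_mem hs _)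
  | mul a b _ _ ha hb =>
    obtain ⟨n, hn⟩ := ha
    obtain ⟨m, hm⟩ := hb
    exact ⟨n + m, by rw [pow_add, mul_mul_mul_comm]; exact mul_mem hn hm⟩

theorem exists_den (S : Subalgebra R L) (hS : ∀ l : L, ∃ a ∈ S, ∃ b ∈ S, b ≠ 0 ∧ l = a / b) (X : Finset L) :
    ∃ s ∈ S, s ≠ 0 ∧ ∀ x ∈ X, x * s ∈ S := by
  classical
  induction X using Finset.induction_on with
  | empty => exact ⟨1, one_mem _, one_ne_zero, by simp⟩
  | @insert x X _ ih =>
    obtain ⟨s, hs, hs0, hX⟩ := ih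
    obtain ⟨a, ha, b, hb, hb0, rfl⟩ := hS x
    refine ⟨b * s, mul_mem hb hs, mul_ne_zero hb0 hs0, fun y hy => ?_⟩
    rcases Finset.mem_insert.1 hy with rfl | hy
    · rw [← mul_assoc, div_mul_cancel₀ _ hb0]; exact mul_mem ha hs
    · rw [mul_left_comm]; exact mul_mem hb (hX y hy)

/-- Two models of the same field have the same points off small closed sets. -/
theorem exists_equiv_pts (A B : Subalgebra R L) (hAfg : A.FG) (hBfg : B.FG)
    (hA : ∀ l : L, ∃ a ∈ A, ∃ b ∈ A, b ≠ 0 ∧ l = a / b) (hB : ∀ l : L, ∃ a ∈ B, ∃ b ∈ B, b ≠ 0 ∧ l = a / b)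
    (b : B) (hb : (b : L) ≠ 0) :
    ∃ (a : A) (b' : B), (a : L) ≠ 0 ∧ (b' : L) ≠ 0 ∧ b ∣ b' ∧
      ∀ (F : Type u) [Field F] (ψ : R →+* F), Nonempty (Pts ψ a ≃ Pts ψ b') := by
  classical
  obtain ⟨XA, hXA⟩ := hAfg
  obtain ⟨XB, hXB⟩ := hBfg
  obtain ⟨a₀, ha₀, ha₀0, hdA⟩ := exists_den A hA (insert (b : L)⁻¹ XB)
  obtain ⟨b₀, hb₀, hb₀0, hdB⟩ := exists_den B hB (insert a₀⁻¹ XA)
  -- `B` lies in the localisation of `A` at `a₀`
  have hBA : ∀ t ∈ B, ∃ n : ℕ, t * a₀ ^ n ∈ A := fun t ht => by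
    rw [← hXB] at ht
    exact exists_mem_pow ha₀ (fun x hx => ⟨1, by rw [pow_one]; exact hdA x (Finset.mem_insert_of_mem hx)⟩) ht
  obtain ⟨m, hm⟩ := hBA b₀ hb₀
  set a := a₀ * (b₀ * a₀ ^ m) with ha
  have haA : a ∈ A := mul_mem ha₀ hm
  have ha0 : a ≠ 0 := mul_ne_zero ha₀0 (mul_ne_zero hb₀0 (pow_ne_zero _ ha₀0))
  set b' := b₀ * (b : L) with hb'
  have hb'B : b' ∈ B := mul_mem hb₀ b.2
  have hb'0 : b' ≠ 0 := mul_ne_zero hb₀0 hb
  let X : Set L := (XA : Set L) ∪ (XB : Set L) ∪ {a₀⁻¹, b₀⁻¹, (b : L)⁻¹}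
  let T := Algebra.adjoin R X
  have hAT : A ≤ T := by rw [← hXA]; exact Algebra.adjoin_mono fun x hx => Or.inl (Or.inl hx)
  have hBT : B ≤ T := by rw [← hXB]; exact Algebra.adjoin_mono fun x hx => Or.inl (Or.inr hx)
  have h1 : a₀⁻¹ ∈ T := Algebra.subset_adjoin (Or.inr (by simp))
  have h2 : b₀⁻¹ ∈ T := Algebra.subset_adjoin (Or.inr (by simp))
  have h3 : (b : L)⁻¹ ∈ T := Algebra.subset_adjoin (Or.inr (by simp))
  have hTA : ∀ t ∈ T, ∃ n : ℕ, t * a ^ n ∈ A := fun t ht => by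
    refine exists_mem_pow haA (fun x hx => ⟨1, ?_⟩) ht
    rw [pow_one, ha]
    rcases hx with (hx | hx) | hx
    · exact mul_mem (by rw [← hXA]; exact Algebra.subset_adjoin hx) (mul_mem ha₀ hm)
    · rw [← mul_assoc]; exact mul_mem (hdA x (Finset.mem_insert_of_mem hx)) hm
    · rcases hx with rfl | rfl | rfl
      · rw [inv_mul_cancel_left₀ ha₀0]; exact hm
      · rw [← mul_assoc, mul_comm b₀⁻¹ a₀, mul_assoc, inv_mul_cancel_left₀ hb₀0]
        exact mul_mem ha₀ (pow_mem ha₀ _)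
      · rw [← mul_assoc]; exact mul_mem (hdA _ (Finset.mem_insert_self _ _)) hm
  have hTB : ∀ t ∈ T, ∃ n : ℕ, t * b' ^ n ∈ B := fun t ht => by
    refine exists_mem_pow hb'B (fun x hx => ⟨1, ?_⟩) ht
    rw [pow_one, hb']
    rcases hx with (hx | hx) | hx
    · rw [← mul_assoc]; exact mul_mem (hdB x (Finset.mem_insert_of_mem hx)) b.2
    · exact mul_mem (by rw [← hXB]; exact Algebra.subset_adjoin hx) (mul_mem hb₀ b.2)
    · rcases hx with rfl | rfl | rfl
      · rw [← mul_assoc]; exact mul_mem (hdB _ (Finset.mem_insert_self _ _)) b.2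
      · rw [inv_mul_cancel_left₀ hb₀0]; exact b.2
      · rw [mul_left_comm, inv_mul_cancel₀ hb, mul_one]; exact hb₀
  refine ⟨⟨a, haA⟩, ⟨b', hb'B⟩, ha0, hb'0, ⟨⟨b₀, hb₀⟩, Subtype.ext (mul_comm _ _)⟩, fun F _ ψ => ?_⟩
  obtain ⟨e₁⟩ := nonempty_equiv_loc ψ A T hAT ⟨a, haA⟩ ha0 (by
    show a⁻¹ ∈ T
    rw [ha, mul_inv, mul_inv, ← inv_pow]
    exact mul_mem h1 (mul_mem h2 (pow_mem h1 _))) hTA
  obtain ⟨e₂⟩ := nonempty_equiv_loc ψ B T hBT ⟨b', hb'B⟩ hb'0 (by
    show b'⁻¹ ∈ T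
    rw [hb', mul_inv]
    exact mul_mem h2 h3) hTB
  exact ⟨e₁.trans e₂.symm⟩

end LWQual
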