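import Groth.Agent.LWQualLib.Basic
import Mathlib

/-!
# Integral plane models of separable extensions of a rational function field
-/

set_option autoImplicit false
set_option maxHeartbeats 1000000
set_option backward.isDefEq.respectTransparency false

noncomputable section

open Polynomial

namespace LWQual

variable {R K L : Type*} [CommRing R] [IsDomain R] [Field K] [Algebra R K] [IsFractionRing R K]
  [Field L] [Algebra K L] [Algebra R L] [IsScalarTower R K L]

/-- Elements of a simple rational function field are ratios of polynomials over a subring with the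
same fraction field. -/
theorem exists_ratio (x : L) {e : L} (he : e ∈ IntermediateField.adjoin K ({x} : Set L))
    (hx : Transcendental K x) :
    ∃ a b : R[X], b ≠ 0 ∧ aeval x b * e = aeval x a := by
  obtain ⟨p, q, rfl⟩ := (IntermediateField.mem_adjoin_simple_iff K e).1 he
  rcases eq_or_ne q 0 with rfl | hq
  · exact ⟨0, 1, one_ne_zero, by simp⟩
  obtain ⟨⟨c, hc⟩, hc'⟩ := IsLocalization.integerNormalization_map_to_map (nonZeroDivisors R) q
  obtain ⟨⟨d, hd⟩, hd'⟩ := IsLocalization.integerNormalization_map_to_map (nonZeroDivisors R) p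
  set q' := IsLocalization.integerNormalization (nonZeroDivisors R) q
  set p' := IsLocalization.integerNormalization (nonZeroDivisors R) p
  have hev : ∀ (f : R[X]), aeval x (f.map (algebraMap R K)) = aeval x f := fun f => aeval_map_algebraMap K x f
  have hq0 : aeval x q ≠ 0 := fun h0 => hx ⟨q, hq, h0⟩
  have hp1 : aeval x p' = algebraMap R L d * aeval x p := by
    rw [← hev, hd']
    exact ((map_smul ((aeval x : K[X] →ₐ[K] L).restrictScalars R) _ _).trans (Algebra.smul_def _ _))
  have hq1 : aeval x q' = algebraMap R L c * aeval x q := by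
    rw [← hev, hc']
    exact ((map_smul ((aeval x : K[X] →ₐ[K] L).restrictScalars R) _ _).trans (Algebra.smul_def _ _))
  refine ⟨C c * p', C d * q', mul_ne_zero ?_ fun h0 => ?_, ?_⟩
  · rw [Ne, C_eq_zero]; exact nonZeroDivisors.ne_zero hd
  · rw [h0, Polynomial.map_zero] at hc'
    exact smul_ne_zero (nonZeroDivisors.ne_zero hc) hq hc'.symm
  · rw [map_mul, map_mul, aeval_C, aeval_C, hp1, hq1]
    field_simp

/-- A finite separable extension of a simple rational function field has a monic integral plane
model. -/
theorem exists_model (x : L) (hx : Transcendental K x)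
    [FiniteDimensional (IntermediateField.adjoin K ({x} : Set L)) L]
    [Algebra.IsSeparable (IntermediateField.adjoin K ({x} : Set L)) L] :
    ∃ (y : L) (F : R[X][X]), F.Monic ∧ ev (algebraMap R L) x y F = 0 ∧
      (∀ P : K[X][X], P.degree < F.degree → ev (algebraMap K L) x y P = 0 → P = 0) ∧
      (∀ l : L, ∃ (q : R[X]) (P : R[X][X]), q ≠ 0 ∧ aeval x q * l = ev (algebraMap R L) x y P) ∧
      ∃ (U V : R[X][X]) (h : R[X]), h ≠ 0 ∧ U * F + V * derivative F = C h := by
  classical
  set E := IntermediateField.adjoin K ({x} : Set L) with hE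
  obtain ⟨y₀, hy₀⟩ := Field.exists_primitive_element E L
  have hint₀ : IsIntegral E y₀ := Algebra.IsIntegral.isIntegral y₀
  set m := minpoly E y₀ with hm
  set n := m.natDegree with hn
  choose a b hb0 hab using fun i : ℕ => exists_ratio (R := R) (K := K) x (m.coeff i).2 hx
  set B : R[X] := ∏ i ∈ Finset.range n, b i with hB
  have hB0 : B ≠ 0 := Finset.prod_ne_zero_iff.2 fun i _ => hb0 i
  let A : ℕ → R[X] := fun i => a i * ∏ j ∈ (Finset.range n).erase i, b j
  have hA : ∀ i ∈ Finset.range n, aeval x B * (m.coeff i : L) = aeval x (A i) := fun i hi => by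
    rw [hB, ← Finset.mul_prod_erase _ _ hi, map_mul, map_mul, mul_right_comm, hab]
  have hinjR : Function.Injective (algebraMap R K) := IsFractionRing.injective R K
  have htr : ∀ f : R[X], aeval x f = 0 → f = 0 := fun f hf => by
    by_contra h0
    exact hx ⟨f.map (algebraMap R K), (Polynomial.map_ne_zero_iff hinjR).2 h0,
      by rw [aeval_map_algebraMap, hf]⟩
  have hBx : aeval x B ≠ 0 := fun h0 => hB0 (htr _ h0)
  let Be : E := ⟨aeval x B, by
    rw [← aeval_map_algebraMap K]
    exact IntermediateField.algebra_adjoin_le_adjoin _ _ (aeval_mem_adjoin_singleton _ _)⟩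
  set y : L := aeval x B * y₀ with hy
  set F : R[X][X] := X ^ n + ∑ i ∈ Finset.range n, C (A i * B ^ (n - i - 1)) * X ^ i with hF
  have hFlow : (∑ i ∈ Finset.range n, C (A i * B ^ (n - i - 1)) * X ^ i : R[X][X]).degree < n := by
    rw [← Fin.sum_univ_eq_sum_range (fun i => C (A i * B ^ (n - i - 1)) * X ^ i) n]
    exact degree_sum_fin_lt _
  have hFm : F.Monic := monic_X_pow_add hFlow
  have hFd : F.degree = n := by
    rw [hF, degree_add_eq_left_of_degree_lt (hFlow.trans_eq (degree_X_pow n).symm), degree_X_pow]
  have hmev : y₀ ^ n + ∑ i ∈ Finset.range n, (m.coeff i : L) * y₀ ^ i = 0 := by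
    have h1 := minpoly.aeval E y₀
    rw [← hm, aeval_eq_sum_range, Finset.sum_range_succ, (minpoly.monic hint₀).coeff_natDegree, one_smul,
      add_comm] at h1
    exact h1
  have hroot : ev (algebraMap R L) x y F = 0 := by
    rw [hF, map_add, map_pow, ev_X, map_sum]
    simp only [map_mul, map_pow, ev_C, ev_X, ← aeval_def]
    calc y ^ n + ∑ i ∈ Finset.range n, aeval x (A i) * aeval x B ^ (n - i - 1) * y ^ i
        = aeval x B ^ n * (y₀ ^ n + ∑ i ∈ Finset.range n, (m.coeff i : L) * y₀ ^ i) := by
          rw [mul_add, ← mul_pow, Finset.mul_sum, ← hy]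
          refine congrArg (y ^ n + ·) (Finset.sum_congr rfl fun i hi => ?_)
          have hin := Finset.mem_range.1 hi
          rw [← hA i hi, hy, mul_pow, show aeval x B ^ n = aeval x B ^ (n - i - 1) * aeval x B ^ i * aeval x B by
            rw [← pow_add, ← pow_succ]; congr 1; omega]
          ring
      _ = 0 := by rw [hmev, mul_zero]
  -- powers of `y`
  have hy' : y = algebraMap E L Be * y₀ := rfl
  have hBe : Be ≠ 0 := fun h0 => hBx (congrArg Subtype.val h0)
  have hdeg : (minpoly E y).natDegree = n := by
    rw [hy', ← Algebra.smul_def, hn, hm]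
    have h1 : IntermediateField.adjoin E ({Be • y₀} : Set L) = IntermediateField.adjoin E ({y₀} : Set L) := by
      refine le_antisymm (IntermediateField.adjoin_le_iff.2 ?_) (IntermediateField.adjoin_le_iff.2 ?_) <;>
        rw [Set.singleton_subset_iff, SetLike.mem_coe]
      · exact IntermediateField.smul_mem _ (IntermediateField.mem_adjoin_simple_self _ _)
      · have := IntermediateField.smul_mem (x := Be⁻¹) _ (IntermediateField.mem_adjoin_simple_self E (Be • y₀))
        rwa [inv_smul_smul₀ hBe] at this
    rw [← IntermediateField.adjoin.finrank (Algebra.IsIntegral.isIntegral _), h1,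
      IntermediateField.adjoin.finrank hint₀]
  have hint : IsIntegral E y := Algebra.IsIntegral.isIntegral y
  have hind : ∀ P : K[X][X], P.degree < F.degree → ev (algebraMap K L) x y P = 0 → P = 0 := by
    intro P hP h0
    let f : K[X] →+* E :=
      (aeval (⟨x, IntermediateField.mem_adjoin_simple_self K x⟩ : E) : K[X] →ₐ[K] E).toRingHom
    have hf : (algebraMap E L).comp f = (aeval x : K[X] →ₐ[K] L).toRingHom := RingHom.ext fun p =>
      (Polynomial.aeval_algHom_apply E.val _ p).symm
    have hfi : Function.Injective f := (injective_iff_map_eq_zero f).2 fun p hp => by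
      by_contra hp0
      exact hx ⟨p, hp0, by
        have := RingHom.congr_fun hf p
        rw [RingHom.comp_apply, hp, map_zero] at this
        exact this.symm⟩
    have h1 : aeval y (P.map f) = 0 := by
      rw [aeval_def, eval₂_map, hf]
      exact h0
    by_contra hP0
    have h2 := minpoly.degree_le_of_ne_zero E y ((Polynomial.map_ne_zero_iff hfi).2 hP0) h1
    rw [degree_eq_natDegree (minpoly.ne_zero hint), hdeg] at h2
    exact absurd (h2.trans degree_map_le) (not_le.2 (hFd ▸ hP))
  have hgen : ∀ l : L, ∃ (q : R[X]) (P : R[X][X]), q ≠ 0 ∧ aeval x q * l = ev (algebraMap R L) x y P := by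
    intro l
    have hl : l ∈ Algebra.adjoin E ({y₀} : Set L) := by
      have : l ∈ IntermediateField.adjoin E ({y₀} : Set L) := hy₀ ▸ trivial
      rwa [← IntermediateField.mem_toSubalgebra,
        IntermediateField.adjoin_simple_toSubalgebra_of_isAlgebraic hint₀.isAlgebraic] at this
    rw [Algebra.adjoin_singleton_eq_range_aeval] at hl
    obtain ⟨g, rfl⟩ := hl
    show ∃ q P, q ≠ 0 ∧ aeval x q * aeval y₀ g = ev (algebraMap R L) x y P
    induction g using Polynomial.induction_on' with
    | add g g' hg hg' =>
      obtain ⟨q, P, hq, hP⟩ := hg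
      obtain ⟨q', P', hq', hP'⟩ := hg'
      refine ⟨q * q', C q' * P + C q * P', mul_ne_zero hq hq', ?_⟩
      simp only [map_add, map_mul, ev_C, ← aeval_def, ← hP, ← hP']
      ring
    | monomial i c =>
      obtain ⟨p, q, hq, hpq⟩ := exists_ratio (R := R) (K := K) x c.2 hx
      refine ⟨q * B ^ i, C p * X ^ i, mul_ne_zero hq (pow_ne_zero _ hB0), ?_⟩
      rw [map_mul, map_pow, map_mul, map_pow, ev_X, ev_C, ← aeval_def, aeval_monomial, hy, mul_pow, ← hpq,
        IntermediateField.algebraMap_apply]
      ring
  refine ⟨y, F, hFm, hroot, hind, hgen, ?_⟩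
  -- separability over the fraction field of `R[X]`
  let Q := FractionRing R[X]
  have hinjx : Function.Injective (aeval x : R[X] →ₐ[R] L) := (injective_iff_map_eq_zero _).2 htr
  let φ : Q →+* L := IsFractionRing.lift (g := (aeval x : R[X] →ₐ[R] L).toRingHom) hinjx
  have hφ : φ.comp (algebraMap R[X] Q) = (aeval x : R[X] →ₐ[R] L).toRingHom :=
    RingHom.ext fun p => IsFractionRing.lift_algebraMap hinjx p
  have hsep : (F.map (algebraMap R[X] Q)).Separable := by
    rw [← separable_map φ, Polynomial.map_map, hφ]
    let f : R[X] →+* E :=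
      (aeval (⟨x, IntermediateField.mem_adjoin_simple_self K x⟩ : E) : R[X] →ₐ[R] E).toRingHom
    have hf : (algebraMap E L).comp f = (aeval x : R[X] →ₐ[R] L).toRingHom := RingHom.ext fun p =>
      (Polynomial.aeval_algHom_apply (E.val.restrictScalars R) _ p).symm
    rw [← hf, ← Polynomial.map_map, separable_map]
    have h1 : aeval y (F.map f) = 0 := by
      rw [aeval_def, eval₂_map, hf]
      exact hroot
    rw [minpoly.unique E y (hFm.map f) h1 fun q hqm hq => by
      rw [hFm.degree_map, hFd, ← hdeg, ← degree_eq_natDegree (minpoly.ne_zero hint)]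
      exact minpoly.min E y hqm hq]
    exact Algebra.IsSeparable.isSeparable E y
  obtain ⟨U', V', hUV⟩ := hsep
  obtain ⟨⟨c, hc⟩, hc'⟩ := IsLocalization.integerNormalization_map_to_map (nonZeroDivisors R[X]) U'
  obtain ⟨⟨d, hd⟩, hd'⟩ := IsLocalization.integerNormalization_map_to_map (nonZeroDivisors R[X]) V'
  refine ⟨C d * IsLocalization.integerNormalization (nonZeroDivisors R[X]) U',
    C c * IsLocalization.integerNormalization (nonZeroDivisors R[X]) V', c * d,
    mul_ne_zero (nonZeroDivisors.ne_zero hc) (nonZeroDivisors.ne_zero hd), ?_⟩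
  apply Polynomial.map_injective (algebraMap R[X] Q) (IsFractionRing.injective R[X] Q)
  rw [derivative_map] at hUV
  simp only [Polynomial.map_add, Polynomial.map_mul, map_C, hc', hd', map_mul, Algebra.smul_def,
    Polynomial.algebraMap_apply, Algebra.algebraMap_self, RingHom.id_apply]
  linear_combination (C (algebraMap R[X] Q c) * C (algebraMap R[X] Q d)) * hUV

end LWQual
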