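import Groth.Agent.LWQualLib.Plane
import Groth.Agent.LWQualLib.Model
import Groth.Agent.LWQualLib.Loc

/-!
# Uniform Weil bound for the fibres of a relative curve
-/

set_option autoImplicit false
set_option maxHeartbeats 1000000
set_option backward.isDefEq.respectTransparency false

noncomputable section

open Polynomial

namespace LWQual

universe u

/-- The rational points of a plane curve over a finite field lying over few abscissae. -/
theorem card_over_le {k : Type*} [Field k] [Finite k] (Φ : k[X][X]) (hΦ : Φ.Monic) {g : k[X]} (hg : g ≠ 0) :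
    Nat.card {p : k × k // ev (RingHom.id k) p.1 p.2 Φ = 0 ∧ g.eval p.1 = 0} ≤ g.natDegree * Φ.natDegree := by
  classical
  letI := Fintype.ofFinite k
  let S : Finset (k × k) := (g.roots.toFinset).biUnion fun u =>
    ((Φ.map (evalRingHom u)).roots.toFinset).image fun v => (u, v)
  have hsub : ∀ p : {p : k × k // ev (RingHom.id k) p.1 p.2 Φ = 0 ∧ g.eval p.1 = 0}, p.1 ∈ S := by
    rintro ⟨⟨u, v⟩, h1, h2⟩
    refine Finset.mem_biUnion.2 ⟨u, ?_, Finset.mem_image.2 ⟨v, ?_, rfl⟩⟩
    · rw [Multiset.mem_toFinset, mem_roots hg]; exact h2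
    · rw [Multiset.mem_toFinset, mem_roots (hΦ.map _).ne_zero, IsRoot, eval_map]
      have : ev (RingHom.id k) u v Φ = Φ.eval₂ (evalRingHom u) v := by
        refine RingHom.congr_fun (?_ : ev (RingHom.id k) u v = eval₂RingHom (evalRingHom u) v) Φ
        refine Polynomial.ringHom_ext (fun q => ?_) (by simp [ev])
        simp [ev, eval₂_id]
      rw [← this]
      exact h1
  calc Nat.card {p : k × k // ev (RingHom.id k) p.1 p.2 Φ = 0 ∧ g.eval p.1 = 0} ≤ Nat.card S :=
        Nat.card_le_card_of_injective (fun p => (⟨p.1, hsub p⟩ : S)) fun p q h =>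
          Subtype.ext (congrArg (fun s : S => s.1) h)
    _ = S.card := Nat.card_eq_finsetCard S
    _ ≤ g.roots.toFinset.card * Φ.natDegree := Finset.card_biUnion_le_card_mul _ _ _ fun u _ =>
        Finset.card_image_le.trans ((Multiset.toFinset_card_le _).trans
          ((card_roots' _).trans natDegree_map_le))
    _ ≤ g.natDegree * Φ.natDegree :=
        Nat.mul_le_mul_right _ ((Multiset.toFinset_card_le _).trans (card_roots' g))

variable {R K L : Type u} [CommRing R] [IsDomain R] [Field K] [Algebra R K] [IsFractionRing R K]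
  [Field L] [Algebra K L] [Algebra R L] [IsScalarTower R K L]

/-- The fibres of a model of a regular curve have about as many points as the line. -/
theorem curve_count (hc : ∀ y : L, IsAlgebraic K y → y ∈ Set.range (algebraMap K L)) (x : L)
    (hx : Transcendental K x) [FiniteDimensional (IntermediateField.adjoin K ({x} : Set L)) L]
    [Algebra.IsSeparable (IntermediateField.adjoin K ({x} : Set L)) L]
    (A : Subalgebra R L) (hAfg : A.FG) (hA : ∀ l : L, ∃ a ∈ A, ∃ b ∈ A, b ≠ 0 ∧ l = a / b)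
    (b : A) (hb : (b : L) ≠ 0) :
    ∃ (a : A) (r : R) (B : ℝ), b ∣ a ∧ (a : L) ≠ 0 ∧ r ≠ 0 ∧ 0 ≤ B ∧
      ∀ (F : Type u) [Field F] [Finite F] (ψ : R →+* F), ψ r ≠ 0 →
        |(Nat.card (Pts ψ a) : ℝ) - (Nat.card F : ℝ)| ≤ B * Real.sqrt (Nat.card F) := by
  classical
  obtain ⟨y, Φ, hΦ, hroot, hind, hgen, U, V, h, hh, hcert⟩ := exists_model (R := R) (K := K) x hx
  have hι : Function.Injective (algebraMap R K) := IsFractionRing.injective R K
  have hevK : ∀ P : R[X][X], ev (algebraMap K L) x y (mapP (algebraMap R K) P) = ev (algebraMap R L) x y P :=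
    fun P => by rw [ev_mapP, ← IsScalarTower.algebraMap_eq]
  have hker : ∀ P : R[X][X], ev (algebraMap R L) x y P = 0 → Φ ∣ P := by
    intro P hP
    rw [← modByMonic_eq_zero_iff_dvd hΦ]
    apply mapP_injective hι
    rw [map_zero]
    refine hind _ ?_ ?_
    · exact degree_map_le.trans_lt (degree_modByMonic_lt P hΦ)
    · rw [hevK]
      have h1 := congrArg (ev (algebraMap R L) x y) (modByMonic_add_div P Φ)
      rwa [map_add, map_mul, hroot, zero_mul, add_zero, hP] at h1
  -- the plane model as a subalgebra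
  let evA : R[X][X] →ₐ[R] L := { ev (algebraMap R L) x y with commutes' := fun r => ev_CC _ _ _ r }
  let S : Subalgebra R L := evA.range
  have hSfg : S.FG := by
    refine ⟨{x, y}, le_antisymm (Algebra.adjoin_le ?_) ?_⟩
    · intro z hz
      rcases Finset.mem_insert.1 (Finset.mem_coe.1 hz) with rfl | hz
      · exact ⟨C X, ev_CX _ _ _⟩
      · rw [Finset.mem_singleton] at hz; subst hz; exact ⟨X, ev_X _ _ _⟩
    · rintro _ ⟨P, rfl⟩
      show ev (algebraMap R L) x y P ∈ _
      rw [Finset.coe_pair]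
      induction P using Polynomial.induction_on' with
      | add p q hp hq => rw [map_add]; exact add_mem hp hq
      | monomial i a =>
        rw [← C_mul_X_pow_eq_monomial, map_mul, map_pow, ev_C, ev_X]
        refine Subalgebra.mul_mem _ ?_ (pow_mem (Algebra.subset_adjoin (by simp)) i)
        rw [← aeval_def]
        exact Algebra.adjoin_mono (Set.singleton_subset_iff.2 (Set.mem_insert _ _)) (aeval_mem_adjoin_singleton R x)
  have hCS : ∀ q : R[X], aeval x q ∈ S := fun q => ⟨C q, (ev_C _ _ _ q).trans rfl⟩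
  have htr : ∀ q : R[X], q ≠ 0 → aeval x q ≠ 0 := fun q hq h0 =>
    hx ⟨q.map (algebraMap R K), (Polynomial.map_ne_zero_iff hι).2 hq, by rw [aeval_map_algebraMap, h0]⟩
  have hSfr : ∀ l : L, ∃ a ∈ S, ∃ b ∈ S, b ≠ 0 ∧ l = a / b := fun l => by
    obtain ⟨q, P, hq, hP⟩ := hgen l
    exact ⟨_, ⟨P, rfl⟩, _, hCS q, htr q hq, (eq_div_iff (htr q hq)).2 (by rw [mul_comm]; exact hP)⟩
  obtain ⟨⟨b', P', hP'⟩, a, hb', ha, hba, hequiv⟩ :=
    exists_equiv_pts S A hSfg hAfg hSfr hA b hb
  set H : R[X][X] := P' %ₘ Φ with hH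
  have hevH : ev (algebraMap R L) x y H = b' := by
    have h1 := congrArg (ev (algebraMap R L) x y) (modByMonic_add_div P' Φ)
    rw [map_add, map_mul, hroot, zero_mul, add_zero] at h1
    exact h1.trans hP'
  have hH0 : H ≠ 0 := fun h0 => hb' (by
    show b' = 0
    rw [← hevH, h0, map_zero])
  -- coprimality
  let Q := FractionRing R[X]
  have hinjx : Function.Injective (aeval x : R[X] →ₐ[R] L) :=
    (injective_iff_map_eq_zero _).2 fun q hq => by by_contra h0; exact htr q h0 hq
  let φ : Q →+* L := IsFractionRing.lift (g := (aeval x : R[X] →ₐ[R] L).toRingHom) hinjx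
  have hφ : φ.comp (algebraMap R[X] Q) = (aeval x : R[X] →ₐ[R] L).toRingHom :=
    RingHom.ext fun p => IsFractionRing.lift_algebraMap hinjx p
  have hirrQ : Irreducible (Φ.map (algebraMap R[X] Q)) := by
    letI : Algebra Q L := φ.toAlgebra
    have haev : ∀ P : R[X][X], aeval y (P.map (algebraMap R[X] Q)) = ev (algebraMap R L) x y P := fun P => by
      rw [aeval_def, eval₂_map, RingHom.algebraMap_toAlgebra, hφ]
      rfl
    have hint : IsIntegral Q y := ⟨_, hΦ.map _, by rw [← aeval_def, haev, hroot]⟩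
    have hmin : Φ.map (algebraMap R[X] Q) = minpoly Q y := by
      refine minpoly.unique Q y (hΦ.map _) (by rw [haev, hroot]) fun q hqm hq => ?_
      obtain ⟨⟨c, hc⟩, hc'⟩ := IsLocalization.integerNormalization_map_to_map (nonZeroDivisors R[X]) q
      set q' := IsLocalization.integerNormalization (nonZeroDivisors R[X]) q
      by_contra hlt
      rw [not_le, hΦ.degree_map] at hlt
      have hd : q'.degree = q.degree := by
        rw [← degree_map_eq_of_injective (IsFractionRing.injective R[X] Q), hc', Algebra.smul_def,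
          Polynomial.algebraMap_apply, degree_C_mul]
        exact (map_ne_zero_iff _ (IsFractionRing.injective R[X] Q)).2 (nonZeroDivisors.ne_zero hc)
      have h0 : q' = 0 := eq_zero_of_dvd_of_degree_lt (hker _ (by
        rw [← haev, hc', Algebra.smul_def, map_mul, hq, mul_zero])) (hd ▸ hlt)
      rw [h0, degree_zero, eq_comm, degree_eq_bot] at hd
      exact hqm.ne_zero hd
    rw [hmin]
    exact minpoly.irreducible hint
  have hcop : IsCoprime (Φ.map (algebraMap R[X] Q)) (H.map (algebraMap R[X] Q)) := by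
    rw [hirrQ.coprime_iff_not_dvd]
    intro hd
    have h1 := (Polynomial.map_dvd_map _ (IsFractionRing.injective R[X] Q) hΦ).1 hd
    exact hH0 (eq_zero_of_dvd_of_degree_lt h1 (degree_modByMonic_lt P' hΦ))
  obtain ⟨V₁', U₁', hUV⟩ := hcop
  obtain ⟨⟨c, hc'⟩, hcV⟩ := IsLocalization.integerNormalization_map_to_map (nonZeroDivisors R[X]) V₁'
  obtain ⟨⟨d, hd'⟩, hdU⟩ := IsLocalization.integerNormalization_map_to_map (nonZeroDivisors R[X]) U₁'
  set h₁ : R[X] := c * d with hh₁
  have hh₁0 : h₁ ≠ 0 := mul_ne_zero (nonZeroDivisors.ne_zero hc') (nonZeroDivisors.ne_zero hd')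
  set V₁ := C d * IsLocalization.integerNormalization (nonZeroDivisors R[X]) V₁'
  set U₁ := C c * IsLocalization.integerNormalization (nonZeroDivisors R[X]) U₁'
  have hcert₁ : V₁ * Φ + U₁ * H = C h₁ := by
    apply Polynomial.map_injective (algebraMap R[X] Q) (IsFractionRing.injective R[X] Q)
    simp only [V₁, U₁, h₁, Polynomial.map_add, Polynomial.map_mul, map_C, hcV, hdU, map_mul, Algebra.smul_def,
      Polynomial.algebraMap_apply, Algebra.algebraMap_self, RingHom.id_apply]
    linear_combination (C (algebraMap R[X] Q c) * C (algebraMap R[X] Q d)) * hUV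
  -- absolute irreducibility
  have hirr : Irreducible (mapP (algebraMap R (AlgebraicClosure K)) Φ) := by
    rw [IsScalarTower.algebraMap_eq R K (AlgebraicClosure K), ← mapP_mapP]
    refine irreducible_mapP hc x y hx (hΦ.map _) (by rw [← mapP_apply, hevK, hroot])
      (fun P hP => hind P (hP.trans_eq (hΦ.degree_map _))) ?_
      (U := mapP (algebraMap R K) U) (V := mapP (algebraMap R K) V) (h := h.map (algebraMap R K))
      ((Polynomial.map_ne_zero_iff hι).2 hh) ?_ (AlgebraicClosure K)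
    · intro l
      obtain ⟨q, P, hq, hP⟩ := hgen l
      exact ⟨q.map (algebraMap R K), mapP (algebraMap R K) P, (Polynomial.map_ne_zero_iff hι).2 hq,
        by rw [aeval_map_algebraMap, hevK, hP]⟩
    · have h1 := congrArg (mapP (algebraMap R K)) hcert
      simp only [map_add, map_mul, mapP_C] at h1
      rw [mapP_apply _ (derivative Φ), ← derivative_map, ← mapP_apply] at h1
      exact h1
  obtain ⟨r₀, hr₀, hspec⟩ := exists_spec_irreducible.{u} hΦ hirr
  obtain ⟨cb, hcb⟩ : ∃ cb, ∀ j, (Φ.coeff j).natDegree ≤ cb := by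
    refine ⟨∑ j ∈ Finset.range (Φ.natDegree + 1), (Φ.coeff j).natDegree, fun j => ?_⟩
    rcases lt_or_ge Φ.natDegree j with h | h
    · simp [coeff_eq_zero_of_natDegree_lt h]
    · exact Finset.single_le_sum (f := fun j => (Φ.coeff j).natDegree) (fun _ _ => Nat.zero_le _)
        (Finset.mem_range.2 (Nat.lt_succ_of_le h))
  set n := Φ.natDegree
  refine ⟨a, r₀ * (h.leadingCoeff * h₁.leadingCoeff),
    2 * (cb : ℝ) * (n : ℝ) ^ 2 + 3 + n * (h.natDegree + 1) + (h.natDegree + h₁.natDegree) * n, hba, ha,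
    mul_ne_zero hr₀ (mul_ne_zero (leadingCoeff_ne_zero.2 hh) (leadingCoeff_ne_zero.2 hh₁0)), by positivity,
    fun F _ _ ψ hψ => ?_⟩
  simp only [map_mul, mul_ne_zero_iff] at hψ
  obtain ⟨hψ0, hψh, hψh₁⟩ := hψ
  set hF := h.map ψ
  set h₁F := h₁.map ψ
  have hF0 : hF ≠ 0 := fun h0 => hψh (by
    have := congrArg (fun p => p.coeff h.natDegree) h0
    simpa [hF, coeff_map] using this)
  have h₁F0 : h₁F ≠ 0 := fun h0 => hψh₁ (by
    have := congrArg (fun p => p.coeff h₁.natDegree) h0
    simpa [h₁F, coeff_map] using this)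
  set ΦF := mapP ψ Φ with hΦF
  have hΦFm : ΦF.Monic := hΦ.map _
  have hirrF : Irreducible (mapP (algebraMap F (AlgebraicClosure F)) ΦF) := by
    rw [hΦF, mapP_mapP]
    exact hspec (AlgebraicClosure F) _ (by
      rw [RingHom.comp_apply]; exact (map_ne_zero_iff _ (algebraMap F (AlgebraicClosure F)).injective).2 hψ0)
  have hcertF : mapP ψ U * ΦF + mapP ψ V * derivative ΦF = C hF := by
    have h1 := congrArg (mapP ψ) hcert
    simp only [map_add, map_mul, mapP_C] at h1
    rw [mapP_apply _ (derivative Φ), ← derivative_map, ← mapP_apply] at h1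
    exact h1
  have hW := plane_count F hΦFm hirrF (c := cb)
    (fun j => by rw [hΦF, coeff_mapP]; exact natDegree_map_le.trans (hcb j)) hF0 hcertF
  have hnF : ΦF.natDegree = n := hΦ.natDegree_map _
  rw [hnF] at hW
  -- the points of the model
  let Good : Type u := {p : F × F // ev (RingHom.id F) p.1 p.2 ΦF = 0 ∧ ev (RingHom.id F) p.1 p.2 (mapP ψ H) ≠ 0}
  have hbij : Nat.card (Pts ψ (⟨b', P', hP'⟩ : S)) = Nat.card Good := by
    let q : R[X][X] →ₐ[R] S := evA.rangeRestrict
    have hqs : Function.Surjective q := AlgHom.rangeRestrict_surjective evA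
    have hqH : q H = ⟨b', P', hP'⟩ := Subtype.ext hevH
    have hev' : ∀ (φ : Pts ψ (⟨b', P', hP'⟩ : S)) (P : R[X][X]),
        φ.1 (q P) = ev (RingHom.id F) (φ.1 (q (C X))) (φ.1 (q X)) (mapP ψ P) := fun φ P => by
      rw [ev_mapP, RingHom.id_comp]
      refine RingHom.congr_fun (?_ : φ.1.comp q.toRingHom = ev ψ (φ.1 (q (C X))) (φ.1 (q X))) P
      refine Polynomial.ringHom_ext' (Polynomial.ringHom_ext' (RingHom.ext fun r => ?_) (by simp [ev])) (by simp [ev])
      show φ.1 (q (C (C r))) = ev ψ _ _ (C (C r))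
      rw [ev_CC, ← RingHom.congr_fun φ.2.1 r, show C (C r) = algebraMap R R[X][X] r from rfl, AlgHom.commutes]
      rfl
    have hq0 : q Φ = 0 := Subtype.ext hroot
    let g : Pts ψ (⟨b', P', hP'⟩ : S) → Good := fun φ => ⟨(φ.1 (q (C X)), φ.1 (q X)), by
      rw [← hev', hq0, map_zero], by rw [← hev', hqH]; exact φ.2.2⟩
    refine Nat.card_congr (Equiv.ofBijective g ⟨fun φ φ' h => ?_, ?_⟩)
    · apply Subtype.ext
      refine RingHom.ext fun s => ?_
      obtain ⟨P, rfl⟩ := hqs s
      rw [hev' φ P, hev' φ' P]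
      have h' := congrArg Subtype.val h
      simp only [g, Prod.mk.injEq] at h'
      rw [h'.1, h'.2]
    · rintro ⟨⟨u, v⟩, h0, hne⟩
      let θ : R[X][X] →+* F := ev ψ u v
      have hθ : ∀ P, θ P = ev (RingHom.id F) u v (mapP ψ P) := fun P => by rw [ev_mapP, RingHom.id_comp]
      have hle : RingHom.ker q.toRingHom ≤ RingHom.ker θ := fun P hP => by
        obtain ⟨D, rfl⟩ := hker P (congrArg Subtype.val hP)
        rw [RingHom.mem_ker, map_mul, hθ Φ, h0, zero_mul]
      let φ₀ : S →+* F := q.toRingHom.liftOfSurjective hqs ⟨θ, hle⟩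
      have hφ₀ : ∀ P, φ₀ (q P) = θ P := fun P => RingHom.liftOfRightInverse_comp_apply _ _ _ ⟨θ, hle⟩ P
      refine ⟨⟨φ₀, RingHom.ext fun r => ?_, ?_⟩, Subtype.ext (Prod.ext ?_ ?_)⟩
      · rw [RingHom.comp_apply, ← q.commutes r, show algebraMap R R[X][X] r = C (C r) from rfl, hφ₀]
        exact ev_CC _ _ _ r
      · rw [← hqH, hφ₀, hθ]; exact hne
      · show φ₀ (q (C X)) = u
        rw [hφ₀]; exact ev_CX _ _ _
      · show φ₀ (q X) = v
        rw [hφ₀]; exact ev_X _ _ _
  obtain ⟨e⟩ := hequiv F ψ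
  rw [← Nat.card_congr e, hbij]
  -- comparison of the two open parts
  letI := Fintype.ofFinite F
  let Z : Finset (F × F) := Finset.univ.filter fun p => ev (RingHom.id F) p.1 p.2 ΦF = 0
  have hcardZ : ∀ (P : F × F → Prop) [DecidablePred P],
      Nat.card {p : F × F // ev (RingHom.id F) p.1 p.2 ΦF = 0 ∧ P p} = (Z.filter P).card := fun P _ => by
    rw [Nat.card_eq_fintype_card, Fintype.card_subtype]
    congr 1
    ext p
    simp [Z]
  set s₁ := Z.filter fun p => hF.eval p.1 ≠ 0
  set s₂ := Z.filter fun p => ev (RingHom.id F) p.1 p.2 (mapP ψ H) ≠ 0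
  set s₀ := Z.filter fun p => (hF * h₁F).eval p.1 = 0
  have hd1 : s₁ ⊆ s₂ ∪ s₀ := fun p hp => by
    simp only [s₁, s₂, s₀, Finset.mem_filter, Finset.mem_union, Z, Finset.mem_univ, true_and] at hp ⊢
    by_cases hpH : ev (RingHom.id F) p.1 p.2 (mapP ψ H) = 0
    · refine Or.inr ⟨hp.1, ?_⟩
      have h1 := congrArg (fun P => ev (RingHom.id F) p.1 p.2 (mapP ψ P)) hcert₁
      simp only [map_add, map_mul, mapP_C, ev_C, eval₂_id] at h1
      rw [hp.1, hpH, mul_zero, mul_zero, add_zero] at h1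
      rw [eval_mul, ← h1, mul_zero]
    · exact Or.inl ⟨hp.1, hpH⟩
  have hd2 : s₂ ⊆ s₁ ∪ s₀ := fun p hp => by
    simp only [s₁, s₂, s₀, Finset.mem_filter, Finset.mem_union, Z, Finset.mem_univ, true_and] at hp ⊢
    by_cases hph : hF.eval p.1 = 0
    · exact Or.inr ⟨hp.1, by rw [eval_mul, hph, zero_mul]⟩
    · exact Or.inl ⟨hp.1, hph⟩
  have h0 : s₀.card ≤ (h.natDegree + h₁.natDegree) * n := by
    rw [show s₀.card = _ from (hcardZ fun p => (hF * h₁F).eval p.1 = 0).symm]
    refine (card_over_le ΦF hΦFm (mul_ne_zero hF0 h₁F0)).trans ?_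
    rw [hnF]
    exact Nat.mul_le_mul_right _ (natDegree_mul_le.trans (Nat.add_le_add natDegree_map_le natDegree_map_le))
  have h1 : (s₁.card : ℝ) ≤ s₂.card + s₀.card := by
    exact_mod_cast (Finset.card_le_card hd1).trans (Finset.card_union_le _ _)
  have h2 : (s₂.card : ℝ) ≤ s₁.card + s₀.card := by
    exact_mod_cast (Finset.card_le_card hd2).trans (Finset.card_union_le _ _)
  rw [hcardZ fun p => hF.eval p.1 ≠ 0] at hW
  rw [show Nat.card Good = s₂.card from hcardZ fun p => ev (RingHom.id F) p.1 p.2 (mapP ψ H) ≠ 0]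
  have h0' : (s₀.card : ℝ) ≤ ((h.natDegree + h₁.natDegree) * n : ℝ) := by exact_mod_cast h0
  have hhF : (hF.natDegree : ℝ) ≤ h.natDegree := by exact_mod_cast natDegree_map_le (p := h) (f := ψ)
  have hsq : (1 : ℝ) ≤ Real.sqrt (Nat.card F) := by
    rw [← Real.sqrt_one]
    exact Real.sqrt_le_sqrt (by exact_mod_cast Nat.card_pos)
  have h3 : ((h.natDegree + h₁.natDegree) * n : ℝ) ≤ ((h.natDegree + h₁.natDegree) * n : ℝ) * Real.sqrt (Nat.card F) :=
    le_mul_of_one_le_right (by positivity) hsq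
  have h4 : (2 * (cb : ℝ) * (n : ℝ) ^ 2 + 3 + n * ((hF.natDegree : ℝ) + 1)) * Real.sqrt (Nat.card F) ≤
      (2 * (cb : ℝ) * (n : ℝ) ^ 2 + 3 + n * ((h.natDegree : ℝ) + 1)) * Real.sqrt (Nat.card F) := by
    gcongr
  rw [abs_le] at hW ⊢
  rw [add_mul (2 * (cb : ℝ) * (n : ℝ) ^ 2 + 3 + n * ((h.natDegree : ℝ) + 1))]
  constructor <;> linarith [hW.1, hW.2]

end LWQual
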