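import Groth.Agent.LWQualLib.Comp
import Groth.Agent.ZetaPtsLib.Part
import Groth.Agent.ZetaPtsLib.Ext
import Groth.Agent.ZetaAbs.FinField
import Groth.Agent.ZetaAbs.Count
import Groth.Agent.GalOrbLib.CountComp
import Groth.Agent.DevissLib.ClosedImm
import Groth.Agent.DimIneqLib.Fibre

/-!
# Points of a scheme over a finite field and its components of top dimension
-/

set_option autoImplicit false
set_option maxHeartbeats 1000000
set_option synthInstance.maxHeartbeats 100000
set_option backward.isDefEq.respectTransparency false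

noncomputable section

universe u

open CategoryTheory CategoryTheory.Limits AlgebraicGeometry TopologicalSpace Module

namespace LWQual

/-- The point counts are bounded by the power of the dimension. -/
theorem nPts_le {k : Type u} [Field k] [Finite k] {Y : Scheme.{u}} (g : Y ⟶ Spec (CommRingCat.of k))
    [LocallyOfFiniteType g] [QuasiCompact g] (s : ℕ) (hs : topologicalKrullDim Y ≤ s) :
    ∃ D : ℕ, ∀ m : ℕ, Zeta.nPts g m ≤ D * (Nat.card k ^ m) ^ s := by
  classical
  haveI := ZetaAbs.lft_toInt g
  haveI := ZetaAbs.qc_toInt g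
  obtain ⟨D, p₀, hD⟩ := ZetaAbs.points_bound (g ≫ ZetaAbs.toInt k) s hs
  refine ⟨D, fun m => ?_⟩
  rcases eq_or_ne m 0 with rfl | hm
  · simp [Zeta.nPts]
  obtain ⟨K, _, _, _, hK⟩ := ZetaPtsLib.exists_ext k hm
  obtain ⟨p, hp⟩ := CharP.exists K
  obtain ⟨hfin, -, hle⟩ := hD K p
  haveI : Module.Finite k K := Module.Finite.of_finite
  rw [← hK, ← ZetaPtsLib.pointCount_eq g K, ← Module.natCard_eq_pow_finrank (K := k) (V := K)]
  refine le_trans ?_ hle
  rw [SgaExt.pointCount]
  exact Nat.card_le_card_of_injective _ Subtype.val_injective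

/-- The points of an affine scheme. -/
theorem pointCount_spec {k A : Type u} [Field k] [CommRing A] [Algebra k A] (K : Type u) [Field K] [Algebra k K] :
    SgaExt.pointCount (Spec.map (CommRingCat.ofHom (algebraMap k A))) K = Nat.card (A →ₐ[k] K) := by
  rw [SgaExt.pointCount]
  refine Nat.card_congr
    { toFun := fun g => { (Spec.preimage g.1).hom with
        commutes' := fun x => by
          have h := g.2
          rw [← Spec.map_preimage g.1, ← Spec.map_comp, Spec.map_inj] at h
          exact ConcreteCategory.congr_hom h x }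
      invFun := fun φ => ⟨Spec.map (CommRingCat.ofHom φ.toRingHom), by
        rw [← Spec.map_comp, ← CommRingCat.ofHom_comp]
        exact congrArg (fun r => Spec.map (CommRingCat.ofHom r)) (RingHom.ext φ.commutes)⟩
      left_inv := fun g => Subtype.ext (by
        conv_rhs => rw [← Spec.map_preimage g.1]
        rfl)
      right_inv := fun φ => AlgHom.ext fun x => by
        show (Spec.preimage (Spec.map (CommRingCat.ofHom φ.toRingHom))).hom x = φ x
        rw [Spec.preimage_map]
        rfl }

/-- Homeomorphic spaces have as many irreducible components. -/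
theorem card_irreducibleComponents_congr {α β : Type*} [TopologicalSpace α] [TopologicalSpace β] (e : α ≃ₜ β) :
    Nat.card (irreducibleComponents α) = Nat.card (irreducibleComponents β) :=
  Nat.card_congr (irreducibleComponentsEquivOfIsPreirreducibleFiber e e.continuous e.isOpenMap
    (fun x => (Set.Subsingleton.isPreirreducible (Set.subsingleton_singleton.preimage e.injective))) e.surjective).symm.toEquiv

/-- A dense affine piece of a component, with its point counts. -/
theorem exists_piece {k : Type u} [Field k] [Finite k] {X : Scheme.{u}}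
    (f : X ⟶ Spec (CommRingCat.of k)) [LocallyOfFiniteType f] [QuasiCompact f] {r : ℕ}
    (Z : Set X) (hZ : Z ∈ irreducibleComponents X) (hdim : topologicalKrullDim Z = r) :
    ∃ (V : Scheme.{u}) (g : V ⟶ X) (_ : IsImmersion g), Set.range g.base ⊆ Z ∧ IsOpen (Set.range g.base) ∧
      (Set.range g.base).Nonempty ∧ (∀ W ∈ irreducibleComponents X, W ≠ Z → Disjoint (Set.range g.base) W) ∧
      0 < Nat.card (irreducibleComponents ((pullback.fst f (Spec.map (CommRingCat.ofHom
          (algebraMap k (AlgebraicClosure k))))).base ⁻¹' Z)) ∧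
      ∃ c : ℝ, 0 ≤ c ∧ ∀ e : ℕ, 1 ≤ e →
        (Nat.card (irreducibleComponents ((pullback.fst f (Spec.map (CommRingCat.ofHom
              (algebraMap k (AlgebraicClosure k))))).base ⁻¹' Z)) ∣ e →
          |(Zeta.nPts (g ≫ f) e : ℝ) - Nat.card (irreducibleComponents ((pullback.fst f (Spec.map (CommRingCat.ofHom
              (algebraMap k (AlgebraicClosure k))))).base ⁻¹' Z)) * ((Nat.card k : ℝ) ^ e) ^ r| *
            Real.sqrt ((Nat.card k : ℝ) ^ e) ≤ c * ((Nat.card k : ℝ) ^ e) ^ r) ∧
        (¬ Nat.card (irreducibleComponents ((pullback.fst f (Spec.map (CommRingCat.ofHom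
              (algebraMap k (AlgebraicClosure k))))).base ⁻¹' Z)) ∣ e →
          (Zeta.nPts (g ≫ f) e : ℝ) * (Nat.card k : ℝ) ^ e ≤ c * ((Nat.card k : ℝ) ^ e) ^ r) := by
  classical
  haveI : IsLocallyNoetherian X := LocallyOfFiniteType.isLocallyNoetherian f
  haveI : CompactSpace X := QuasiCompact.compactSpace_of_compactSpace f
  haveI : IsNoetherian X := {}
  have hfin : (irreducibleComponents X).Finite := NoetherianSpace.finite_irreducibleComponents
  -- the part of `Z` off the other components
  let O : Set X := (⋃ W ∈ irreducibleComponents X \ {Z}, W)ᶜ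
  have hO : IsOpen O := (Set.Finite.isClosed_biUnion hfin.sdiff fun W hW =>
    isClosed_of_mem_irreducibleComponents W hW.1).isOpen_compl
  have hOZ : O ⊆ Z := fun x hx => by
    by_contra hxZ
    exact hx (Set.mem_iUnion₂.2 ⟨irreducibleComponent x, ⟨irreducibleComponent_mem_irreducibleComponents x,
      fun h => hxZ (h ▸ mem_irreducibleComponent)⟩, mem_irreducibleComponent⟩)
  have hOne : O.Nonempty := by
    by_contra h
    rw [Set.not_nonempty_iff_eq_empty, Set.compl_empty_iff] at h
    obtain ⟨W, hW, hZW⟩ := isIrreducible_iff_sUnion_isClosed.1 hZ.1 hfin.sdiff.toFinset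
      (fun W hW => isClosed_of_mem_irreducibleComponents W ((Set.Finite.mem_toFinset _).1 hW).1)
      (by rw [Set.Finite.coe_toFinset, Set.sUnion_eq_biUnion, h]; exact Set.subset_univ Z)
    rw [Set.Finite.mem_toFinset] at hW
    exact hW.2 ((hZ.eq_of_subset hW.1.1 hZW).symm)
  obtain ⟨x, hx⟩ := hOne
  obtain ⟨U, hU, hxU, hUO⟩ := exists_isAffineOpen_mem_and_subset (x := x) (U := ⟨O, hO⟩) hx
  -- the reduced component
  let S : Closeds X := ⟨Z, isClosed_of_mem_irreducibleComponents Z hZ⟩
  let Y := (Scheme.IdealSheafData.vanishingIdeal S).subscheme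
  let ι : Y ⟶ X := (Scheme.IdealSheafData.vanishingIdeal S).subschemeι
  have hrι : Set.range ι.base = Z := by
    refine (Scheme.IdealSheafData.range_subschemeι _).trans ?_
    exact Scheme.IdealSheafData.coe_support_vanishingIdeal _
  haveI : IsReduced Y := DevissLib.isReduced_vanishingIdeal' S
  haveI : IrreducibleSpace Y := by
    have himg : IsIrreducible (ι.base '' Set.univ) := by rw [Set.image_univ, hrι]; exact hZ.1
    haveI : Nonempty Y := let ⟨_, z, _, _⟩ := himg.nonempty; ⟨z⟩
    haveI := Subtype.preirreducibleSpace hZ.1.2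
    let e : Y ≃ₜ Z := ι.isEmbedding.toHomeomorph.trans (Homeomorph.setCongr hrι)
    have h2 := (PreirreducibleSpace.isPreirreducible_univ (X := Z)).image e.symm e.symm.continuous.continuousOn
    rw [Set.image_univ, e.symm.surjective.range_eq] at h2
    exact { toPreirreducibleSpace := ⟨h2⟩, toNonempty := inferInstance }
  haveI : IsIntegral Y := isIntegral_of_irreducibleSpace_of_isReduced Y
  have hxZ : x ∈ Set.range ι.base := hrι.symm ▸ hOZ hx
  obtain ⟨y, hy⟩ := hxZ
  have hV : IsAffineOpen (ι ⁻¹ᵁ U) := hU.preimage ι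
  haveI : Nonempty (ι ⁻¹ᵁ U : Y.Opens) := ⟨⟨y, show ι y ∈ U from hy ▸ hxU⟩⟩
  set A := Γ(Y, ι ⁻¹ᵁ U)
  haveI := hV.isOpenImmersion_fromSpec
  let g : Spec A ⟶ X := hV.fromSpec ≫ ι
  haveI : IsImmersion g := inferInstance
  have hrange : Set.range g.base = (U : Set X) := by
    have hr' : Set.range hV.fromSpec.base = ((ι ⁻¹ᵁ U : Y.Opens) : Set Y) := hV.range_fromSpec
    simp only [g, Scheme.Hom.comp_base, TopCat.coe_comp, Set.range_comp]
    rw [hr']
    show ι.base '' (ι.base ⁻¹' (U : Set X)) = U
    rw [Set.image_preimage_eq_inter_range, hrι, Set.inter_eq_left]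
    exact fun z hz => hOZ (hUO hz)
  refine ⟨Spec A, g, inferInstance, hrange ▸ fun z hz => hOZ (hUO hz), hrange ▸ U.isOpen, hrange ▸ ⟨x, hxU⟩, fun W hW hne => hrange ▸ Set.disjoint_left.2 fun z hz hzW =>
    hUO hz (Set.mem_iUnion₂.2 ⟨W, ⟨hW, hne⟩, hzW⟩), ?_⟩
  letI : Algebra k A := (Spec.preimage (g ≫ f)).hom.toAlgebra
  have hgf : g ≫ f = Spec.map (CommRingCat.ofHom (algebraMap k A)) := (Spec.map_preimage (g ≫ f)).symm
  haveI : LocallyOfFiniteType (g ≫ f) := inferInstance
  haveI : Algebra.FiniteType k A := by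
    rw [← RingHom.finiteType_algebraMap]
    have h : LocallyOfFiniteType (Spec.map (CommRingCat.ofHom (algebraMap k A))) := hgf ▸ inferInstance
    exact (HasRingHomProperty.Spec_iff (P := @LocallyOfFiniteType)).mp h
  -- the function field
  set η := genericPoint Y
  have hη : η ∈ ι ⁻¹ᵁ U := ((genericPoint_spec Y).mem_open_set_iff (ι ⁻¹ᵁ U).isOpen).2
    ⟨y, trivial, show ι y ∈ U from hy ▸ hxU⟩
  let L := Y.residueField η
  letI : Algebra A L := (Y.evaluation (ι ⁻¹ᵁ U) η hη).hom.toAlgebra
  obtain ⟨φ, hφ, hcomp⟩ := GalOrbLib.card_components (ι ≫ f) (AlgebraicClosure k)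
  letI : Algebra k L := φ.toAlgebra
  haveI : IsScalarTower k A L := by
    refine IsScalarTower.of_algebraMap_eq' ?_
    have h : CommRingCat.ofHom φ = CommRingCat.ofHom (algebraMap k A) ≫ Y.evaluation (ι ⁻¹ᵁ U) η hη := by
      refine Spec.map_injective ?_
      rw [hφ, Spec.map_comp, ← hgf]
      simp only [g, Scheme.evaluation, Spec.map_comp, Category.assoc, Scheme.fromSpecResidueField]
      rw [← IsAffineOpen.fromSpecStalk_eq_fromSpecStalk hV hη]
      simp only [IsAffineOpen.fromSpecStalk, Category.assoc]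
      rfl
    exact congrArg CommRingCat.Hom.hom h
  haveI : IsFractionRing A L := by
    have he : Function.Injective (Y.evaluation (ι ⁻¹ᵁ U) η hη).hom := by
      rw [RingHom.injective_iff_ker_eq_bot, ← WeilLib.primeIdealOf_eq_ker hV η hη]
      refine le_bot_iff.1 (le_trans ?_ (nilradical_eq_zero A).le)
      rw [nilradical_eq_sInf]
      refine le_sInf fun q hq => ?_
      have h1 : hV.fromSpec (hV.primeIdealOf ⟨η, hη⟩) ⤳ hV.fromSpec ⟨q, hq⟩ := by
        rw [hV.fromSpec_primeIdealOf]
        exact genericPoint_specializes _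
      exact (PrimeSpectrum.le_iff_specializes _ _).2 (hV.fromSpec.isOpenEmbedding.isInducing.specializes_iff.1 h1)
    haveI : FaithfulSMul A L := (faithfulSMul_iff_algebraMap_injective _ _).2 he
    refine IsFractionRing.of_field _ _ fun z => ?_
    obtain ⟨a, b, hb, hab⟩ := WeilLib.surjective_div_evaluation hV η hη z
    exact ⟨a, b, (eq_div_iff hb).2 hab⟩
  have hA : ringKrullDim A = r := by
    have hYdim : topologicalKrullDim Y = r := by
      rw [← hdim]
      exact IsHomeomorph.topologicalKrullDim_eq _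
        (ι.isEmbedding.toHomeomorph.trans (Homeomorph.setCongr hrι)).isHomeomorph
    haveI : LocallyOfFiniteType (Over.mk (ι ≫ f)).hom := inferInstanceAs (LocallyOfFiniteType (ι ≫ f))
    have hkap : WeilLib.kappaMap (Over.mk (ι ≫ f)) η = CommRingCat.ofHom φ := by
      refine Spec.map_injective ?_
      rw [DimIneqLib.SpecMap_kappaMap, hφ]
      rfl
    obtain ⟨s, hs, hs'⟩ := WeilLib.pdim_eq_trdeg (Over.mk (ι ≫ f)) η
    rw [hkap] at hs'
    obtain ⟨t, ht, ht'⟩ := WeilLib.dim_eq_trdeg k A L
    have hcl : closure ({η} : Set Y) = Set.univ := genericPoint_spec Y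
    have hs2 : topologicalKrullDim Y = s :=
      ((IsHomeomorph.topologicalKrullDim_eq _ ((Homeomorph.setCongr hcl).trans (Homeomorph.Set.univ Y)).isHomeomorph).symm.trans hs)
    have hst : s = t := by exact_mod_cast hs'.symm.trans ht'
    rw [ht, ← hst, ← hs2, hYdim]
  obtain ⟨hfd, c, hc, hcount⟩ := component_count k A L hA
  have hsep : separableClosure k L = algebraicClosure k L := by
    refine le_antisymm (fun z hz => mem_algebraicClosure_iff.2 (IsSeparable.isIntegral (mem_separableClosure_iff.1 hz)).isAlgebraic) fun z hz => ?_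
    rw [mem_separableClosure_iff]
    rw [mem_algebraicClosure_iff] at hz
    exact PerfectField.separable_of_irreducible (minpoly.irreducible hz.isIntegral)
  haveI : FiniteDimensional k (separableClosure k L) := hsep.symm ▸ hfd
  have hm := hcomp inferInstance ⟨IsAlgClosed.lift⟩
  have hbc : Nat.card (irreducibleComponents ((pullback.fst f (Spec.map (CommRingCat.ofHom
      (algebraMap k (AlgebraicClosure k))))).base ⁻¹' Z)) = finrank k (algebraicClosure k L) := by
    rw [← hsep, ← hm]
    refine card_irreducibleComponents_congr (Homeomorph.trans ?_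
      (pullbackRightPullbackFstIso f (Spec.map (CommRingCat.ofHom (algebraMap k (AlgebraicClosure k)))) ι).schemeIsoToHomeo)
    refine (Homeomorph.setCongr ?_).trans (pullback.snd ι (pullback.fst f _)).isEmbedding.toHomeomorph.symm
    rw [Scheme.Pullback.range_snd, hrι]
  rw [hbc]
  refine ⟨Module.finrank_pos, c, hc, fun e he => ?_⟩
  obtain ⟨K, _, _, _, hK⟩ := ZetaPtsLib.exists_ext k (m := e) (by omega)
  haveI : Module.Finite k K := Module.Finite.of_finite
  obtain ⟨-, h1, h2⟩ := hcount K
  have hq : (Nat.card K : ℝ) = (Nat.card k : ℝ) ^ e := by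
    rw [Module.natCard_eq_pow_finrank (K := k) (V := K), hK, Nat.cast_pow]
  have hn : Zeta.nPts (g ≫ f) e = Nat.card (A →ₐ[k] K) := by
    rw [← hK, ← ZetaPtsLib.pointCount_eq (g ≫ f) K, hgf]
    exact pointCount_spec K
  rw [hn, ← hq, ← hK]
  exact ⟨h1, h2⟩

/-- An irreducible set inside a subspace is irreducible there. -/
theorem isPreirreducible_preimage_val {α : Type*} [TopologicalSpace α] {C W : Set α} (hC : IsPreirreducible C) (h : C ⊆ W) :
    IsPreirreducible ((Subtype.val : W → α) ⁻¹' C) := by
  intro u v hu hv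
  obtain ⟨u, hu', rfl⟩ := hu
  obtain ⟨v, hv', rfl⟩ := hv
  rintro ⟨a, ha, hau⟩ ⟨b, hb, hbv⟩
  obtain ⟨z, hz, hzu, hzv⟩ := hC u v hu' hv' ⟨a, ha, hau⟩ ⟨b, hb, hbv⟩
  exact ⟨⟨z, h hz⟩, hz, hzu, hzv⟩

/-- A chain of closed irreducible sets in the complement of the pieces is short. -/
theorem dim_lt_of_subset {X : Scheme.{u}} {r : ℕ} (hr : topologicalKrullDim X = r) (R : Set X) (hR : IsClosed R)
    (hT : ∀ W ∈ irreducibleComponents X, topologicalKrullDim W = r → ¬ W ⊆ R) :
    topologicalKrullDim R < r := by
  refine lt_of_not_ge fun h => ?_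
  obtain ⟨p, hp⟩ := (Order.le_krullDim_iff (α := IrreducibleCloseds R) (n := r)).1 h
  let φ : IrreducibleCloseds R → IrreducibleCloseds X := fun C =>
    ⟨Subtype.val '' (C : Set R), C.isIrreducible.image _ continuous_subtype_val.continuousOn,
      hR.isClosedMap_subtype_val _ C.isClosed⟩
  have hφ : StrictMono φ := fun C D hCD => lt_of_le_of_ne (Set.image_mono (f := Subtype.val) hCD.le) fun he =>
    hCD.ne (SetLike.coe_injective (Subtype.val_injective.image_injective (congrArg SetLike.coe he)))
  let p' : LTSeries (IrreducibleCloseds X) := p.map φ hφ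
  obtain ⟨W, hW, hsub⟩ := exists_mem_irreducibleComponents_subset_of_isIrreducible _ p'.last.isIrreducible
  have hWc := isClosed_of_mem_irreducibleComponents W hW
  let ψ : ∀ C : IrreducibleCloseds X, (C : Set X) ⊆ W → IrreducibleCloseds W := fun C hC =>
    ⟨Subtype.val ⁻¹' (C : Set X), ⟨by
        obtain ⟨z, hz⟩ := C.isIrreducible.nonempty
        exact ⟨⟨z, hC hz⟩, hz⟩, isPreirreducible_preimage_val C.isIrreducible.2 hC⟩,
      C.isClosed.preimage continuous_subtype_val⟩
  have hsubs : ∀ i, (p' i : Set X) ⊆ W := fun i =>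
    (show (p' i : Set X) ⊆ p'.last from p'.monotone (Fin.le_last i)).trans hsub
  let q : LTSeries (IrreducibleCloseds W) := LTSeries.mk p'.length (fun i => ψ (p' i) (hsubs i)) fun i j hij => by
    refine lt_of_le_of_ne (fun z hz => p'.monotone hij.le hz) fun he => (p'.strictMono hij).ne ?_
    refine SetLike.coe_injective (Set.Subset.antisymm ?_ ?_) <;> intro z hz
    · exact (congrArg (fun C : IrreducibleCloseds W => (⟨z, hsubs i hz⟩ : W) ∈ (C : Set W)) he).mp hz
    · exact (congrArg (fun C : IrreducibleCloseds W => (⟨z, hsubs j hz⟩ : W) ∈ (C : Set W)) he).mpr hz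
  have hql : q.length = r := hp
  rcases eq_or_ne (topologicalKrullDim W) r with hWr | hWr
  · let top : IrreducibleCloseds W := ⟨Set.univ, by
      haveI := Subtype.preirreducibleSpace hW.1.2
      haveI : Nonempty W := hW.1.nonempty.to_subtype
      exact ⟨Set.univ_nonempty, PreirreducibleSpace.isPreirreducible_univ⟩, isClosed_univ⟩
    have hlast : q.last < top := by
      refine lt_of_le_of_ne (fun z _ => Set.mem_univ z) fun he => hT W hW hWr fun z hz => ?_
      have hz' : (⟨z, hz⟩ : W) ∈ (q.last : Set W) := he ▸ Set.mem_univ _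
      have hz'' : z ∈ (p'.last : Set X) := hz'
      obtain ⟨⟨z', hz1⟩, -, rfl⟩ := hz''
      exact hz1
    have := Order.LTSeries.length_le_krullDim (q.snoc top hlast)
    rw [RelSeries.snoc_length, hql] at this
    have h2 : ((r + 1 : ℕ) : WithBot ℕ∞) ≤ r := this.trans hWr.le
    exact absurd (by exact_mod_cast h2 : r + 1 ≤ r) (by omega)
  · refine hWr (le_antisymm ?_ (hql ▸ Order.LTSeries.length_le_krullDim q))
    exact (topologicalKrullDim_subspace_le X W).trans hr.le

end LWQual
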