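import Groth.Agent.LWQualLib.IdealCount
import Mathlib

/-!
# Continuation of the Dedekind zeta function slightly to the left of one
-/

set_option autoImplicit false
set_option maxHeartbeats 1000000
set_option backward.isDefEq.respectTransparency false

noncomputable section

open Filter Topology NumberField Module
open scoped nonZeroDivisors

namespace LWQual

theorem norm_cpow_sub_cpow_succ_le {k : ℕ} (hk : 0 < k) {s : ℂ} (hs : 0 < s.re) :
    ‖(k : ℂ) ^ (-s) - ((k + 1 : ℕ) : ℂ) ^ (-s)‖ ≤ ‖s‖ * (k : ℝ) ^ (-s.re - 1) := by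
  have hk' : (0 : ℝ) < k := by exact_mod_cast hk
  have hderiv : ∀ x ∈ Set.Icc (k : ℝ) (k + 1),
      HasDerivWithinAt (fun y : ℝ => (y : ℂ) ^ (-s)) (-s * (x : ℂ) ^ (-s - 1)) (Set.Icc (k : ℝ) (k + 1)) x := fun x hx => by
    have hx0 : (0 : ℝ) < x := hk'.trans_le hx.1
    exact ((hasDerivAt_id (x : ℂ)).cpow_const (c := -s) (Or.inl (by simpa using hx0))).comp_ofReal.hasDerivWithinAt.congr_deriv (by simp)
  have hbound : ∀ x ∈ Set.Ico (k : ℝ) (k + 1), ‖-s * (x : ℂ) ^ (-s - 1)‖ ≤ ‖s‖ * (k : ℝ) ^ (-s.re - 1) := fun x hx => by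
    have hx0 : (0 : ℝ) < x := hk'.trans_le hx.1
    rw [norm_mul, norm_neg, Complex.norm_cpow_eq_rpow_re_of_pos hx0]
    refine mul_le_mul_of_nonneg_left ?_ (norm_nonneg _)
    simp only [Complex.sub_re, Complex.neg_re, Complex.one_re]
    exact Real.rpow_le_rpow_of_nonpos hk' hx.1 (by linarith)
  have h := norm_image_sub_le_of_norm_deriv_le_segment' hderiv hbound (k + 1) (Set.right_mem_Icc.2 (by linarith))
  rw [norm_sub_rev]
  simpa using h

/-- The Dedekind zeta function times `s - 1` is analytic past `1`, and does not vanish at `1`. -/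
theorem exists_dedekind_continuation (K : Type*) [Field K] [NumberField K] :
    ∃ δ : ℝ, 0 < δ ∧ δ ≤ 1 ∧ ∃ F : ℂ → ℂ, AnalyticOnNhd ℂ F {s | 1 - δ < s.re} ∧ F 1 ≠ 0 ∧
      ∀ s : ℂ, 1 < s.re → F s = (s - 1) * dedekindZeta K s := by
  classical
  set δ : ℝ := (finrank ℚ K : ℝ)⁻¹ with hδ
  have hδ0 : 0 < δ := inv_pos.2 (by exact_mod_cast finrank_pos)
  have hδ1 : δ ≤ 1 := inv_le_one_of_one_le₀ (by exact_mod_cast finrank_pos)
  obtain ⟨c, B, hB, hcount⟩ := exists_card_norm_le K
  let a : ℕ → ℕ := fun n => Nat.card {I : Ideal (𝓞 K) // Ideal.absNorm I = n}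
  let E : ℕ → ℂ := fun N => ∑ k ∈ Finset.Icc 1 N, ((a k : ℂ) - c)
  have hE : ∀ N : ℕ, 0 < N → ‖E N‖ ≤ B * (N : ℝ) ^ (1 - δ) := fun N hN => by
    have hS : ∑ k ∈ Finset.Icc 1 N, a k = Nat.card {I : (Ideal (𝓞 K))⁰ // (Ideal.absNorm (I : Ideal (𝓞 K)) : ℝ) ≤ N} := by
      simp only [Nat.cast_le, a]
      rw [← add_left_inj 1, ← Ideal.card_norm_le_eq_card_norm_le_add_one,
        show Finset.Icc 1 N = Finset.Ioc 0 N from Finset.Icc_succ_left_eq_Ioc _ _,
        show 1 = Nat.card {I : Ideal (𝓞 K) // Ideal.absNorm I = 0} by simp [Ideal.absNorm_eq_zero_iff],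
        Finset.sum_Ioc_add_eq_sum_Icc (f := fun k => Nat.card {I : Ideal (𝓞 K) // Ideal.absNorm I = k}) (N.zero_le),
        ← Finset.card_preimage_eq_sum_card_image_eq (fun k _ ↦ Ideal.finite_setOfPred_absNorm_eq k)]
      simp [Set.coe_eq_subtype]
    have hE' : E N = ((((∑ k ∈ Finset.Icc 1 N, a k : ℕ) : ℝ) - c * N : ℝ) : ℂ) := by
      simp only [E, Finset.sum_sub_distrib, Finset.sum_const, Nat.card_Icc, add_tsub_cancel_right, nsmul_eq_mul]
      push_cast
      ring
    rw [hE', Complex.norm_real, Real.norm_eq_abs, hS]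
    exact hcount N (by exact_mod_cast hN)
  let term : ℕ → ℂ → ℂ := fun k s => E k * ((k : ℂ) ^ (-s) - ((k + 1 : ℕ) : ℂ) ^ (-s))
  let h : ℂ → ℂ := fun s => ∑' k, term k s
  have hterm : ∀ (k : ℕ) (s : ℂ), 0 < s.re → ‖term k s‖ ≤ B * ‖s‖ * (k : ℝ) ^ (-s.re - δ) := by
    intro k s hs
    rcases Nat.eq_zero_or_pos k with rfl | hk
    · have : E 0 = 0 := by simp [E]
      simp only [term, this, zero_mul, norm_zero]
      positivity
    · have hk' : (0 : ℝ) < k := by exact_mod_cast hk
      rw [norm_mul]
      refine (mul_le_mul (hE k hk) (norm_cpow_sub_cpow_succ_le hk hs) (norm_nonneg _) (by positivity)).trans_eq ?_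
      rw [show -s.re - δ = (1 - δ) + (-s.re - 1) by ring, Real.rpow_add hk']
      ring
  have hh : DifferentiableOn ℂ h {s | 1 - δ < s.re} := fun s₀ hs₀ => by
    set σ₀ : ℝ := (s₀.re + (1 - δ)) / 2
    have hσ : 1 - δ < σ₀ ∧ σ₀ < s₀.re := by
      simp only [Set.mem_ofPred_eq] at hs₀
      constructor <;> simp only [σ₀] <;> linarith
    let V : Set ℂ := {s | σ₀ < s.re} ∩ Metric.ball 0 (‖s₀‖ + 1)
    have hV : IsOpen V := (isOpen_lt continuous_const Complex.continuous_re).inter Metric.isOpen_ball
    have hs₀V : s₀ ∈ V := ⟨hσ.2, by simp⟩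
    have hd : DifferentiableOn ℂ h V := by
      refine Complex.differentiableOn_tsum_of_summable_norm (u := fun k : ℕ => B * (‖s₀‖ + 1) * (k : ℝ) ^ (-σ₀ - δ))
        ((Real.summable_nat_rpow.2 (by linarith [hσ.1])).mul_left _) (fun k => ?_) hV fun k s hs => ?_
      · intro s hs
        rcases Nat.eq_zero_or_pos k with rfl | hk
        · have h0 : E 0 = 0 := by simp [E]
          simp only [term, h0, zero_mul]
          exact differentiableWithinAt_const _
        · refine (((differentiableAt_id.neg.const_cpow (Or.inl (Nat.cast_ne_zero.2 hk.ne'))).sub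
            (differentiableAt_id.neg.const_cpow (Or.inl (Nat.cast_ne_zero.2 k.succ_ne_zero)))).const_mul _).differentiableWithinAt
      · have hs1 : σ₀ < s.re := hs.1
        refine (hterm k s (by linarith [hσ.1])).trans ?_
        rcases Nat.eq_zero_or_pos k with rfl | hk
        · rw [Nat.cast_zero, Real.zero_rpow (by linarith [hσ.1]), Real.zero_rpow (by linarith [hσ.1])]
          simp
        · refine mul_le_mul (mul_le_mul_of_nonneg_left ?_ hB) ?_ (by positivity) (by positivity)
          · have := hs.2; rw [Metric.mem_ball, dist_zero_right] at this; linarith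
          · exact Real.rpow_le_rpow_of_exponent_le (by exact_mod_cast hk) (by linarith)
    exact ((hd s₀ hs₀V).differentiableAt (hV.mem_nhds hs₀V)).differentiableWithinAt
  let Z₁ : ℂ → ℂ := Function.update (fun s => (s - 1) * riemannZeta s) 1 1
  have hZ₁ : Differentiable ℂ Z₁ := by
    intro s
    rcases eq_or_ne s 1 with rfl | hs
    · refine (Complex.analyticAt_of_differentiable_on_punctured_nhds_of_continuousAt ?_ ?_).differentiableAt
      · filter_upwards [self_mem_nhdsWithin] with t ht
        refine DifferentiableAt.congr_of_eventuallyEq (f := fun s => (s - 1) * riemannZeta s)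
          ((differentiableAt_id.sub_const 1).mul (differentiableAt_riemannZeta ht)) ?_
        filter_upwards [isOpen_ne.mem_nhds ht] with x hx
        exact Function.update_of_ne hx _ _
      · exact continuousAt_update_same.2 riemannZeta_residue_one
    · refine DifferentiableAt.congr_of_eventuallyEq (f := fun s => (s - 1) * riemannZeta s)
        ((differentiableAt_id.sub_const 1).mul (differentiableAt_riemannZeta hs)) ?_
      filter_upwards [isOpen_ne.mem_nhds hs] with x hx
      exact Function.update_of_ne hx _ _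
  let F : ℂ → ℂ := fun s => (c : ℂ) * Z₁ s + (s - 1) * h s
  have hFa : AnalyticOnNhd ℂ F {s | 1 - δ < s.re} :=
    DifferentiableOn.analyticOnNhd (((hZ₁.const_mul _).differentiableOn).add
      ((differentiable_id.sub_const 1).differentiableOn.mul hh)) (isOpen_lt continuous_const Complex.continuous_re)
  have hFeq : ∀ s : ℂ, 1 < s.re → F s = (s - 1) * dedekindZeta K s := by
    intro s hs
    have hs1 : s ≠ 1 := fun h1 => by rw [h1] at hs; simp at hs
    have hdz : LSeriesSummable (fun n => (a n : ℂ)) s := by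
      refine LSeriesSummable_of_sum_norm_bigO_and_nonneg (r := 1) (Asymptotics.IsBigO.of_bound (|c| + B) ?_)
        (fun n => Nat.cast_nonneg _) zero_le_one hs
      filter_upwards [eventually_gt_atTop 0] with N hN
      have h1 := hE N hN
      have hN1 : (1 : ℝ) ≤ N := by exact_mod_cast hN
      have hS : (((∑ k ∈ Finset.Icc 1 N, (a k : ℝ)) : ℝ) : ℂ) = E N + c * N := by
        simp only [E, Finset.sum_sub_distrib, Finset.sum_const, Nat.card_Icc, add_tsub_cancel_right, nsmul_eq_mul]
        push_cast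
        ring
      rw [Real.rpow_one, Real.norm_natCast, ← Complex.norm_real, hS]
      refine (norm_add_le _ _).trans ?_
      rw [norm_mul, Complex.norm_real, Complex.norm_natCast, Real.norm_eq_abs]
      have h2 : (N : ℝ) ^ (1 - δ) ≤ N := Real.rpow_le_self_of_one_le hN1 (by linarith)
      nlinarith [mul_le_mul_of_nonneg_left h2 hB]
    let g : ℕ → ℂ := fun k => (k : ℂ) ^ (-s)
    have habel : ∀ N : ℕ, ∑ k ∈ Finset.Icc 1 N, ((a k : ℂ) - c) * g k =
        ∑ k ∈ Finset.Icc 1 N, term k s + E N * g (N + 1) := by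
      intro N
      induction N with
      | zero => simp [E]
      | succ N ih =>
        rw [Finset.sum_Icc_succ_top (by omega), Finset.sum_Icc_succ_top (by omega), ih]
        simp only [term, g, E]
        rw [Finset.sum_Icc_succ_top (by omega)]
        ring
    have hsummable : Summable fun k => term k s := by
      refine Summable.of_norm_bounded ((Real.summable_nat_rpow.2 (by linarith)).mul_left (B * ‖s‖)) fun k => hterm k s (by linarith)
    have hz : LSeriesSummable (1 : ℕ → ℂ) s := LSeriesSummable_one_iff.2 hs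
    have hlim1 : Tendsto (fun N => ∑ k ∈ Finset.Icc 1 N, ((a k : ℂ) - c) * g k) atTop
        (𝓝 (dedekindZeta K s - c * riemannZeta s)) := by
      have e1 : ∀ (f : ℕ → ℂ), LSeriesSummable f s →
          Tendsto (fun N => ∑ k ∈ Finset.Icc 1 N, f k * g k) atTop (𝓝 (LSeries f s)) := by
        intro f hf
        refine ((hf.hasSum.tendsto_sum_nat).comp (tendsto_add_atTop_nat 1)).congr fun N => ?_
        rw [Function.comp_apply, Finset.range_eq_Ico, Finset.sum_eq_sum_Ico_succ_bot (by omega), LSeries.term_zero, zero_add,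
          show Finset.Ico (0 + 1) (N + 1) = Finset.Icc 1 N from rfl]
        refine Finset.sum_congr rfl fun k hk => ?_
        rw [LSeries.term_of_ne_zero (by simp only [Finset.mem_Icc] at hk; omega), div_eq_mul_inv]
        simp [g, Complex.cpow_neg]
      have h1 := (e1 _ hdz).sub ((e1 _ hz).const_mul (c : ℂ))
      rw [LSeries_one_eq_riemannZeta hs] at h1
      refine h1.congr fun N => ?_
      rw [Finset.mul_sum, ← Finset.sum_sub_distrib]
      exact Finset.sum_congr rfl fun k _ => by simp [sub_mul]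
    have hlim2 : Tendsto (fun N => ∑ k ∈ Finset.Icc 1 N, term k s + E N * g (N + 1)) atTop (𝓝 (h s + 0)) := by
      refine Tendsto.add ?_ ?_
      · refine ((hsummable.hasSum.tendsto_sum_nat).comp (tendsto_add_atTop_nat 1)).congr fun N => ?_
        rw [Function.comp_apply, Finset.range_eq_Ico, Finset.sum_eq_sum_Ico_succ_bot (by omega),
          show term 0 s = 0 by simp [term, E], zero_add, show Finset.Ico (0 + 1) (N + 1) = Finset.Icc 1 N from rfl]
      · refine squeeze_zero_norm' (a := fun N : ℕ => B * (N : ℝ) ^ (-(s.re - 1 + δ))) ?_ ?_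
        · filter_upwards [eventually_gt_atTop 0] with N hN
          have hN' : (0 : ℝ) < N := by exact_mod_cast hN
          rw [norm_mul]
          refine (mul_le_mul (hE N hN) (le_of_eq_of_le ?_ (Real.rpow_le_rpow_of_nonpos hN'
            (by exact_mod_cast N.le_succ : (N : ℝ) ≤ ((N + 1 : ℕ) : ℝ)) (by linarith : -s.re ≤ 0))) (norm_nonneg _)
            (by positivity)).trans_eq ?_
          · simp only [g]
            rw [Complex.norm_natCast_cpow_of_pos N.succ_pos, Complex.neg_re]
          · rw [mul_assoc, ← Real.rpow_add hN']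
            ring_nf
        · have := ((tendsto_rpow_neg_atTop (by linarith : 0 < s.re - 1 + δ)).comp tendsto_natCast_atTop_atTop).const_mul B
          simpa using this
    have hkey := tendsto_nhds_unique hlim1 (hlim2.congr fun N => (habel N).symm)
    rw [add_zero] at hkey
    simp only [F, Z₁, Function.update_of_ne hs1]
    rw [← hkey]
    ring
  refine ⟨δ, hδ0, hδ1, F, hFa, ?_, hFeq⟩
  have h1 : Tendsto (fun s : ℝ => F s) (𝓝[>] 1) (𝓝 (F 1)) := by
    have hc : ContinuousAt F ((1 : ℝ) : ℂ) := (hFa _ (by simp [hδ0])).continuousAt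
    have := (hc.comp Complex.continuous_ofReal.continuousAt).tendsto
    simpa [Function.comp_def] using this.mono_left nhdsWithin_le_nhds
  have h2 : Tendsto (fun s : ℝ => F s) (𝓝[>] 1) (𝓝 (dedekindZeta_residue K)) := by
    refine (tendsto_sub_one_mul_dedekindZeta_nhdsGT K).congr' ?_
    filter_upwards [self_mem_nhdsWithin] with s hs
    rw [hFeq _ (by simpa using hs)]
  rw [tendsto_nhds_unique h1 h2]
  exact_mod_cast dedekindZeta_residue_ne_zero K

end LWQual
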