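import Groth.Agent.LWQualLib.Induct
import Groth.Agent.WeilLib.Dim

/-!
# Points of domains of finite type over a finite field
-/

set_option autoImplicit false
set_option maxHeartbeats 1000000
set_option synthInstance.maxHeartbeats 100000
set_option backward.isDefEq.respectTransparency false

noncomputable section

namespace LWQual

universe u

/-- A domain of finite type of dimension `d` over a finite field has asymptotically at least `q ^ d`
points over infinitely many finite fields. -/
theorem exists_many_points (k A : Type u) [Field k] [Finite k] [CommRing A] [IsDomain A] [Algebra k A]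
    [Algebra.FiniteType k A] :
    ∃ (d : ℕ) (B : ℝ), ringKrullDim A = d ∧ ∀ N : ℕ, ∃ (F : Type u) (_ : Field F) (_ : Finite F),
      N ≤ Nat.card F ∧ Finite (A →+* F) ∧
        (Nat.card F : ℝ) ^ d ≤ (Nat.card (A →+* F) : ℝ) + B * (Nat.card F : ℝ) ^ d / Real.sqrt (Nat.card F) := by
  classical
  let L := FractionRing A
  obtain ⟨d, hd, htr⟩ := WeilLib.dim_eq_trdeg k A L
  haveI : Algebra.EssFiniteType k L := Algebra.EssFiniteType.comp k A L
  obtain ⟨s, hs, hsep⟩ := exists_isTranscendenceBasis_and_isSeparable_of_perfectField k L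
  have hcard : s.card = d := by
    have h1 := hs.cardinalMk_eq_trdeg
    rw [htr, Cardinal.mk_coe_finset] at h1
    exact_mod_cast h1
  let t : Fin d → L := fun i => ((s.equivFinOfCardEq hcard).symm i : L)
  have hrange : Set.range t = (s : Set L) := by
    ext z
    constructor
    · rintro ⟨i, rfl⟩; exact ((s.equivFinOfCardEq hcard).symm i).2
    · intro hz; exact ⟨s.equivFinOfCardEq hcard ⟨z, hz⟩, by simp [t]⟩
  set k' := algebraicClosure k L with hk'
  haveI hfin : FiniteDimensional k k' := FieldsMiscLib.algebraicClosure_finite_of_fg (IntermediateField.fg_top k L)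
  haveI : Finite k' := Module.finite_of_finite k
  have hc : ∀ y : L, IsAlgebraic k' y → y ∈ Set.range (algebraMap k' L) := fun y hy =>
    ⟨⟨y, mem_algebraicClosure_iff.2 (IsAlgebraic.restrictScalars k hy)⟩, rfl⟩
  have ht : AlgebraicIndependent k' t := by
    haveI : Algebra.IsAlgebraic k k' := algebraicClosure.isAlgebraic k L
    exact (hs.1.comp _ (s.equivFinOfCardEq hcard).symm.injective).extendScalars _
  haveI : Algebra.IsSeparable (IntermediateField.adjoin k' (Set.range t)) L := by
    have hle : IntermediateField.adjoin k (s : Set L) ≤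
        (IntermediateField.adjoin k' (Set.range t)).restrictScalars k := by
      rw [IntermediateField.adjoin_le_iff, ← hrange]
      exact IntermediateField.subset_adjoin _ _
    letI := (IntermediateField.inclusion hle).toRingHom.toAlgebra
    haveI : IsScalarTower (IntermediateField.adjoin k (s : Set L))
        ((IntermediateField.adjoin k' (Set.range t)).restrictScalars k) L :=
      IsScalarTower.of_algebraMap_eq fun _ => rfl
    exact ⟨fun z => IsSeparable.tower_top ((IntermediateField.adjoin k' (Set.range t)).restrictScalars k)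
      (Algebra.IsSeparable.isSeparable (IntermediateField.adjoin k (s : Set L)) z)⟩
  haveI : IsFractionRing k' k' := inferInstance
  obtain ⟨XA, hXA⟩ := (inferInstance : Algebra.FiniteType k A).out
  let j : A →ₐ[k] L := IsScalarTower.toAlgHom k A L
  let A' : Subalgebra k' L := Algebra.adjoin k' ((XA.image j : Finset L) : Set L)
  have hjA : ∀ a : A, j a ∈ A' := fun a => by
    have ha : a ∈ Algebra.adjoin k (XA : Set A) := hXA ▸ Algebra.mem_top
    have h1 : j a ∈ (Algebra.adjoin k (XA : Set A)).map j := ⟨a, ha, rfl⟩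
    rw [AlgHom.map_adjoin] at h1
    have h2 : Algebra.adjoin k (j '' (XA : Set A)) ≤ A'.restrictScalars k := Algebra.adjoin_le fun z hz => by
      show z ∈ A'
      refine Algebra.subset_adjoin ?_
      rwa [Finset.coe_image]
    exact h2 h1
  obtain ⟨a, r, B, -, -, hr, -, hcount⟩ := generic_count d (R := k') (K := k') (L := L)
    (IntermediateField.fg_top_iff.2 (Algebra.EssFiniteType.of_comp k k' L)) hc t ht A' ⟨_, rfl⟩
    (fun l => by
      obtain ⟨p, q, hq, rfl⟩ := IsFractionRing.div_surjective A l
      exact ⟨_, hjA p, _, hjA q, IsFractionRing.to_map_ne_zero_of_mem_nonZeroDivisors hq, rfl⟩) 1 one_ne_zero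
  obtain ⟨p, hp⟩ := CharP.exists k'
  haveI := hp
  haveI : Fact p.Prime := ⟨CharP.char_is_prime k' p⟩
  refine ⟨d, B, hd, fun N => ?_⟩
  let F : Type u := ULift.{u} (FiniteField.Extension k' p (N + 1))
  haveI : Finite F := inferInstance
  have hF : Nat.card F = Nat.card k' ^ (N + 1) :=
    (Nat.card_congr Equiv.ulift).trans (FiniteField.natCard_extension k' p (N + 1))
  have hN : N ≤ Nat.card F := by
    rw [hF]
    exact (Nat.le_succ N).trans (Nat.lt_pow_self Finite.one_lt_card).le
  obtain ⟨hfinP, hP⟩ := hcount F (algebraMap k' F) ((map_ne_zero _).2 hr)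
  let i : A →+* A' := { toFun := fun a => ⟨j a, hjA a⟩
                        map_one' := Subtype.ext (map_one j)
                        map_mul' := fun x y => Subtype.ext (map_mul j x y)
                        map_zero' := Subtype.ext (map_zero j)
                        map_add' := fun x y => Subtype.ext (map_add j x y) }
  haveI hAF : Finite (A →+* F) := by
    refine Finite.of_injective (fun φ : A →+* F => ((fun c => φ (algebraMap k A c)), fun v : XA => φ v.1)) ?_
    intro φ φ' h
    refine RingHom.ext fun z => ?_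
    have hz : z ∈ Algebra.adjoin k (XA : Set A) := hXA ▸ Algebra.mem_top
    induction hz using Algebra.adjoin_induction with
    | mem v hv => exact congrFun (Prod.ext_iff.1 h).2 ⟨v, hv⟩
    | algebraMap c => exact congrFun (Prod.ext_iff.1 h).1 c
    | add p q _ _ hp hq => rw [map_add, map_add, hp, hq]
    | mul p q _ _ hp hq => rw [map_mul, map_mul, hp, hq]
  have hle : Nat.card (Pts (algebraMap k' F) a) ≤ Nat.card (A →+* F) := by
    refine Nat.card_le_card_of_injective (fun φ => φ.1.comp i) fun φ φ' h => Subtype.ext (RingHom.ext fun z => ?_)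
    obtain ⟨z, hz⟩ := z
    induction hz using Algebra.adjoin_induction with
    | mem v hv =>
      obtain ⟨w, hw, rfl⟩ := Finset.mem_image.1 hv
      exact RingHom.congr_fun h w
    | algebraMap c => exact (RingHom.congr_fun φ.2.1 c).trans (RingHom.congr_fun φ'.2.1 c).symm
    | add p q hp hq hp' hq' =>
      have e : ∀ φ : Pts (algebraMap k' F) a, φ.1 ⟨p + q, add_mem hp hq⟩ = φ.1 ⟨p, hp⟩ + φ.1 ⟨q, hq⟩ :=
        fun φ => map_add φ.1 ⟨p, hp⟩ ⟨q, hq⟩
      exact (e φ).trans ((congrArg₂ (· + ·) hp' hq').trans (e φ').symm)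
    | mul p q hp hq hp' hq' =>
      have e : ∀ φ : Pts (algebraMap k' F) a, φ.1 ⟨p * q, mul_mem hp hq⟩ = φ.1 ⟨p, hp⟩ * φ.1 ⟨q, hq⟩ :=
        fun φ => map_mul φ.1 ⟨p, hp⟩ ⟨q, hq⟩
      exact (e φ).trans ((congrArg₂ (· * ·) hp' hq').trans (e φ').symm)
  refine ⟨F, inferInstance, inferInstance, hN, hAF, ?_⟩
  have hs0 : (0 : ℝ) < Real.sqrt (Nat.card F) := Real.sqrt_pos.2 (by exact_mod_cast Nat.card_pos)
  have h1 : |(Nat.card (Pts (algebraMap k' F) a) : ℝ) - (Nat.card F : ℝ) ^ d| ≤
      B * (Nat.card F : ℝ) ^ d / Real.sqrt (Nat.card F) := (le_div_iff₀ hs0).2 hP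
  have h2 : (Nat.card (Pts (algebraMap k' F) a) : ℝ) ≤ Nat.card (A →+* F) := by exact_mod_cast hle
  linarith [(abs_le.1 h1).1]

end LWQual
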