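import Groth.Agent.LWQualLib.LatticeCount
import Mathlib

/-!
# Counting ideals of bounded norm, with an error term
-/

set_option autoImplicit false
set_option maxHeartbeats 1000000
set_option backward.isDefEq.respectTransparency false

noncomputable section

open NumberField NumberField.InfinitePlace NumberField.mixedEmbedding NumberField.mixedEmbedding.fundamentalCone
  NumberField.Units NumberField.Units.dirichletUnitTheorem Module
open scoped nonZeroDivisors Pointwise Classical

namespace LWQual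

variable (K : Type*) [Field K] [NumberField K]

/-- The coordinates of the faces. -/
abbrev FaceIdx := {w : InfinitePlace K // w ≠ w₀} ⊕ {w : InfinitePlace K // IsComplex w}

/-- A face: signs at the real places and possibly a fixed coordinate. -/
abbrev FaceSel := ({w : InfinitePlace K // IsReal w} → Bool) × Option ({w : InfinitePlace K // w ≠ w₀} × Bool)

variable {K}

open scoped Classical in
/-- The exponents on a face. -/
def faceExp (sel : Option ({w : InfinitePlace K // w ≠ w₀} × Bool)) (u : FaceIdx K → ℝ) : realSpace K := fun w =>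
  if h : w = w₀ then 0 else match sel with
    | none => u (Sum.inl ⟨w, h⟩)
    | some p => if ⟨w, h⟩ = p.1 then (if p.2 then 1 else 0) else u (Sum.inl ⟨w, h⟩)

/-- The scalar on a face. -/
def faceScal (sel : Option ({w : InfinitePlace K // w ≠ w₀} × Bool)) (u : FaceIdx K → ℝ) : ℝ :=
  match sel with
    | none => 1
    | some p => u (Sum.inl p.1)

/-- The map parametrising a piece of the boundary of the fundamental domain of norm at most one. -/
def faceMap (s : FaceSel K) (u : FaceIdx K → ℝ) : mixedSpace K :=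
  (fun w => (if s.1 w then (1 : ℝ) else -1) * (faceScal s.2 u * expMapBasis (faceExp s.2 u) w.1),
    fun w => ((faceScal s.2 u * expMapBasis (faceExp s.2 u) w.1 : ℝ) : ℂ) *
      Complex.exp (((2 * Real.pi * u (Sum.inr w) : ℝ) : ℂ) * Complex.I))

theorem contDiff_expMapBasis : ContDiff ℝ 1 (expMapBasis : realSpace K → realSpace K) := by
  refine contDiff_pi.2 fun w => ?_
  show ContDiff ℝ 1 fun x => expMapBasis x w
  simp only [expMapBasis_apply, expMap_apply]
  have h : ContDiff ℝ 1 fun x : realSpace K => (completeBasis K).equivFun.symm x w :=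
    ((ContinuousLinearMap.proj w).comp ((completeBasis K).equivFunL.symm : realSpace K →L[ℝ] realSpace K)).contDiff
  exact Real.contDiff_exp.comp (contDiff_const.mul h)

theorem contDiff_faceMap (s : FaceSel K) : ContDiff ℝ 1 (faceMap s) := by
  classical
  have hy : ContDiff ℝ 1 fun u : FaceIdx K → ℝ => faceExp s.2 u := by
    refine contDiff_pi.2 fun w => ?_
    simp only [faceExp]
    by_cases h : w = w₀
    · simp only [h, dite_true]; exact contDiff_const
    · simp only [h, dite_false]
      rcases s.2 with _ | p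
      · exact contDiff_apply ℝ ℝ _
      · by_cases h' : (⟨w, h⟩ : {w : InfinitePlace K // w ≠ w₀}) = p.1
        · simp only [h', if_true]; exact contDiff_const
        · simp only [h', if_false]; exact contDiff_apply ℝ ℝ _
  have hc : ContDiff ℝ 1 fun u : FaceIdx K → ℝ => faceScal s.2 u := by
    simp only [faceScal]
    rcases s.2 with _ | p
    · exact contDiff_const
    · exact contDiff_apply ℝ ℝ _
  have hv : ∀ w, ContDiff ℝ 1 fun u : FaceIdx K → ℝ => faceScal s.2 u * expMapBasis (faceExp s.2 u) w := fun w =>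
    hc.mul ((contDiff_pi.1 contDiff_expMapBasis w).comp hy)
  refine ContDiff.prodMk (contDiff_pi.2 fun w => contDiff_const.mul (hv w.1)) (contDiff_pi.2 fun w => ?_)
  refine (Complex.ofRealCLM.contDiff.comp (hv w.1)).mul ?_
  exact (ContDiff.restrict_scalars ℝ (Complex.contDiff_exp (𝕜 := ℂ) (n := 1))).comp
    ((Complex.ofRealCLM.contDiff.comp (contDiff_const.mul (contDiff_apply ℝ ℝ _))).mul contDiff_const)

variable (K)

theorem card_faceIdx : Fintype.card (FaceIdx K) = finrank ℝ (mixedSpace K) - 1 := by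
  classical
  rw [mixedEmbedding.finrank, Fintype.card_sum, Fintype.card_subtype_compl, Fintype.card_subtype_eq]
  have h1 := card_add_two_mul_card_eq_rank K
  have h2 := card_eq_nrRealPlaces_add_nrComplexPlaces K
  have h3 : Fintype.card {w : InfinitePlace K // IsComplex w} = nrComplexPlaces K := rfl
  have h4 : 0 < Fintype.card (InfinitePlace K) := Fintype.card_pos
  omega

/-- The boundary of the fundamental domain of norm at most one is small. -/
theorem coveredBy_frontier_normLeOne :
    CoveredBy (finrank ℝ (mixedSpace K) - 1) (frontier (normLeOne K)) := by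
  classical
  rw [← card_faceIdx]
  have hlip : ∀ s : FaceSel K, CoveredBy (Fintype.card (FaceIdx K)) (faceMap s '' Set.Icc 0 1) := fun s => by
    obtain ⟨L, hL⟩ := (contDiff_faceMap s).locallyLipschitz.locallyLipschitzOn.exists_lipschitzOnWith_of_compact isCompact_Icc
    exact coveredBy_image_cube _ hL
  have hzero : CoveredBy (Fintype.card (FaceIdx K)) ((fun _ => (0 : mixedSpace K)) '' Set.Icc (0 : FaceIdx K → ℝ) 1) :=
    coveredBy_image_cube _ (LipschitzWith.const' (K := 0) (0 : mixedSpace K)).lipschitzOnWith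
  let S : Option (FaceSel K) → Set (mixedSpace K) := fun o => match o with
    | none => (fun _ => (0 : mixedSpace K)) '' Set.Icc (0 : FaceIdx K → ℝ) 1
    | some s => faceMap s '' Set.Icc 0 1
  refine (CoveredBy.iUnion (S := S) fun o => ?_).mono fun x hx => ?_
  · rcases o with _ | s
    exacts [hzero, hlip s]
  obtain ⟨c, hc, v, ⟨y, hy, rfl⟩, hxv⟩ := closure_normLeOne_subset K hx.1
  replace hy : ∀ w, y w ∈ if w = w₀ then ({0} : Set ℝ) else Set.Icc 0 1 := fun w => hy w (Set.mem_univ w)
  have hy0 : y w₀ = 0 := by simpa using hy w₀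
  have hy1 : ∀ w : {w : InfinitePlace K // w ≠ w₀}, y w.1 ∈ Set.Icc (0 : ℝ) 1 := fun w => by simpa [w.2] using hy w.1
  rcases eq_or_lt_of_le hc.1 with rfl | hc0
  · refine Set.mem_iUnion.2 ⟨none, 0, ⟨le_rfl, fun _ => zero_le_one⟩, ?_⟩
    have h0 : ∀ w, normAtPlace w x = 0 := fun w => by
      rw [← normAtAllPlaces_apply, ← hxv]
      simp
    exact ((mixedEmbedding.forall_normAtPlace_eq_zero_iff).1 h0).symm
  -- the coordinate that is at an end
  obtain ⟨sel, u₀, hu₀, hy', hc'⟩ : ∃ (sel : Option ({w : InfinitePlace K // w ≠ w₀} × Bool))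
      (u₀ : {w : InfinitePlace K // w ≠ w₀} → ℝ), (∀ w, u₀ w ∈ Set.Icc (0 : ℝ) 1) ∧
      (∀ g : {w : InfinitePlace K // IsComplex w} → ℝ, faceExp sel (Sum.elim u₀ g) = y) ∧
      ∀ g : {w : InfinitePlace K // IsComplex w} → ℝ, faceScal sel (Sum.elim u₀ g) = c := by
    rcases eq_or_lt_of_le hc.2 with rfl | hc1
    · refine ⟨none, fun w => y w.1, hy1, fun g => funext fun w => ?_, fun g => rfl⟩
      simp only [faceExp]
      split_ifs with h
      · exact h ▸ hy0.symm
      · rfl
    · obtain ⟨w₁, hw₁⟩ : ∃ w₁ : {w : InfinitePlace K // w ≠ w₀}, y w₁.1 = 0 ∨ y w₁.1 = 1 := by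
        by_contra hall
        push Not at hall
        refine hx.2 (subset_interior_normLeOne K ⟨fun w => if w = w₀ then Real.log c else y w, ?_, ?_⟩)
        · rw [interior_paramSet]
          intro w _
          dsimp only
          split_ifs with h
          · simp only [h, if_true, Set.mem_Iio]
            exact Real.log_neg hc0 hc1
          · simp only [h, if_false, Set.mem_Ioo]
            exact ⟨lt_of_le_of_ne (hy1 ⟨w, h⟩).1 (hall ⟨w, h⟩).1.symm, lt_of_le_of_ne (hy1 ⟨w, h⟩).2 (hall ⟨w, h⟩).2⟩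
        · rw [← hxv, expMapBasis_apply'' (fun w => if w = w₀ then Real.log c else y w)]
          simp only [if_true, Real.exp_log hc0]
          congr 2
          funext w
          split_ifs with h
          · exact h ▸ hy0.symm
          · rfl
      refine ⟨some (w₁, decide (y w₁.1 = 1)), fun w => if w = w₁ then c else y w.1, fun w => ?_, fun g => funext fun w => ?_,
        fun g => by simp [faceScal]⟩
      · show (if w = w₁ then c else y w.1) ∈ Set.Icc (0 : ℝ) 1
        split_ifs
        exacts [hc, hy1 w]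
      · simp only [faceExp, Sum.elim_inl]
        split_ifs with h h' h''
        · exact h ▸ hy0.symm
        · simp only [decide_eq_true_eq] at h''
          rw [show y w = y w₁.1 from congrArg y (congrArg Subtype.val h'), h'']
        · simp only [decide_eq_true_eq] at h''
          rw [show y w = y w₁.1 from congrArg y (congrArg Subtype.val h'), hw₁.resolve_right h'']
        · rfl
  have hnorm : ∀ w, normAtPlace w x = c * expMapBasis y w := fun w => by
    rw [← normAtAllPlaces_apply, ← hxv]
    simp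
  let θ : {w : InfinitePlace K // IsComplex w} → ℝ := fun w =>
    (x.2 w).arg / (2 * Real.pi) + if (x.2 w).arg < 0 then 1 else 0
  refine Set.mem_iUnion.2 ⟨some (fun w => decide (0 ≤ x.1 w), sel), Sum.elim u₀ θ, ?_, ?_⟩
  · have hpi := Real.pi_pos
    have key : ∀ i, Sum.elim u₀ θ i ∈ Set.Icc (0 : ℝ) 1 := by
      rintro (w | w)
      · exact hu₀ w
      · have h1 := Complex.neg_pi_lt_arg (x.2 w)
        have h2 := Complex.arg_le_pi (x.2 w)
        simp only [Sum.elim_inr, θ, Set.mem_Icc]
        split_ifs with h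
        · rw [div_add_one (by positivity), le_div_iff₀ (by positivity), div_le_iff₀ (by positivity)]
          constructor <;> linarith
        · rw [add_zero, le_div_iff₀ (by positivity), div_le_iff₀ (by positivity)]
          constructor <;> linarith [not_lt.1 h]
    exact ⟨fun i => (key i).1, fun i => (key i).2⟩
  · refine Prod.ext (funext fun w => ?_) (funext fun w => ?_)
    · have h := hnorm w.1
      rw [normAtPlace_apply_of_isReal w.2, Real.norm_eq_abs] at h
      simp only [faceMap, hy', hc', ← h, decide_eq_true_eq]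
      split_ifs with h'
      · rw [one_mul]; exact abs_of_nonneg h'
      · rw [abs_of_neg (not_le.1 h')]; simp
    · have h := hnorm w.1
      rw [normAtPlace_apply_of_isComplex w.2] at h
      simp only [faceMap, hy', hc', ← h, Sum.elim_inr, θ]
      conv_rhs => rw [← Complex.norm_mul_exp_arg_mul_I (x.2 w)]
      congr 1
      split_ifs with h'
      · rw [← Complex.exp_periodic (((x.2 w).arg : ℂ) * Complex.I)]
        congr 1
        push_cast
        field_simp
      · congr 1
        push_cast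
        field_simp
        ring

variable {K}

/-- The ideals of bounded norm in a class. -/
theorem exists_card_class (C : ClassGroup (𝓞 K)) :
    ∃ c B : ℝ, 0 ≤ B ∧ ∀ s : ℝ, 1 ≤ s →
      |(Nat.card {I : (Ideal (𝓞 K))⁰ // Ideal.absNorm (I : Ideal (𝓞 K)) ≤ s ∧ ClassGroup.mk0 I = C} : ℝ) - c * s| ≤
        B * s ^ (1 - (finrank ℚ K : ℝ)⁻¹) := by
  classical
  obtain ⟨J, hJ⟩ := ClassGroup.mk0_surjective C⁻¹
  obtain ⟨c, B, hB, hcount⟩ := exists_card_lattice_smul (mixedEmbedding.idealLattice K (FractionalIdeal.mk0 K J))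
    (isBounded_normLeOne K) (coveredBy_frontier_normLeOne K)
  rw [mixedEmbedding.finrank] at hcount
  set n := finrank ℚ K
  have hn : 0 < n := finrank_pos
  set T : ℝ := (Units.torsionOrder K : ℝ)
  have hT : 0 < T := by simp only [T]; exact_mod_cast Units.torsionOrder_pos K
  set NJ : ℝ := (Ideal.absNorm (J : Ideal (𝓞 K)) : ℝ)
  have hNJ : (1 : ℝ) ≤ NJ := by simp only [NJ]; exact_mod_cast Ideal.absNorm_pos_of_nonZeroDivisors J
  refine ⟨c * NJ / T, B * NJ / T, by positivity, fun s hs => ?_⟩
  have e1 : Nat.card {I : (Ideal (𝓞 K))⁰ // Ideal.absNorm (I : Ideal (𝓞 K)) ≤ s ∧ ClassGroup.mk0 I = C} =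
      Nat.card {I : (Ideal (𝓞 K))⁰ // (J : Ideal (𝓞 K)) ∣ I ∧ (I : Ideal (𝓞 K)).IsPrincipal ∧
        Ideal.absNorm (I : Ideal (𝓞 K)) ≤ s * NJ} := by
    simp_rw [← nonZeroDivisors_dvd_iff_dvd_coe]
    refine Nat.card_congr ?_
    refine ((Equiv.dvd J).subtypeEquiv fun I ↦ ?_).trans
      (Equiv.subtypeSubtypeEquivSubtypeInter (fun I : (Ideal (𝓞 K))⁰ ↦ J ∣ I) _)
    rw [← ClassGroup.mk0_eq_one_iff (SetLike.coe_mem _)]
    simp_rw [Equiv.dvd_apply, Submonoid.coe_mul, ← Submonoid.mul_def, _root_.map_mul, hJ,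
      inv_mul_eq_one, Nat.cast_mul, mul_comm s, eq_comm, and_comm, and_congr_left_iff]
    exact fun _ ↦
      (mul_le_mul_iff_of_pos_left (Nat.cast_pos.mpr (Ideal.absNorm_pos_of_nonZeroDivisors J))).symm
  have e2 := card_isPrincipal_dvd_norm_le K J (s * NJ)
  set X : ℝ := s * NJ
  have hX : 1 ≤ X := one_le_mul_of_one_le_of_one_le hs hNJ
  set t : ℝ := X ^ ((n : ℝ)⁻¹) with ht
  have ht1 : 1 ≤ t := Real.one_le_rpow hX (by positivity)
  have ht0 : 0 < t := zero_lt_one.trans_le ht1
  have htn : t ^ n = X := Real.rpow_inv_natCast_pow (by linarith) hn.ne'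
  have e3 : Nat.card {a : idealSet K J // mixedEmbedding.norm (a : mixedSpace K) ≤ X} =
      Nat.card ((mixedEmbedding.idealLattice K (FractionalIdeal.mk0 K J) : Set (mixedSpace K)) ∩ t • normLeOne K : Set (mixedSpace K)) := by
    refine Nat.card_congr ((Equiv.subtypeSubtypeEquivSubtypeInter (· ∈ idealSet K J)
      (mixedEmbedding.norm · ≤ X)).trans (Equiv.subtypeEquivProp (funext fun a => propext ?_)))
    show a ∈ idealSet K J ∧ _ ↔ a ∈ (_ ∩ t • normLeOne K : Set (mixedSpace K))
    rw [Set.mem_inter_iff, Set.mem_smul_set_iff_inv_smul_mem₀ ht0.ne', mem_normLeOne,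
      smul_mem_iff_mem (inv_ne_zero ht0.ne'), mixedEmbedding.norm_smul, abs_of_pos (inv_pos.2 ht0), inv_pow,
      htn, inv_mul_le_one₀ (by linarith), idealSet, Set.mem_inter_iff]
    tauto
  have h := hcount t ht1
  rw [htn] at h
  rw [← e1, e3] at e2
  set M : ℝ := (Nat.card {I : (Ideal (𝓞 K))⁰ // Ideal.absNorm (I : Ideal (𝓞 K)) ≤ s ∧ ClassGroup.mk0 I = C} : ℝ)
  have e2' : M * T = (Nat.card ((mixedEmbedding.idealLattice K (FractionalIdeal.mk0 K J) : Set (mixedSpace K)) ∩ t • normLeOne K : Set (mixedSpace K)) : ℝ) := by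
    simp only [M, T]; exact_mod_cast e2
  rw [← e2'] at h
  have hpow : t ^ (n - 1) ≤ NJ * s ^ (1 - (n : ℝ)⁻¹) := by
    rw [ht, ← Real.rpow_natCast, ← Real.rpow_mul (by linarith), Nat.cast_sub hn, Nat.cast_one,
      show (n : ℝ)⁻¹ * ((n : ℝ) - 1) = 1 - (n : ℝ)⁻¹ by field_simp, Real.mul_rpow (by linarith) (by linarith), mul_comm]
    refine mul_le_mul_of_nonneg_right ?_ (by positivity)
    exact Real.rpow_le_self_of_one_le hNJ (by linarith [inv_nonneg.2 (Nat.cast_nonneg (α := ℝ) n)])
  have h2 : |M * T - c * X| ≤ B * NJ * s ^ (1 - (n : ℝ)⁻¹) := by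
    refine h.trans ?_
    rw [mul_assoc]
    exact mul_le_mul_of_nonneg_left hpow hB
  calc |M - c * NJ / T * s| = |M * T - c * X| / T := by
        rw [show M - c * NJ / T * s = (M * T - c * X) / T by simp only [X]; field_simp, abs_div, abs_of_pos hT]
    _ ≤ _ := by rw [div_mul_eq_mul_div]; gcongr

variable (K)

/-- The ideals of bounded norm. -/
theorem exists_card_norm_le :
    ∃ c B : ℝ, 0 ≤ B ∧ ∀ s : ℝ, 1 ≤ s →
      |(Nat.card {I : (Ideal (𝓞 K))⁰ // Ideal.absNorm (I : Ideal (𝓞 K)) ≤ s} : ℝ) - c * s| ≤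
        B * s ^ (1 - (finrank ℚ K : ℝ)⁻¹) := by
  classical
  choose c B hB hcount using fun C : ClassGroup (𝓞 K) => exists_card_class C
  refine ⟨∑ C, c C, ∑ C, B C, Finset.sum_nonneg fun C _ => hB C, fun s hs => ?_⟩
  haveI : Finite {I : (Ideal (𝓞 K))⁰ // Ideal.absNorm (I : Ideal (𝓞 K)) ≤ s} := by
    simp_rw [← Nat.le_floor_iff (zero_le_one.trans hs)]
    exact (Ideal.finite_setOfPred_absNorm_le₀ ⌊s⌋₊).to_subtype
  have e : Nat.card {I : (Ideal (𝓞 K))⁰ // Ideal.absNorm (I : Ideal (𝓞 K)) ≤ s} =
      ∑ C, Nat.card {I : (Ideal (𝓞 K))⁰ // Ideal.absNorm (I : Ideal (𝓞 K)) ≤ s ∧ ClassGroup.mk0 I = C} := by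
    rw [← Nat.card_congr (Equiv.sigmaFiberEquiv fun I : {I : (Ideal (𝓞 K))⁰ // Ideal.absNorm (I : Ideal (𝓞 K)) ≤ s} =>
      ClassGroup.mk0 I.1), Nat.card_sigma]
    exact Finset.sum_congr rfl fun C _ => Nat.card_congr (Equiv.subtypeSubtypeEquivSubtypeInter
      (fun I : (Ideal (𝓞 K))⁰ => (Ideal.absNorm (I : Ideal (𝓞 K)) : ℝ) ≤ s) fun I => ClassGroup.mk0 I = C)
  rw [e, Nat.cast_sum, Finset.sum_mul, ← Finset.sum_sub_distrib, Finset.sum_mul]
  exact (Finset.abs_sum_le_sum_abs _ _).trans (Finset.sum_le_sum fun C _ => hcount C s hs)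

end LWQual
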