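import Mathlib

/-!
# Separability descends along purely transcendental extensions
-/

set_option autoImplicit false

noncomputable section

open Polynomial IntermediateField

namespace LWQual

variable {F L : Type*} [Field F] [Field L] [Algebra F L]

/-- An algebraic element separable over a purely transcendental extension is separable over the base. -/
theorem isSeparable_of_purelyTranscendental {ι : Type*} (x : ι → L) (hx : AlgebraicIndependent F x) (z : L)
    (hz : IsAlgebraic F z) (hs : IsSeparable (IntermediateField.adjoin F (Set.range x)) z) : IsSeparable F z := by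
  classical
  set E := IntermediateField.adjoin F (Set.range x) with hE
  have hint : IsIntegral F z := hz.isIntegral
  haveI : FiniteDimensional F F⟮z⟯ := IntermediateField.adjoin.finiteDimensional hint
  have hA : AlgebraicIndependent F⟮z⟯ x := by
    haveI : Algebra.IsAlgebraic F F⟮z⟯ := Algebra.IsAlgebraic.of_finite F F⟮z⟯
    exact hx.extendScalars _
  set g := minpoly F z with hg
  set e := g.natDegree with he
  let v : Fin e → L := fun i => z ^ (i : ℕ)
  have hv : LinearIndependent F v := by
    simpa [v, e, g] using linearIndependent_pow (K := F) z
  have hR : LinearIndependent (Algebra.adjoin F (Set.range x)) v := by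
    rw [Fintype.linearIndependent_iff]
    intro c hc
    have hmem : ∀ i, ∃ P : MvPolynomial ι F, MvPolynomial.aeval x P = (c i : L) := fun i => by
      exact (SetLike.ext_iff.mp (Algebra.adjoin_range_eq_range_aeval F x) _).mp (c i).2
    choose P hP using hmem
    have hzero : ∑ i : Fin e, MvPolynomial.C (⟨z, mem_adjoin_simple_self F z⟩ ^ (i : ℕ) : F⟮z⟯) *
        MvPolynomial.map (algebraMap F F⟮z⟯) (P i) = 0 := by
      apply hA
      simp only [map_sum, map_mul, map_zero, MvPolynomial.aeval_C, MvPolynomial.aeval_map_algebraMap]
      rw [← hc]
      refine Finset.sum_congr rfl fun i _ => ?_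
      rw [hP i, Algebra.smul_def, map_pow]
      exact mul_comm _ _
    intro i
    have hPi : P i = 0 := by
      ext m
      have hm : ∑ j : Fin e, (P j).coeff m • v j = 0 := by
        have := congrArg (fun Q => algebraMap F⟮z⟯ L (MvPolynomial.coeff m Q)) hzero
        simp only [MvPolynomial.coeff_sum, MvPolynomial.coeff_C_mul, MvPolynomial.coeff_map, MvPolynomial.coeff_zero] at this
        simp only [map_sum, map_mul, map_pow, map_zero] at this
        rw [← this]
        refine Finset.sum_congr rfl fun j _ => ?_
        rw [Algebra.smul_def, ← IsScalarTower.algebraMap_apply, mul_comm]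
        rfl
      simpa using Fintype.linearIndependent_iff.mp hv (fun j => (P j).coeff m) hm i
    apply Subtype.ext
    rw [← hP i, hPi]
    simp
  have hE' : LinearIndependent E v := by
    open scoped algebraAdjoinAdjoin in
    exact (LinearIndependent.iff_fractionRing (Algebra.adjoin F (Set.range x)) E).mp hR
  have hintE : IsIntegral E z := hint.tower_top
  have hdeg : e ≤ (minpoly E z).natDegree := by
    haveI : FiniteDimensional E E⟮z⟯ := IntermediateField.adjoin.finiteDimensional hintE
    have h1 : LinearIndependent E (fun i : Fin e => (⟨z, mem_adjoin_simple_self E z⟩ ^ (i : ℕ) : E⟮z⟯)) := by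
      refine LinearIndependent.of_comp E⟮z⟯.val.toLinearMap ?_
      exact hE'
    have h2 := h1.fintype_card_le_finrank
    rwa [Fintype.card_fin, IntermediateField.adjoin.finrank hintE] at h2
  have hdvd : minpoly E z ∣ g.map (algebraMap F E) := minpoly.dvd_map_of_isScalarTower F E z
  have heq : minpoly E z = g.map (algebraMap F E) := by
    refine (eq_of_monic_of_dvd_of_natDegree_le (minpoly.monic hintE) ((minpoly.monic hint).map _) hdvd ?_).symm
    rw [natDegree_map]
    exact hdeg
  have hsep : (minpoly E z).Separable := hs
  rw [heq, separable_map] at hsep
  exact hsep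

end LWQual
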