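import Groth.Agent.LWQualLib.Curve
import Groth.Agent.LWQualLib.Sep
import Groth.Agent.FieldsMiscLib.Basic

/-!
# The qualitative Lang–Weil estimate for a regular extension
-/

set_option autoImplicit false
set_option maxHeartbeats 2000000
set_option synthInstance.maxHeartbeats 400000
set_option backward.isDefEq.respectTransparency false

noncomputable section

open IntermediateField

namespace LWQual

universe u

/-- Elements of a field generated over the fraction field of `R` by a set are ratios in the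
`R`-algebra it generates. -/
theorem exists_div_of_mem_adjoin {R K L : Type*} [CommRing R] [IsDomain R] [Field K] [Algebra R K] [IsFractionRing R K]
    [Field L] [Algebra K L] [Algebra R L] [IsScalarTower R K L] (S : Subalgebra R L) {X : Set L}
    (hX : X ⊆ (S : Set L)) {l : L} (hl : l ∈ IntermediateField.adjoin K X) :
    ∃ a ∈ S, ∃ b ∈ S, b ≠ 0 ∧ l = a / b := by
  induction hl using IntermediateField.adjoin_induction with
  | mem y hy => exact ⟨y, hX hy, 1, one_mem _, one_ne_zero, (div_one y).symm⟩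
  | algebraMap c =>
    obtain ⟨a, b, hb, rfl⟩ := IsFractionRing.div_surjective R c
    refine ⟨_, S.algebraMap_mem a, _, S.algebraMap_mem b, ?_, ?_⟩
    · rw [IsScalarTower.algebraMap_apply R K L]
      exact (_root_.map_ne_zero _).2 (IsFractionRing.to_map_ne_zero_of_mem_nonZeroDivisors hb)
    · rw [map_div₀, ← IsScalarTower.algebraMap_apply, ← IsScalarTower.algebraMap_apply]
  | add a b _ _ ha hb =>
    obtain ⟨p, hp, q, hq, hq0, rfl⟩ := ha
    obtain ⟨p', hp', q', hq', hq0', rfl⟩ := hb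
    exact ⟨_, add_mem (mul_mem hp hq') (mul_mem hq hp'), _, mul_mem hq hq', mul_ne_zero hq0 hq0', div_add_div _ _ hq0 hq0'⟩
  | inv a _ ha =>
    obtain ⟨p, hp, q, hq, hq0, rfl⟩ := ha
    rcases eq_or_ne p 0 with rfl | hp0
    · exact ⟨0, zero_mem _, q, hq, hq0, by simp⟩
    · exact ⟨q, hq, p, hp, hp0, inv_div _ _⟩
  | mul a b _ _ ha hb =>
    obtain ⟨p, hp, q, hq, hq0, rfl⟩ := ha
    obtain ⟨p', hp', q', hq', hq0', rfl⟩ := hb
    exact ⟨_, mul_mem hp hp', _, mul_mem hq hq', mul_ne_zero hq0 hq0', div_mul_div_comm _ _ _ _⟩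

/-- The field of constants in the first step of the induction. -/
theorem exists_step {R K L : Type u} [CommRing R] [IsDomain R] [Field K] [Algebra R K] [IsFractionRing R K]
    [Field L] [Algebra K L] [Algebra R L] [IsScalarTower R K L] (hfg : (⊤ : IntermediateField K L).FG)
    {d : ℕ} (t : Fin (d + 1) → L) (ht : AlgebraicIndependent K t)
    [Algebra.IsSeparable (IntermediateField.adjoin K (Set.range t)) L] :
    ∃ (K₁ : IntermediateField K L) (X : Finset L) (x : K₁), Transcendental K x ∧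
      FiniteDimensional (IntermediateField.adjoin K ({x} : Set K₁)) K₁ ∧
      Algebra.IsSeparable (IntermediateField.adjoin K ({x} : Set K₁)) K₁ ∧
      (∀ y : L, IsAlgebraic K₁ y → y ∈ Set.range (algebraMap K₁ L)) ∧
      AlgebraicIndependent K₁ (t ∘ Fin.succ) ∧
      Algebra.IsSeparable (IntermediateField.adjoin K₁ (Set.range (t ∘ Fin.succ))) L ∧
      K₁ = IntermediateField.adjoin K (X : Set L) := by
  classical
  set E := IntermediateField.adjoin K ({t 0} : Set L) with hE
  set C₁ := algebraicClosure E L with hC₁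
  haveI : Algebra.EssFiniteType K L := IntermediateField.fg_top_iff.1 hfg
  haveI : Algebra.EssFiniteType E L := Algebra.EssFiniteType.of_comp K E L
  haveI hfin : FiniteDimensional E C₁ := FieldsMiscLib.algebraicClosure_finite_of_fg (IntermediateField.fg_top E L)
  let K₁ : IntermediateField K L := C₁.restrictScalars K
  let b := Module.finBasis E C₁
  let X : Finset L := insert (t 0) (Finset.univ.image fun i => ((b i : C₁) : L))
  have ht0 : t 0 ∈ K₁ := by
    show t 0 ∈ C₁
    exact C₁.algebraMap_mem (⟨t 0, mem_adjoin_simple_self K (t 0)⟩ : E)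
  let x : K₁ := ⟨t 0, ht0⟩
  have hgenK : K₁ = IntermediateField.adjoin K (X : Set L) := by
    refine le_antisymm (fun l hl => ?_) (IntermediateField.adjoin_le_iff.2 fun z hz => ?_)
    · have hl' : l ∈ C₁ := hl
      have h1 := congrArg (fun w : C₁ => (w : L)) (b.sum_repr ⟨l, hl'⟩)
      simp only at h1
      rw [← h1]
      rw [show ((∑ i, b.repr ⟨l, hl'⟩ i • b i : C₁) : L) = ∑ i, (b.repr ⟨l, hl'⟩ i : L) * (b i : L) by
        push_cast [Algebra.smul_def]; rfl]
      refine sum_mem fun i _ => mul_mem ?_ (IntermediateField.subset_adjoin _ _ (by simp [X]))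
      exact IntermediateField.adjoin.mono K _ _ (by simp [X]) (b.repr ⟨l, hl'⟩ i).2
    · rcases Finset.mem_insert.1 hz with rfl | hz
      · exact ht0
      · obtain ⟨i, -, rfl⟩ := Finset.mem_image.1 hz
        exact (b i).2
  have hclosed : ∀ y : L, IsAlgebraic K₁ y → y ∈ Set.range (algebraMap K₁ L) := fun y hy => by
    haveI : Algebra.IsAlgebraic E C₁ := algebraicClosure.isAlgebraic E L
    have hy' : IsAlgebraic C₁ y := hy
    refine ⟨⟨y, ?_⟩, rfl⟩
    show y ∈ C₁
    exact mem_algebraicClosure_iff.2 (IsAlgebraic.restrictScalars E hy')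
  -- independence of the other variables
  have hsplit : AlgebraicIndependent K (Sum.elim (t ∘ Fin.succ) fun _ : Unit => t 0) := by
    have := ht.comp (Sum.elim Fin.succ fun _ : Unit => (0 : Fin (d + 1))) (by
      rintro (a | a) (b | b) h
      · simpa using h
      · exact absurd h (Fin.succ_ne_zero a)
      · exact absurd h.symm (Fin.succ_ne_zero b)
      · rfl)
    convert this using 1
    ext (a | a) <;> rfl
  obtain ⟨hx0, hind'⟩ := AlgebraicIndependent.sumElim_iff.1 hsplit
  have hrange : Set.range (fun _ : Unit => t 0) = ({t 0} : Set L) := Set.range_const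
  rw [hrange, ← IntermediateField.algebraicIndependent_adjoin_iff] at hind'
  have hindC : AlgebraicIndependent C₁ (t ∘ Fin.succ) := by
    haveI : Algebra.IsAlgebraic E C₁ := algebraicClosure.isAlgebraic E L
    exact hind'.extendScalars _
  -- separability
  have hsepE : ∀ z : C₁, IsSeparable E z := by
    intro z
    have hzE : IsAlgebraic E (z : L) := mem_algebraicClosure_iff.1 z.2
    have hle : IntermediateField.adjoin K (Set.range t) ≤
        (IntermediateField.adjoin E (Set.range (t ∘ Fin.succ))).restrictScalars K := by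
      rw [IntermediateField.adjoin_le_iff]
      rintro _ ⟨i, rfl⟩
      rw [SetLike.mem_coe, IntermediateField.mem_restrictScalars]
      induction i using Fin.cases with
      | zero => exact IntermediateField.algebraMap_mem _ (⟨t 0, mem_adjoin_simple_self K (t 0)⟩ : E)
      | succ i => exact IntermediateField.subset_adjoin _ _ ⟨i, rfl⟩
    have hs : IsSeparable (IntermediateField.adjoin K (Set.range t)) (z : L) := Algebra.IsSeparable.isSeparable _ _
    letI := (IntermediateField.inclusion hle).toRingHom.toAlgebra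
    haveI : IsScalarTower (IntermediateField.adjoin K (Set.range t))
        ((IntermediateField.adjoin E (Set.range (t ∘ Fin.succ))).restrictScalars K) L :=
      IsScalarTower.of_algebraMap_eq fun _ => rfl
    have hs' : IsSeparable ((IntermediateField.adjoin E (Set.range (t ∘ Fin.succ))).restrictScalars K) (z : L) :=
      IsSeparable.tower_top _ hs
    have h1 := isSeparable_of_purelyTranscendental (t ∘ Fin.succ) hind' (z : L) hzE hs'
    show (minpoly E z).Separable
    rw [← minpoly.algebraMap_eq (algebraMap C₁ L).injective z]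
    exact h1
  haveI hsepC : Algebra.IsSeparable E C₁ := ⟨hsepE⟩
  -- transport
  let ι : K₁ →ₐ[K] L := K₁.val
  set E' := IntermediateField.adjoin K ({x} : Set K₁) with hE'
  have hmap : E'.map ι = E := by
    rw [hE', IntermediateField.adjoin_map, Set.image_singleton]; rfl
  let e₁ : E ≃ₐ[K] E' := (IntermediateField.equivOfEq hmap.symm).trans (IntermediateField.equivMap E' ι).symm
  let e₂ : C₁ ≃+* K₁ := RingEquiv.refl C₁
  have he : (algebraMap E' K₁).comp (e₁ : E →+* E') = (e₂ : C₁ →+* K₁).comp (algebraMap E C₁) :=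
    RingHom.ext fun a => Subtype.ext (by
      obtain ⟨a', rfl⟩ := e₁.symm.surjective a
      rw [RingHom.comp_apply, RingHom.comp_apply]
      show (((e₁ (e₁.symm a')) : K₁) : L) = ((e₁.symm a' : E) : L)
      rw [AlgEquiv.apply_symm_apply]
      rfl)
  refine ⟨K₁, X, x, ?_, ?_, ?_, hclosed, hindC, ?_, hgenK⟩
  · refine (transcendental_algebraMap_iff (algebraMap K₁ L).injective).1 ?_
    exact hx0.transcendental ()
  · exact Module.Finite.of_equiv_equiv (e₁ : E ≃+* E') e₂ he
  · exact Algebra.IsSeparable.of_equiv_equiv (e₁ : E ≃+* E') e₂ he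
  · have hle : IntermediateField.adjoin K (Set.range t) ≤
        (IntermediateField.adjoin K₁ (Set.range (t ∘ Fin.succ))).restrictScalars K := by
      rw [IntermediateField.adjoin_le_iff]
      rintro _ ⟨i, rfl⟩
      rw [SetLike.mem_coe, IntermediateField.mem_restrictScalars]
      induction i using Fin.cases with
      | zero => exact IntermediateField.algebraMap_mem _ x
      | succ i => exact IntermediateField.subset_adjoin _ _ ⟨i, rfl⟩
    letI := (IntermediateField.inclusion hle).toRingHom.toAlgebra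
    haveI : IsScalarTower (IntermediateField.adjoin K (Set.range t))
        ((IntermediateField.adjoin K₁ (Set.range (t ∘ Fin.succ))).restrictScalars K) L :=
      IsScalarTower.of_algebraMap_eq fun _ => rfl
    exact ⟨fun z => IsSeparable.tower_top ((IntermediateField.adjoin K₁ (Set.range (t ∘ Fin.succ))).restrictScalars K)
      (Algebra.IsSeparable.isSeparable (IntermediateField.adjoin K (Set.range t)) z)⟩

/-- Combining the estimates along a fibration by curves. -/
theorem bound_step {ι : Type*} [Fintype ι] (N : ι → ℝ) {q s B₁ B₂ : ℝ} (hs : 1 ≤ s) (hq : q = s * s)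
    (hB₁ : 0 ≤ B₁) (hB₂ : 0 ≤ B₂) (d : ℕ) (hN : ∀ i, |N i - q ^ d| * s ≤ B₂ * q ^ d)
    (hι : |(Fintype.card ι : ℝ) - q| ≤ B₁ * s) :
    |(∑ i, N i) - q ^ (d + 1)| * s ≤ ((1 + B₁) * B₂ + B₁) * q ^ (d + 1) := by
  have hs0 : 0 ≤ s := le_trans zero_le_one hs
  have hq0 : 0 ≤ q := by rw [hq]; exact mul_nonneg hs0 hs0
  set M := (Fintype.card ι : ℝ)
  have hM : M ≤ q * (1 + B₁) := by
    have h1 := (abs_le.1 hι).2
    have h2 : B₁ * s ≤ B₁ * q := mul_le_mul_of_nonneg_left (by rw [hq]; exact le_mul_of_one_le_left hs0 hs) hB₁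
    nlinarith
  calc |(∑ i, N i) - q ^ (d + 1)| * s = |(∑ i, (N i - q ^ d)) + (M - q) * q ^ d| * s := by
        congr 2
        rw [Finset.sum_sub_distrib, Finset.sum_const, Finset.card_univ, nsmul_eq_mul]
        ring
    _ ≤ (|∑ i, (N i - q ^ d)| + |(M - q) * q ^ d|) * s := mul_le_mul_of_nonneg_right (abs_add_le _ _) hs0
    _ ≤ (∑ i, |N i - q ^ d|) * s + |M - q| * q ^ d * s := by
        rw [add_mul]
        refine add_le_add (mul_le_mul_of_nonneg_right (Finset.abs_sum_le_sum_abs _ _) hs0) (le_of_eq ?_)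
        rw [abs_mul, abs_of_nonneg (pow_nonneg hq0 d)]
    _ ≤ M * (B₂ * q ^ d) + B₁ * s * q ^ d * s := by
        refine add_le_add ?_ (by gcongr)
        rw [Finset.sum_mul]
        calc ∑ i, |N i - q ^ d| * s ≤ ∑ _i : ι, B₂ * q ^ d := Finset.sum_le_sum fun i _ => hN i
          _ = _ := by rw [Finset.sum_const, Finset.card_univ, nsmul_eq_mul]
    _ ≤ q * (1 + B₁) * (B₂ * q ^ d) + B₁ * (q * q ^ d) := by
        refine add_le_add (mul_le_mul_of_nonneg_right hM (by positivity)) (le_of_eq ?_)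
        rw [hq]; ring
    _ = _ := by ring

/-- The qualitative Lang–Weil estimate: fibres of a model of a regular extension of dimension `d`
have `q ^ d + O(q ^ (d - 1/2))` points. -/
theorem generic_count : ∀ (d : ℕ) {R K L : Type u} [CommRing R] [IsDomain R] [Field K] [Algebra R K]
    [IsFractionRing R K] [Field L] [Algebra K L] [Algebra R L] [IsScalarTower R K L]
    (_hfg : (⊤ : IntermediateField K L).FG)
    (_hc : ∀ y : L, IsAlgebraic K y → y ∈ Set.range (algebraMap K L)) (t : Fin d → L)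
    (_ht : AlgebraicIndependent K t) [Algebra.IsSeparable (IntermediateField.adjoin K (Set.range t)) L]
    (A : Subalgebra R L) (_hAfg : A.FG) (_hA : ∀ l : L, ∃ a ∈ A, ∃ b ∈ A, b ≠ 0 ∧ l = a / b)
    (b : A) (_hb : (b : L) ≠ 0),
    ∃ (a : A) (r : R) (B : ℝ), b ∣ a ∧ (a : L) ≠ 0 ∧ r ≠ 0 ∧ 0 ≤ B ∧
      ∀ (F : Type u) [Field F] [Finite F] (ψ : R →+* F), ψ r ≠ 0 → Finite (Pts ψ a) ∧
        |(Nat.card (Pts ψ a) : ℝ) - (Nat.card F : ℝ) ^ d| * Real.sqrt (Nat.card F) ≤ B * (Nat.card F : ℝ) ^ d := by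
  intro d
  induction d with
  | zero =>
    intro R K L _ _ _ _ _ _ _ _ _ hfg hc t ht _ A hAfg hA b hb
    classical
    have hall : ∀ l : L, l ∈ Set.range (algebraMap K L) := fun l => by
      refine hc l ?_
      have h1 : IsSeparable (IntermediateField.adjoin K (Set.range t)) l := Algebra.IsSeparable.isSeparable _ _
      have hbot : IntermediateField.adjoin K (Set.range t) = (⊥ : IntermediateField K L) := by
        rw [Set.range_eq_empty, IntermediateField.adjoin_empty]
      haveI : Algebra.IsAlgebraic K (IntermediateField.adjoin K (Set.range t)) := by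
        rw [hbot]; exact Algebra.IsAlgebraic.of_finite K (⊥ : IntermediateField K L)
      exact IsAlgebraic.restrictScalars K h1.isIntegral.isAlgebraic
    have hinj : Function.Injective (algebraMap R L) := by
      rw [IsScalarTower.algebraMap_eq R K L]
      exact (algebraMap K L).injective.comp (IsFractionRing.injective R K)
    let S : Subalgebra R L := ⊥
    have hS : ∀ l : L, ∃ a ∈ S, ∃ b ∈ S, b ≠ 0 ∧ l = a / b := fun l => by
      obtain ⟨c, rfl⟩ := hall l
      obtain ⟨p, q, hq, rfl⟩ := IsFractionRing.div_surjective R c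
      refine ⟨_, S.algebraMap_mem p, _, S.algebraMap_mem q, ?_, ?_⟩
      · exact (map_ne_zero_iff _ hinj).2 (nonZeroDivisors.ne_zero hq)
      · rw [map_div₀, ← IsScalarTower.algebraMap_apply, ← IsScalarTower.algebraMap_apply]
    obtain ⟨s, a, hs, ha, hba, hequiv⟩ := exists_equiv_pts S A Subalgebra.fg_bot hAfg hS hA b hb
    obtain ⟨r, hr⟩ := Algebra.mem_bot.1 s.2
    refine ⟨a, r, 0, hba, ha, fun h0 => hs (by rw [← hr, h0, map_zero]), le_rfl, fun F _ _ ψ hψ => ?_⟩
    obtain ⟨e⟩ := hequiv F ψ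
    let eR : R ≃ₐ[R] S := AlgEquiv.ofBijective (Algebra.ofId R S)
      ⟨fun p q h => hinj (congrArg Subtype.val h), fun z => by
        obtain ⟨p, hp⟩ := Algebra.mem_bot.1 z.2
        exact ⟨p, Subtype.ext hp⟩⟩
    have hs' : eR r = s := Subtype.ext hr
    let e' : Pts ψ r ≃ Pts ψ a := (ptsCongr ψ eR r).trans (hs' ▸ e)
    haveI : Subsingleton (Pts ψ r) := ⟨fun p q => Subtype.ext (RingHom.ext fun z => by
      exact (RingHom.congr_fun p.2.1 z).trans (RingHom.congr_fun q.2.1 z).symm)⟩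
    haveI : Nonempty (Pts ψ r) := ⟨⟨ψ, RingHom.ext fun z => rfl, hψ⟩⟩
    haveI : Subsingleton (Pts ψ a) := e'.symm.subsingleton
    haveI : Nonempty (Pts ψ a) := e'.nonempty_congr.1 inferInstance
    refine ⟨inferInstance, ?_⟩
    rw [Nat.card_eq_one_iff_unique.2 ⟨inferInstance, inferInstance⟩]
    simp
  | succ d ih =>
    intro R K L _ _ _ _ _ _ _ _ _ hfg hc t ht _ A hAfg hA b hb
    classical
    obtain ⟨K₁, X, x, hx, hfinx, hsepx, hclosed, hind, hsep, hK₁⟩ :=
      exists_step (R := R) hfg t ht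
    haveI := hfinx
    haveI := hsepx
    haveI := hsep
    haveI hT1 : IsScalarTower R K₁ L := IsScalarTower.of_algebraMap_eq' (RingHom.ext fun r => by
      first
        | rfl
        | exact IsScalarTower.algebraMap_apply R K L r)
    -- the base of the fibration
    have hXK : ∀ z ∈ X, z ∈ K₁ := fun z hz => hK₁ ▸ IntermediateField.subset_adjoin _ _ hz
    let S₁ : Subalgebra R K₁ := Algebra.adjoin R {z : K₁ | (z : L) ∈ X}
    have hS₁fg : S₁.FG := ⟨X.attach.image fun z => (⟨z.1, hXK z.1 z.2⟩ : K₁), by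
      congr 1
      ext z
      simp only [Finset.coe_image, Set.mem_image, Finset.mem_coe, Finset.mem_attach, true_and, Set.mem_setOf_eq]
      exact ⟨fun ⟨w, hw⟩ => hw ▸ w.2, fun hz => ⟨⟨_, hz⟩, rfl⟩⟩⟩
    have hS₁ : ∀ l : K₁, ∃ a ∈ S₁, ∃ b ∈ S₁, b ≠ 0 ∧ l = a / b := fun l => by
      refine exists_div_of_mem_adjoin (K := K) S₁ Algebra.subset_adjoin ?_
      have h1 : (IntermediateField.adjoin K {z : K₁ | (z : L) ∈ X}).map K₁.val = K₁ := by
        rw [IntermediateField.adjoin_map]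
        conv_rhs => rw [hK₁]
        congr 1
        ext z
        exact ⟨fun ⟨w, hw, e⟩ => e ▸ hw, fun hz => ⟨⟨z, hXK z hz⟩, hz, rfl⟩⟩
      have h2 : (l : L) ∈ (IntermediateField.adjoin K {z : K₁ | (z : L) ∈ X}).map K₁.val := h1.symm ▸ l.2
      obtain ⟨w, hw, e⟩ := h2
      rwa [show l = w from Subtype.ext e.symm]
    haveI hT2 : IsScalarTower R S₁ L := IsScalarTower.of_algebraMap_eq fun r => IsScalarTower.algebraMap_apply R K₁ L r
    haveI : IsFractionRing S₁ K₁ := IsFractionRing.of_field S₁ K₁ fun z => by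
      obtain ⟨p, hp, q, hq, -, e⟩ := hS₁ z
      exact ⟨⟨p, hp⟩, ⟨q, hq⟩, e⟩
    -- the generic fibre
    obtain ⟨XA, hXA⟩ := id hAfg
    let A₁ : Subalgebra S₁ L := Algebra.adjoin S₁ (XA : Set L)
    have hle : A ≤ A₁.restrictScalars R := by
      rw [← hXA]
      exact Algebra.adjoin_le Algebra.subset_adjoin
    obtain ⟨a₀, ha₀, ha₀0, hdA⟩ := exists_den A hA X
    have hA₁ : ∀ l : L, ∃ p ∈ A₁, ∃ q ∈ A₁, q ≠ 0 ∧ l = p / q := fun l => by
      obtain ⟨p, hp, q, hq, h0, e⟩ := hA l
      exact ⟨p, hle hp, q, hle hq, h0, e⟩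
    obtain ⟨a₁, rA, BA, hba₁, ha₁, hrA, hBA, hfib⟩ :=
      ih (R := S₁) (K := K₁) (L := L) (IntermediateField.fg_top_iff.2 (by
        haveI : Algebra.EssFiniteType K L := IntermediateField.fg_top_iff.1 hfg
        exact Algebra.EssFiniteType.of_comp K K₁ L)) hclosed (t ∘ Fin.succ) hind A₁ ⟨XA, rfl⟩ hA₁
        ⟨(b : L) * a₀, mul_mem (hle b.2) (hle ha₀)⟩ (mul_ne_zero hb ha₀0)
    obtain ⟨s₂, r, B₁, ⟨w₂, hw₂⟩, hs₂, hr, hB₁, hbase⟩ :=
      curve_count (R := R) (K := K) (L := K₁) (fun y hy => by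
        obtain ⟨c, hc'⟩ := hc (y : L) (hy.algebraMap)
        exact ⟨c, Subtype.ext hc'⟩) x hx S₁ hS₁fg hS₁ rA (fun h0 => hrA (Subtype.ext h0))
    obtain ⟨z, hz⟩ := hba₁
    set c : A₁.restrictScalars R := ⟨((a₁ * algebraMap S₁ A₁ s₂ : A₁) : L), (a₁ * algebraMap S₁ A₁ s₂ : A₁).2⟩
      with hcdef
    have hc0 : (c : L) ≠ 0 := by
      show (a₁ : L) * algebraMap S₁ L s₂ ≠ 0
      refine mul_ne_zero ha₁ ((map_ne_zero_iff _ ?_).2 fun h0 => hs₂ (by rw [h0]; rfl))
      rw [IsScalarTower.algebraMap_eq S₁ K₁ L]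
      exact (algebraMap K₁ L).injective.comp Subtype.val_injective
    -- descend `c` to an element of `A`
    have hpow : ∀ u ∈ A₁, ∃ n : ℕ, u * a₀ ^ n ∈ A := by
      intro u hu
      induction hu using Algebra.adjoin_induction with
      | mem v hv => exact ⟨0, by rw [pow_zero, mul_one, ← hXA]; exact Algebra.subset_adjoin hv⟩
      | algebraMap s =>
        have hs' : (((s : K₁)) : L) ∈ Algebra.adjoin R (X : Set L) := by
          have : ((s : K₁) : L) ∈ (Algebra.adjoin R {z : K₁ | (z : L) ∈ X}).map (IsScalarTower.toAlgHom R K₁ L) :=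
            ⟨(s : K₁), s.2, rfl⟩
          rw [AlgHom.map_adjoin] at this
          exact Algebra.adjoin_mono (by rintro _ ⟨w, hw, rfl⟩; exact hw) this
        exact exists_mem_pow ha₀ (fun v hv => ⟨1, by rw [pow_one]; exact hdA v hv⟩) hs'
      | add p q _ _ hp hq =>
        obtain ⟨n, hn⟩ := hp
        obtain ⟨m, hm⟩ := hq
        refine ⟨n + m, ?_⟩
        rw [add_mul]
        refine add_mem ?_ ?_
        · rw [pow_add, ← mul_assoc]; exact mul_mem hn (pow_mem ha₀ _)
        · rw [add_comm, pow_add, ← mul_assoc]; exact mul_mem hm (pow_mem ha₀ _)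
      | mul p q _ _ hp hq =>
        obtain ⟨n, hn⟩ := hp
        obtain ⟨m, hm⟩ := hq
        exact ⟨n + m, by rw [pow_add, mul_mul_mul_comm]; exact mul_mem hn hm⟩
    obtain ⟨k, hk⟩ := hpow ((z * algebraMap S₁ A₁ s₂ : A₁) : L) (z * algebraMap S₁ A₁ s₂ : A₁).2
    set y : L := ((z * algebraMap S₁ A₁ s₂ : A₁) : L) with hy
    have hcy : (c : L) = (b : L) * a₀ * y := by
      show ((a₁ * algebraMap S₁ A₁ s₂ : A₁) : L) = _
      rw [hz, mul_assoc]
      rfl
    have hca : (c : L) * a₀ ^ k = (b : L) * (a₀ * (y * a₀ ^ k)) := by rw [hcy]; ring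
    have hmemA : (c : L) * a₀ ^ k ∈ A := by rw [hca]; exact mul_mem b.2 (mul_mem ha₀ hk)
    set a : A := ⟨(c : L) * a₀ ^ k * a₀, mul_mem hmemA ha₀⟩ with hadef
    have ha0 : (a : L) ≠ 0 := mul_ne_zero (mul_ne_zero hc0 (pow_ne_zero _ ha₀0)) ha₀0
    let T : Subalgebra R L := Algebra.adjoin R (((A₁.restrictScalars R : Subalgebra R L) : Set L) ∪ {(c : L)⁻¹})
    have hA₁T : A₁.restrictScalars R ≤ T := fun u hu => Algebra.subset_adjoin (Or.inl hu)
    have hcinv : (c : L)⁻¹ ∈ T := Algebra.subset_adjoin (Or.inr rfl)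
    have hTc : ∀ u ∈ T, ∃ n : ℕ, u * (c : L) ^ n ∈ A₁.restrictScalars R := fun u hu => by
      refine exists_mem_pow c.2 (fun v hv => ⟨1, ?_⟩) hu
      rw [pow_one]
      rcases hv with hv | rfl
      · exact mul_mem hv c.2
      · rw [inv_mul_cancel₀ hc0]; exact one_mem _
    have hTa : ∀ u ∈ T, ∃ n : ℕ, u * (a : L) ^ n ∈ A := fun u hu => by
      refine exists_mem_pow a.2 (fun v hv => ?_) hu
      rcases hv with hv | rfl
      · obtain ⟨n, hn⟩ := hpow v hv
        refine ⟨n, ?_⟩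
        show v * ((c : L) * a₀ ^ k * a₀) ^ n ∈ A
        rw [mul_pow _ a₀, mul_left_comm]
        exact mul_mem (pow_mem hmemA n) hn
      · refine ⟨1, ?_⟩
        show (c : L)⁻¹ * ((c : L) * a₀ ^ k * a₀) ^ 1 ∈ A
        rw [pow_one, mul_assoc (c : L), inv_mul_cancel_left₀ hc0]
        exact mul_mem (pow_mem ha₀ k) ha₀
    have hainv : (a : L)⁻¹ ∈ T := by
      have h1 : a₀⁻¹ ∈ T := by
        rw [show a₀⁻¹ = ((b : L) * y) * (c : L)⁻¹ by
          rw [hcy]
          have hyne : y ≠ 0 := fun h0 => hc0 (by rw [hcy, h0, mul_zero])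
          field_simp]
        exact mul_mem (hA₁T (mul_mem (hle b.2) (z * algebraMap S₁ A₁ s₂ : A₁).2)) hcinv
      show ((c : L) * a₀ ^ k * a₀)⁻¹ ∈ T
      rw [mul_inv, mul_inv, ← inv_pow]
      exact mul_mem (mul_mem hcinv (pow_mem h1 k)) h1
    refine ⟨a, r, (1 + B₁) * BA + B₁, ⟨⟨a₀ * (y * a₀ ^ k) * a₀, mul_mem (mul_mem ha₀ hk) ha₀⟩,
      Subtype.ext (by show (c : L) * a₀ ^ k * a₀ = (b : L) * (a₀ * (y * a₀ ^ k) * a₀); rw [hca]; ring)⟩,
      ha0, hr, add_nonneg (mul_nonneg (by linarith) hBA) hB₁, fun F _ _ ψ hψ => ?_⟩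
    obtain ⟨e₁⟩ := nonempty_equiv_loc ψ A T (hle.trans hA₁T) a ha0 hainv hTa
    obtain ⟨e₂⟩ := nonempty_equiv_loc ψ (A₁.restrictScalars R) T hA₁T c hc0 hcinv hTc
    -- points of the total space as pairs
    let iS : S₁ →+* A₁.restrictScalars R := algebraMap S₁ A₁
    have hbound : ∀ φ₁ : Pts ψ s₂, φ₁.1 rA ≠ 0 := fun φ₁ h0 => φ₁.2.2 ((congrArg φ₁.1 hw₂).trans (by rw [map_mul, h0, zero_mul]))
    let a₁' : A₁.restrictScalars R := a₁
    have hcm : c = a₁' * iS s₂ := rfl
    let e₃ : Pts ψ c ≃ Σ φ₁ : Pts ψ s₂, Pts φ₁.1 a₁ :=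
      { toFun := fun φ => ⟨⟨φ.1.comp iS, RingHom.ext fun p => by
            have := RingHom.congr_fun φ.2.1 p
            exact this, fun h0 => φ.2.2 (by
              have h0' : φ.1 (iS s₂) = 0 := h0
              exact (congrArg φ.1 hcm).trans (by rw [map_mul, h0', mul_zero]))⟩,
          ⟨φ.1, rfl, fun h0 => φ.2.2 (by
              have h0' : φ.1 a₁' = 0 := h0
              exact (congrArg φ.1 hcm).trans (by rw [map_mul, h0', zero_mul]))⟩⟩
        invFun := fun p => ⟨p.2.1, RingHom.ext fun q => by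
            have h1 := RingHom.congr_fun p.2.2.1 (algebraMap R S₁ q)
            have h2 := RingHom.congr_fun p.1.2.1 q
            exact h1.trans h2, by
            show p.2.1 (a₁ * algebraMap S₁ A₁ s₂) ≠ 0
            rw [map_mul]
            refine mul_ne_zero p.2.2.2 ?_
            rw [show p.2.1 (algebraMap S₁ A₁ s₂) = p.1.1 s₂ from RingHom.congr_fun p.2.2.1 s₂]
            exact p.1.2.2⟩
        left_inv := fun φ => rfl
        right_inv := fun p => by
          rcases p with ⟨⟨φ₁, h₁⟩, ⟨φ, hφ, hφ'⟩⟩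
          have : φ₁ = φ.comp iS := hφ.symm
          subst this
          rfl }
    haveI : ∀ φ₁ : Pts ψ s₂, Finite (Pts φ₁.1 a₁) := fun φ₁ => (hfib F φ₁.1 (hbound φ₁)).1
    haveI : Finite (Pts ψ s₂) := by
      obtain ⟨X₁, hX₁⟩ := id hS₁fg
      refine Finite.of_injective (fun (φ : Pts ψ s₂) (v : X₁) => φ.1 ⟨v.1, hX₁ ▸ Algebra.subset_adjoin v.2⟩)
        fun φ φ' h => ?_
      apply Subtype.ext
      refine RingHom.ext fun w => ?_
      obtain ⟨w, hw⟩ := w
      have hw' := hX₁.symm ▸ hw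
      induction hw' using Algebra.adjoin_induction with
      | mem v hv => exact congrFun h ⟨v, hv⟩
      | algebraMap p => exact (RingHom.congr_fun φ.2.1 p).trans (RingHom.congr_fun φ'.2.1 p).symm
      | add p q hp hq hp' hq' =>
        have e : ∀ φ : Pts ψ s₂, φ.1 ⟨p + q, hw⟩ = φ.1 ⟨p, hX₁ ▸ hp⟩ + φ.1 ⟨q, hX₁ ▸ hq⟩ := fun φ => map_add φ.1 ⟨p, hX₁ ▸ hp⟩ ⟨q, hX₁ ▸ hq⟩
        rw [e, e, hp', hq']
      | mul p q hp hq hp' hq' =>
        have e : ∀ φ : Pts ψ s₂, φ.1 ⟨p * q, hw⟩ = φ.1 ⟨p, hX₁ ▸ hp⟩ * φ.1 ⟨q, hX₁ ▸ hq⟩ := fun φ => map_mul φ.1 ⟨p, hX₁ ▸ hp⟩ ⟨q, hX₁ ▸ hq⟩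
        rw [e, e, hp', hq']
    let e := (e₁.trans e₂.symm).trans e₃
    refine ⟨Finite.of_equiv _ e.symm, ?_⟩
    letI := Fintype.ofFinite (Pts ψ s₂)
    rw [Nat.card_congr e, Nat.card_sigma, Nat.cast_sum]
    have hs1 : (1 : ℝ) ≤ Real.sqrt (Nat.card F) := by
      rw [← Real.sqrt_one]
      exact Real.sqrt_le_sqrt (by exact_mod_cast Nat.card_pos)
    refine bound_step (fun φ₁ : Pts ψ s₂ => (Nat.card (Pts φ₁.1 a₁) : ℝ)) hs1
      (Real.mul_self_sqrt (Nat.cast_nonneg _)).symm hB₁ hBA d (fun φ₁ => (hfib F φ₁.1 (hbound φ₁)).2) ?_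
    have h5 := hbase F ψ hψ
    rwa [Nat.card_eq_fintype_card] at h5

end LWQual
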