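import Groth.Agent.LWQualLib.Decomp

/-!
# The Lang–Weil estimate by components
-/

set_option autoImplicit false
set_option maxHeartbeats 1000000
set_option backward.isDefEq.respectTransparency false

noncomputable section

universe u

open CategoryTheory CategoryTheory.Limits AlgebraicGeometry TopologicalSpace

namespace LWQual

/-- The point counts of a scheme of finite type over a finite field, by components of top dimension. -/
theorem lang_weil_components {k : Type u} [Field k] [Finite k] {X : Scheme.{u}}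
    (f : X ⟶ Spec (CommRingCat.of k)) [LocallyOfFiniteType f] [QuasiCompact f] (r : ℕ)
    (hr : topologicalKrullDim X = r) :
    ∃ T : Finset (Set X), (∀ Z, Z ∈ T ↔ Z ∈ irreducibleComponents X ∧ topologicalKrullDim Z = r) ∧
      (∀ Z ∈ T, 0 < Nat.card (irreducibleComponents ((pullback.fst f (Spec.map (CommRingCat.ofHom
          (algebraMap k (AlgebraicClosure k))))).base ⁻¹' Z))) ∧
      T.Nonempty ∧ ∃ α : ℝ, 0 < α ∧ ∀ (e : ℕ), 1 ≤ e → ∀ Te : Finset (Set X), (∀ Z, Z ∈ Te ↔ Z ∈ T ∧
        Nat.card (irreducibleComponents ((pullback.fst f (Spec.map (CommRingCat.ofHom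
              (algebraMap k (AlgebraicClosure k))))).base ⁻¹' Z)) ∣ e) →
        |(Zeta.nPts f e : ℝ) - (∑ Z ∈ Te, Nat.card (irreducibleComponents ((pullback.fst f (Spec.map (CommRingCat.ofHom
              (algebraMap k (AlgebraicClosure k))))).base ⁻¹' Z)) : ℕ) * ((Nat.card k : ℝ) ^ e) ^ r| *
            Real.sqrt ((Nat.card k : ℝ) ^ e) ≤ α * ((Nat.card k : ℝ) ^ e) ^ r ∧
        (Te = ∅ → (Zeta.nPts f e : ℝ) * (Nat.card k : ℝ) ^ e ≤ α * ((Nat.card k : ℝ) ^ e) ^ r) := by
  classical
  haveI : IsLocallyNoetherian X := LocallyOfFiniteType.isLocallyNoetherian f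
  haveI : CompactSpace X := QuasiCompact.compactSpace_of_compactSpace f
  haveI : IsNoetherian X := {}
  have hfin : (irreducibleComponents X).Finite := NoetherianSpace.finite_irreducibleComponents
  let mult : Set X → ℕ := fun Z => Nat.card (irreducibleComponents ((pullback.fst f (Spec.map (CommRingCat.ofHom
      (algebraMap k (AlgebraicClosure k))))).base ⁻¹' Z))
  let T : Finset (Set X) := hfin.toFinset.filter fun Z => topologicalKrullDim Z = r
  have hT : ∀ Z, Z ∈ T ↔ Z ∈ irreducibleComponents X ∧ topologicalKrullDim Z = r := fun Z => by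
    simp [T]
  choose V g himm hsub hopen hne hdisj hpos c hc hcount using fun Z : T =>
    exists_piece f Z.1 ((hT _).1 Z.2).1 ((hT _).1 Z.2).2
  let R : Set X := (⋃ Z : T, Set.range (g Z).base)ᶜ
  have hR : IsClosed R := (isOpen_iUnion fun Z => hopen Z).isClosed_compl
  let S : Closeds X := ⟨R, hR⟩
  let ι : (Scheme.IdealSheafData.vanishingIdeal S).subscheme ⟶ X := (Scheme.IdealSheafData.vanishingIdeal S).subschemeι
  have hrι : Set.range ι.base = R :=
    (Scheme.IdealSheafData.range_subschemeι _).trans (Scheme.IdealSheafData.coe_support_vanishingIdeal _)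
  have hdimR : topologicalKrullDim R < r := dim_lt_of_subset hr R hR fun W hW hWr hWR => by
    obtain ⟨x, hx⟩ := hne ⟨W, (hT W).2 ⟨hW, hWr⟩⟩
    exact hWR (hsub _ hx) (Set.mem_iUnion.2 ⟨_, hx⟩)
  have hdimY : topologicalKrullDim ↥(Scheme.IdealSheafData.vanishingIdeal S).subscheme < r := by
    refine lt_of_eq_of_lt ?_ hdimR
    exact IsHomeomorph.topologicalKrullDim_eq _ (ι.isEmbedding.toHomeomorph.trans (Homeomorph.setCongr hrι)).isHomeomorph
  -- the part outside the pieces
  obtain ⟨D, hD⟩ : ∃ D : ℕ, ∀ e : ℕ, Zeta.nPts (ι ≫ f) e * Nat.card k ^ e ≤ D * (Nat.card k ^ e) ^ r := by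
    rcases Nat.eq_zero_or_pos r with rfl | hr0
    · have : IsEmpty ↥(Scheme.IdealSheafData.vanishingIdeal S).subscheme := by
        by_contra h
        rw [not_isEmpty_iff] at h
        obtain ⟨x⟩ := h
        haveI : Nonempty (IrreducibleCloseds ↥(Scheme.IdealSheafData.vanishingIdeal S).subscheme) :=
          ⟨⟨closure {x}, isIrreducible_singleton.closure, isClosed_closure⟩⟩
        exact absurd ((Order.krullDim_nonneg (α := IrreducibleCloseds _)).trans_lt hdimY) (by simp)
      refine ⟨0, fun e => ?_⟩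
      simp [Zeta.nPts, Zeta.degCount]
    obtain ⟨s, rfl⟩ := Nat.exists_eq_succ_of_ne_zero hr0.ne'
    have hs : topologicalKrullDim ↥(Scheme.IdealSheafData.vanishingIdeal S).subscheme ≤ s := by
      generalize topologicalKrullDim ↥(Scheme.IdealSheafData.vanishingIdeal S).subscheme = x at hdimY ⊢
      cases x with
      | bot => exact bot_le
      | coe x =>
        have h' : x < ((s + 1 : ℕ) : ℕ∞) := WithBot.coe_lt_coe.1 hdimY
        push_cast at h'
        exact WithBot.coe_le_coe.2 ((ENat.lt_add_one_iff (ENat.coe_ne_top s)).1 h')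
    obtain ⟨D, hD⟩ := nPts_le (ι ≫ f) s hs
    exact ⟨D, fun e => by rw [pow_succ, ← mul_assoc]; exact Nat.mul_le_mul_right _ (hD e)⟩
  have hTne : T.Nonempty := by
    by_contra hT0
    rw [Finset.not_nonempty_iff_eq_empty] at hT0
    have hRu : R = Set.univ := (congrArg compl (Set.eq_empty_of_forall_notMem fun x hx => by
      obtain ⟨Z, -⟩ := Set.mem_iUnion.1 hx
      exact absurd Z.2 (by simp [hT0]))).trans Set.compl_empty
    rw [hRu] at hdimR
    have h2 : topologicalKrullDim (Set.univ : Set X) = topologicalKrullDim X :=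
      IsHomeomorph.topologicalKrullDim_eq _ (Homeomorph.Set.univ X).isHomeomorph
    rw [h2, hr] at hdimR
    exact lt_irrefl _ hdimR
  refine ⟨T, hT, fun Z hZ => hpos ⟨Z, hZ⟩, hTne, (∑ Z : T, c Z) + D + 1,
    add_pos_of_nonneg_of_pos (add_nonneg (Finset.sum_nonneg fun Z _ => hc Z) (Nat.cast_nonneg D)) one_pos, fun e he Te hTe => ?_⟩
  -- the pieces and the rest
  let W : Option T → Scheme.{u} := fun o => o.elim (Scheme.IdealSheafData.vanishingIdeal S).subscheme V
  let G : ∀ o, W o ⟶ X := fun o => match o with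
    | none => ι
    | some Z => g Z
  haveI : ∀ o, IsImmersion (G o) := fun o => match o with
    | none => (inferInstance : IsImmersion ι)
    | some Z => himm Z
  have hpart := ZetaPtsLib.nPts_partition f G (fun x _ => by
    by_cases hx : x ∈ R
    · refine ⟨none, ?_, fun o ho => ?_⟩
      · show x ∈ Set.range ι.base
        rw [hrι]; exact hx
      · rcases o with _ | Z
        · rfl
        · exact absurd (Set.mem_iUnion.2 ⟨Z, ho⟩) hx
    · obtain ⟨Z, hZ⟩ := Set.mem_iUnion.1 (Set.notMem_compl_iff.1 hx)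
      refine ⟨some Z, hZ, fun o ho => ?_⟩
      rcases o with _ | Z'
      · exact absurd (hrι ▸ (ho : x ∈ Set.range ι.base)) hx
      · by_contra hne'
        exact Set.disjoint_left.1 (hdisj Z' Z.1 ((hT _).1 Z.2).1 fun h => hne' (congrArg some (Subtype.ext h.symm))) ho (hsub Z hZ)) e
  rw [Fintype.sum_option] at hpart
  change Zeta.nPts f e = Zeta.nPts (ι ≫ f) e + ∑ Z : T, Zeta.nPts (g Z ≫ f) e at hpart
  set Q : ℝ := (Nat.card k : ℝ) ^ e
  have hQ : 1 ≤ Q := one_le_pow₀ (by exact_mod_cast Nat.card_pos)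
  have hQr : (0 : ℝ) ≤ Q ^ r := by positivity
  have hsQ : Real.sqrt Q ≤ Q := by
    rw [Real.sqrt_le_iff]
    exact ⟨by linarith, by nlinarith⟩
  have hD' : (Zeta.nPts (ι ≫ f) e : ℝ) * Q ≤ (D : ℝ) * Q ^ r := by
    simp only [Q]; exact_mod_cast hD e
  have hTe' : Te = T.filter fun Z => mult Z ∣ e := by
    ext Z; simp [hTe, mult]
  have hsum : ((∑ Z ∈ Te, mult Z : ℕ) : ℝ) * Q ^ r = ∑ Z : T, if mult Z.1 ∣ e then (mult Z.1 : ℝ) * Q ^ r else 0 := by
    rw [hTe', Finset.sum_coe_sort T (fun Z => if mult Z ∣ e then (mult Z : ℝ) * Q ^ r else 0), ← Finset.sum_filter,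
      Nat.cast_sum, Finset.sum_mul]
  rw [hpart]
  push_cast
  constructor
  · have hterm : ∀ Z : T, |(Zeta.nPts (g Z ≫ f) e : ℝ) - (if mult Z.1 ∣ e then (mult Z.1 : ℝ) * Q ^ r else 0)| *
        Real.sqrt Q ≤ c Z * Q ^ r := fun Z => by
      split_ifs with h
      · exact (hcount Z e he).1 h
      · rw [sub_zero, abs_of_nonneg (Nat.cast_nonneg _)]
        exact (mul_le_mul_of_nonneg_left hsQ (Nat.cast_nonneg _)).trans ((hcount Z e he).2 h)
    rw [show (∑ Z ∈ Te, (mult Z : ℝ)) * Q ^ r = ((∑ Z ∈ Te, mult Z : ℕ) : ℝ) * Q ^ r by rw [Nat.cast_sum], hsum,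
      add_sub_assoc, ← Finset.sum_sub_distrib]
    refine le_trans (mul_le_mul_of_nonneg_right ((abs_add_le _ _).trans
      (add_le_add le_rfl (Finset.abs_sum_le_sum_abs _ _))) (Real.sqrt_nonneg _)) ?_
    rw [add_mul, Finset.sum_mul, abs_of_nonneg (Nat.cast_nonneg _)]
    have h1 := mul_le_mul_of_nonneg_left hsQ (Nat.cast_nonneg (α := ℝ) (Zeta.nPts (ι ≫ f) e))
    have h2 := Finset.sum_le_sum fun Z (_ : Z ∈ (Finset.univ : Finset T)) => hterm Z
    rw [← Finset.sum_mul Finset.univ c] at h2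
    linarith
  · intro hempty
    have hterm : ∀ Z : T, (Zeta.nPts (g Z ≫ f) e : ℝ) * Q ≤ c Z * Q ^ r := fun Z =>
      (hcount Z e he).2 fun h => by
        have : Z.1 ∈ Te := (hTe _).2 ⟨Z.2, h⟩
        simp [hempty] at this
    rw [add_mul, Finset.sum_mul]
    have h2 := Finset.sum_le_sum fun Z (_ : Z ∈ (Finset.univ : Finset T)) => hterm Z
    rw [← Finset.sum_mul Finset.univ c] at h2
    linarith

end LWQual
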