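import Mathlib

/-!
# Lattice points in dilates, with an error term
-/

set_option autoImplicit false
set_option maxHeartbeats 1000000

noncomputable section

open Metric MeasureTheory Module Submodule
open scoped Pointwise NNReal

namespace LWQual

variable {E : Type*} [NormedAddCommGroup E] [NormedSpace ℝ E]

/-- A set covered by `O(N ^ m)` balls of radius `O(1 / N)` for every `N`. -/
def CoveredBy (m : ℕ) (S : Set E) : Prop :=
  ∃ C : ℕ, ∀ N : ℕ, 0 < N → ∃ P : Finset E, P.card ≤ C * N ^ m ∧ S ⊆ ⋃ p ∈ P, closedBall p ((C : ℝ) / N)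

theorem CoveredBy.mono {m : ℕ} {S T : Set E} (h : CoveredBy m T) (hST : S ⊆ T) : CoveredBy m S := by
  obtain ⟨C, hC⟩ := h
  exact ⟨C, fun N hN => by
    obtain ⟨P, hP, hsub⟩ := hC N hN
    exact ⟨P, hP, hST.trans hsub⟩⟩

theorem CoveredBy.iUnion {m : ℕ} {ι : Type*} [Fintype ι] {S : ι → Set E} (h : ∀ i, CoveredBy m (S i)) :
    CoveredBy m (⋃ i, S i) := by
  classical
  choose C hC using h
  refine ⟨∑ i, C i, fun N hN => ?_⟩
  choose P hP hsub using fun i => hC i N hN
  refine ⟨Finset.univ.biUnion P, Finset.card_biUnion_le.trans ?_, Set.iUnion_subset fun i x hx => ?_⟩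
  · rw [Finset.sum_mul]
    exact Finset.sum_le_sum fun i _ => hP i
  · obtain ⟨p, hp, hx⟩ := Set.mem_iUnion₂.1 (hsub i hx)
    refine Set.mem_iUnion₂.2 ⟨p, Finset.mem_biUnion.2 ⟨i, Finset.mem_univ i, hp⟩, closedBall_subset_closedBall ?_ hx⟩
    gcongr
    exact_mod_cast Finset.single_le_sum (fun j _ => Nat.zero_le (C j)) (Finset.mem_univ i)

/-- Lipschitz images of cubes are covered. -/
theorem coveredBy_image_cube {ι : Type*} [Fintype ι] (f : (ι → ℝ) → E) {L : ℝ≥0}
    (hf : LipschitzOnWith L f (Set.Icc 0 1)) : CoveredBy (Fintype.card ι) (f '' Set.Icc 0 1) := by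
  classical
  refine ⟨2 ^ Fintype.card ι + ⌈(L : ℝ)⌉₊, fun N hN => ?_⟩
  let g : (ι → Fin (N + 1)) → (ι → ℝ) := fun v i => (v i : ℕ) / N
  refine ⟨Finset.univ.image (f ∘ g), Finset.card_image_le.trans ?_, ?_⟩
  · rw [Finset.card_univ, Fintype.card_fun, Fintype.card_fin]
    calc (N + 1) ^ Fintype.card ι ≤ (2 * N) ^ Fintype.card ι := Nat.pow_le_pow_left (by omega) _
      _ = 2 ^ Fintype.card ι * N ^ Fintype.card ι := mul_pow _ _ _
      _ ≤ _ := Nat.mul_le_mul_right _ (Nat.le_add_right _ _)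
  rintro _ ⟨u, hu, rfl⟩
  have hN' : (0 : ℝ) < N := by exact_mod_cast hN
  let v : ι → Fin (N + 1) := fun i => ⟨min ⌊u i * N⌋₊ N, by omega⟩
  have hgv : g v ∈ Set.Icc (0 : ι → ℝ) 1 := by
    refine ⟨fun i => by simp only [g, Pi.zero_apply]; positivity, fun i => ?_⟩
    simp only [g, Pi.one_apply]
    rw [div_le_one hN']
    exact_mod_cast (min_le_right _ _)
  have hd : dist u (g v) ≤ 1 / N := by
    refine (dist_pi_le_iff (by positivity)).2 fun i => ?_
    have h0 : 0 ≤ u i * N := mul_nonneg (hu.1 i) hN'.le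
    have h1 : ⌊u i * N⌋₊ ≤ N := Nat.floor_le_of_le (by
      exact mul_le_of_le_one_left hN'.le (hu.2 i))
    have hv : (g v i) = (⌊u i * N⌋₊ : ℝ) / N := by simp only [g, v, min_eq_left h1]
    rw [hv, Real.dist_eq, show u i - (⌊u i * N⌋₊ : ℝ) / N = (u i * N - ⌊u i * N⌋₊) / N by field_simp,
      abs_div, abs_of_pos hN']
    gcongr
    rw [abs_le]
    constructor <;> linarith [Nat.floor_le h0, Nat.lt_floor_add_one (u i * N)]
  refine Set.mem_iUnion₂.2 ⟨f (g v), Finset.mem_image.2 ⟨v, Finset.mem_univ v, rfl⟩, ?_⟩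
  rw [mem_closedBall]
  refine (hf.dist_le_mul u hu _ hgv).trans ?_
  calc (L : ℝ) * dist u (g v) ≤ (L : ℝ) * (1 / N) := mul_le_mul_of_nonneg_left hd L.2
    _ ≤ _ := by
      rw [mul_one_div]
      gcongr
      push_cast
      linarith [Nat.le_ceil (L : ℝ), pow_nonneg (zero_le_two (α := ℝ)) (Fintype.card ι)]

/-- A segment avoiding the frontier stays on one side. -/
theorem mem_iff_of_disjoint_frontier {s : Set E} {x y : E} (h : Disjoint (segment ℝ x y) (frontier s)) :
    x ∈ s ↔ y ∈ s := by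
  have hsub : segment ℝ x y ⊆ interior s ∪ interior sᶜ := fun z hz => by
    have hz' := Set.disjoint_left.1 h hz
    by_cases hzi : z ∈ interior s
    · exact Or.inl hzi
    · refine Or.inr ?_
      rw [interior_compl, Set.mem_compl_iff]
      exact fun hc => hz' ⟨hc, hzi⟩
  have hpre : IsPreconnected (segment ℝ x y) := (convex_segment x y).isPreconnected
  have hdisj : Disjoint (interior s) (interior sᶜ) :=
    Set.disjoint_left.2 fun z hz hz' => interior_subset hz' (interior_subset hz)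
  rcases isPreconnected_iff_subset_of_disjoint.1 hpre _ _ isOpen_interior isOpen_interior hsub
    (by rw [hdisj.inter_eq, Set.inter_empty]) with h1 | h1
  · exact iff_of_true (interior_subset (h1 (left_mem_segment ℝ x y))) (interior_subset (h1 (right_mem_segment ℝ x y)))
  · exact iff_of_false (interior_subset (h1 (left_mem_segment ℝ x y))) (interior_subset (h1 (right_mem_segment ℝ x y)))

variable [FiniteDimensional ℝ E]

/-- The number of lattice points in a dilate of a set with small frontier. -/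
theorem exists_card_lattice_smul (L : Submodule ℤ E) [DiscreteTopology L] [IsZLattice ℝ L]
    {D : Set E} (hb : Bornology.IsBounded D) (hfr : CoveredBy (finrank ℝ E - 1) (frontier D)) :
    ∃ c C : ℝ, 0 ≤ C ∧ ∀ t : ℝ, 1 ≤ t →
      |(Nat.card ((L : Set E) ∩ t • D : Set E) : ℝ) - c * t ^ finrank ℝ E| ≤ C * t ^ (finrank ℝ E - 1) := by
  classical
  letI : MeasurableSpace E := borel E
  haveI : BorelSpace E := ⟨rfl⟩
  let b₀ := Free.chooseBasis ℤ L
  let b := b₀.ofZLatticeBasis ℝ L
  have hL : L = span ℤ (Set.range b) := (b₀.ofZLatticeBasis_span ℝ L).symm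
  let μ : Measure E := Measure.addHaar
  set F := ZSpan.fundamentalDomain b with hF
  obtain ⟨R₀, hR₀⟩ := (ZSpan.fundamentalDomain_isBounded b).exists_norm_le
  set R : ℝ := |R₀| + 1
  have hR : ∀ x ∈ F, ‖x‖ ≤ R := fun x hx => (hR₀ x hx).trans (by linarith [le_abs_self R₀])
  have hFmeas : MeasurableSet F := ZSpan.fundamentalDomain_measurableSet b
  have hFfin : μ F ≠ ⊤ := (ZSpan.fundamentalDomain_isBounded b).measure_lt_top.ne
  set V : ℝ := μ.real F with hVdef
  have hV : 0 < V := ENNReal.toReal_pos (ZSpan.measure_fundamentalDomain_ne_zero b) hFfin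
  obtain ⟨C, hC⟩ := hfr
  set n := finrank ℝ E
  set B : ℝ := (C : ℝ) * 2 ^ (n - 1) * μ.real (closedBall (0 : E) (C + R))
  have hB : 0 ≤ B := mul_nonneg (by positivity) measureReal_nonneg
  refine ⟨μ.real D / V, B / V, div_nonneg hB hV.le, fun t ht => ?_⟩
  have ht0 : (0 : ℝ) < t := zero_lt_one.trans_le ht
  have hbt : Bornology.IsBounded (t • D) := hb.smul₀ t
  have hfin : ((L : Set E) ∩ t • D : Set E).Finite := by
    rw [hL, Set.inter_comm]
    exact ZSpan.setFinite_inter b hbt
  set A := hfin.toFinset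
  let W : Set E := ⋃ l ∈ A, l +ᵥ F
  have huniq : ∀ x : E, ∀ l ∈ (L : Set E), ∀ l' ∈ (L : Set E), x ∈ l +ᵥ F → x ∈ l' +ᵥ F → l = l' := by
    intro x l hl l' hl' h h'
    obtain ⟨v, -, hv⟩ := ZSpan.exist_unique_vadd_mem_fundamentalDomain b x
    have key : ∀ m ∈ (L : Set E), x ∈ m +ᵥ F → ∃ w : span ℤ (Set.range b), (w : E) = -m ∧ w = v := by
      intro m hm hmx
      refine ⟨⟨-m, by rw [← hL]; exact L.neg_mem hm⟩, rfl, hv _ ?_⟩
      rw [Set.mem_vadd_set_iff_neg_vadd_mem] at hmx
      exact hmx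
    obtain ⟨w, hw, rfl⟩ := key l hl h
    obtain ⟨w', hw', rfl⟩ := key l' hl' h'
    exact neg_injective (hw.symm.trans hw')
  have hW : μ.real W = A.card * V := by
    rw [measureReal_biUnion_finset (h := fun l _ => by rw [measure_vadd]; exact hFfin)]
    · simp only [Finset.sum_congr rfl fun l (_ : l ∈ A) => show μ.real (l +ᵥ F) = V by
        rw [measureReal_def, measure_vadd]; rfl, Finset.sum_const, nsmul_eq_mul]
    · intro l hl l' hl' hne
      exact Set.disjoint_left.2 fun x h h' => hne (huniq x l ((Set.Finite.mem_toFinset _).1 hl).1 l' ((Set.Finite.mem_toFinset _).1 hl').1 h h')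
    · exact fun l _ => hFmeas.const_vadd l
  -- the neighbourhood of the boundary
  set N : ℕ := ⌈t⌉₊
  have hN0 : 0 < N := Nat.ceil_pos.2 ht0
  obtain ⟨P, hP, hPsub⟩ := hC N hN0
  let Nb : Set E := ⋃ p ∈ P, closedBall (t • p) (C + R)
  have hnear : ∀ x y : E, ‖x - y‖ ≤ R → ¬ (x ∈ t • D ↔ y ∈ t • D) → x ∈ Nb := by
    intro x y hxy hne
    obtain ⟨z, hz, hzf⟩ := Set.not_disjoint_iff.1 (mt mem_iff_of_disjoint_frontier hne)
    have hfr' : frontier (t • D) = t • frontier D := by
      have := ((Homeomorph.smulOfNeZero t ht0.ne').image_frontier D).symm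
      simpa [Set.image_smul] using this
    rw [hfr'] at hzf
    obtain ⟨w, hw, rfl⟩ := hzf
    obtain ⟨p, hp, hwp⟩ := Set.mem_iUnion₂.1 (hPsub hw)
    refine Set.mem_iUnion₂.2 ⟨p, hp, ?_⟩
    rw [mem_closedBall] at hwp ⊢
    have h1 : dist x (t • w) ≤ R := by
      have hsum : dist x (t • w) ≤ dist x y := by
        have := dist_add_dist_of_mem_segment hz
        linarith [dist_nonneg (x := t • w) (y := y)]
      exact hsum.trans (by rwa [dist_eq_norm])
    have h2 : dist (t • w) (t • p) ≤ C := by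
      rw [dist_smul₀, Real.norm_eq_abs, abs_of_pos ht0]
      refine (mul_le_mul_of_nonneg_left hwp ht0.le).trans ?_
      have htN : t ≤ (N : ℝ) := Nat.le_ceil t
      calc t * ((C : ℝ) / N) ≤ (N : ℝ) * ((C : ℝ) / N) := mul_le_mul_of_nonneg_right htN (by positivity)
        _ = C := mul_div_cancel₀ _ (by exact_mod_cast hN0.ne')
    linarith [dist_triangle x (t • w) (t • p)]
  have hout : W ⊆ t • D ∪ Nb := fun x hx => by
    obtain ⟨l, hl, hxl⟩ := Set.mem_iUnion₂.1 hx
    by_cases hxD : x ∈ t • D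
    · exact Or.inl hxD
    obtain ⟨f, hf, rfl⟩ := hxl
    refine Or.inr (hnear _ l (by simpa using hR f hf) fun h => hxD (h.2 ((Set.Finite.mem_toFinset _).1 hl).2))
  have hin : t • D ⊆ W ∪ Nb := fun x hx => by
    let l : E := (ZSpan.floor b x : E)
    have hlL : l ∈ (L : Set E) := by rw [hL]; exact (ZSpan.floor b x).2
    have hfr'' : x - l ∈ F := ZSpan.fract_mem_fundamentalDomain b x
    by_cases hlD : l ∈ t • D
    · exact Or.inl (Set.mem_iUnion₂.2 ⟨l, (Set.Finite.mem_toFinset _).2 ⟨hlL, hlD⟩, x - l, hfr'', by simp⟩)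
    · exact Or.inr (hnear x l (hR _ hfr'') fun h => hlD (h.1 hx))
  have hNb : μ.real Nb ≤ B * t ^ (n - 1) := by
    refine (measureReal_biUnion_finset_le P _).trans ?_
    rw [Finset.sum_congr rfl fun p _ => show μ.real (closedBall (t • p) (C + R)) = μ.real (closedBall (0 : E) (C + R)) by
      rw [measureReal_def, measureReal_def, Measure.addHaar_closedBall_center], Finset.sum_const, nsmul_eq_mul]
    have h2 : (N : ℝ) ≤ 2 * t := by linarith [Nat.ceil_lt_add_one ht0.le]
    calc (P.card : ℝ) * μ.real (closedBall (0 : E) (C + R))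
        ≤ (C : ℝ) * (2 * t) ^ (n - 1) * μ.real (closedBall (0 : E) (C + R)) := by
          refine mul_le_mul_of_nonneg_right ?_ measureReal_nonneg
          calc (P.card : ℝ) ≤ (C : ℝ) * (N : ℝ) ^ (n - 1) := by exact_mod_cast hP
            _ ≤ _ := by gcongr
      _ = _ := by simp only [B]; ring
  have htD : μ.real (t • D) = t ^ n * μ.real D := by
    rw [measureReal_def, measureReal_def, Measure.addHaar_smul, ENNReal.toReal_mul, abs_of_pos (pow_pos ht0 _),
      ENNReal.toReal_ofReal (pow_pos ht0 _).le]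
  have hNfin : μ Nb ≠ ⊤ :=
    (P.finite_toSet.isCompact_biUnion fun p _ => isCompact_closedBall _ _).measure_lt_top.ne
  have hWfin : μ W ≠ ⊤ := (measure_biUnion_lt_top A.finite_toSet fun l _ => by
    rw [measure_vadd]; exact hFfin.lt_top).ne
  have hDfin : μ (t • D) ≠ ⊤ := hbt.measure_lt_top.ne
  have e1 : μ.real W ≤ μ.real (t • D) + μ.real Nb :=
    (measureReal_mono hout (measure_union_ne_top hDfin hNfin)).trans (measureReal_union_le _ _)
  have e2 : μ.real (t • D) ≤ μ.real W + μ.real Nb :=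
    (measureReal_mono hin (measure_union_ne_top hWfin hNfin)).trans (measureReal_union_le _ _)
  rw [Nat.card_coe_set_eq, Set.ncard_eq_toFinset_card _ hfin]
  have key : |(A.card : ℝ) * V - μ.real D * t ^ n| ≤ B * t ^ (n - 1) := by
    rw [← hW, mul_comm (μ.real D), ← htD, abs_le]
    constructor <;> linarith
  calc |(A.card : ℝ) - μ.real D / V * t ^ n| = |(A.card : ℝ) * V - μ.real D * t ^ n| / V := by
        rw [show (A.card : ℝ) - μ.real D / V * t ^ n = ((A.card : ℝ) * V - μ.real D * t ^ n) / V by field_simp,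
          abs_div, abs_of_pos hV]
    _ ≤ _ := by rw [div_mul_eq_mul_div]; gcongr

end LWQual
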