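import Groth.Agent.ZetaAbs.Count
import Groth.Agent.ZetaPtsLib.Part
import Mathlib

/-!
# The logarithm of the zeta function of an arithmetic scheme as a sum over closed points
-/

set_option autoImplicit false
set_option maxHeartbeats 1000000
set_option backward.isDefEq.respectTransparency false

noncomputable section

universe u v

open CategoryTheory AlgebraicGeometry Filter Topology

namespace LWQual

theorem norm_neg_log_le {z : ℂ} {q : ℝ} (hq : q < 1) (hz : ‖z‖ ≤ q) :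
    ‖-Complex.log (1 - z)‖ ≤ ((1 - q)⁻¹ + 1) * ‖z‖ := by
  rw [norm_neg, sub_eq_add_neg]
  refine (Complex.norm_log_one_add_le (by rw [norm_neg]; linarith)).trans ?_
  rw [norm_neg, add_one_mul]
  have h0 := norm_nonneg z
  have h1 : (1 - ‖z‖)⁻¹ ≤ (1 - q)⁻¹ := inv_anti₀ (by linarith) (by linarith)
  have h2 : 0 ≤ (1 - ‖z‖)⁻¹ := inv_nonneg.2 (by linarith)
  refine add_le_add ?_ le_rfl
  calc ‖z‖ ^ 2 * (1 - ‖z‖)⁻¹ / 2 ≤ ‖z‖ ^ 2 * (1 - ‖z‖)⁻¹ := by
        have : 0 ≤ ‖z‖ ^ 2 * (1 - ‖z‖)⁻¹ := by positivity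
        linarith
    _ ≤ ‖z‖ * (1 - q)⁻¹ := mul_le_mul (by nlinarith) h1 h2 h0
    _ = _ := mul_comm _ _

/-- The Euler product is the exponential of the sum of the logarithms. -/
theorem tsum_mon_eq_exp {ι : Type*} {w : ι → ℂ} {q : ℝ} (hq : q < 1) (hw : ∀ i, ‖w i‖ ≤ q)
    (hs : Summable fun i => ‖w i‖) :
    ∑' α : ι →₀ ℕ, ZetaAbs.mon w α = Complex.exp (∑' i, -Complex.log (1 - w i)) := by
  classical
  have hlog : Summable fun i => -Complex.log (1 - w i) :=
    Summable.of_norm_bounded (hs.mul_left ((1 - q)⁻¹ + 1)) fun i => norm_neg_log_le hq (hw i)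
  have hlim : Tendsto (fun F : Finset ι => ∏ i ∈ F, (1 - w i)⁻¹) atTop (𝓝 (∑' α : ι →₀ ℕ, ZetaAbs.mon w α)) := by
    have : (fun F : Finset ι => ∏ i ∈ F, (1 - w i)⁻¹) =
        fun F => ∑' α : ι →₀ ℕ, Set.indicator {α | α.support ⊆ F} (ZetaAbs.mon w) α := funext fun F => by
      rw [← (ZetaAbs.finite_euler w F fun i _ => (hw i).trans_lt hq).2.2]
      exact tsum_subtype {α : ι →₀ ℕ | α.support ⊆ F} (ZetaAbs.mon w)
    rw [this]
    refine tendsto_tsum_of_dominated_convergence (ZetaAbs.summable_norm_mon hq hw hs) (fun α => ?_)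
      (Eventually.of_forall fun F α => norm_indicator_le_norm_self _ _)
    refine tendsto_const_nhds.congr' ?_
    filter_upwards [eventually_ge_atTop α.support] with F hF
    exact (Set.indicator_of_mem (s := {α : ι →₀ ℕ | α.support ⊆ F}) hF (ZetaAbs.mon w)).symm
  refine tendsto_nhds_unique hlim ((hlog.hasSum.cexp).congr fun F => Finset.prod_congr rfl fun i _ => ?_)
  show Complex.exp (-Complex.log (1 - w i)) = (1 - w i)⁻¹
  rw [Complex.exp_neg, Complex.exp_log (sub_ne_zero.2 fun h => ?_)]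
  have := (hw i).trans_lt hq
  rw [← h, norm_one] at this
  exact lt_irrefl _ this

variable {X : Scheme.{u}}

/-- The weight of a closed point. -/
def wt (s : ℂ) (x : ZetaAbs.Pt X) : ℂ := (ZetaAbs.N x.1 : ℂ) ^ (-s)

/-- The logarithm of the zeta function. -/
def Lz (X : Scheme.{u}) (s : ℂ) : ℂ := ∑' x : ZetaAbs.Pt X, -Complex.log (1 - wt s x)

theorem norm_wt (s : ℂ) (x : ZetaAbs.Pt X) : ‖wt s x‖ = (ZetaAbs.N x.1 : ℝ) ^ (-s.re) := by
  rw [wt, Complex.norm_natCast_cpow_of_pos (lt_of_lt_of_le (by norm_num) x.2.2), Complex.neg_re]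

theorem norm_wt_le {s : ℂ} {σ : ℝ} (hσ : 0 ≤ σ) (hs : σ ≤ s.re) (x : ZetaAbs.Pt X) :
    ‖wt s x‖ ≤ (2 : ℝ) ^ (-σ) ∧ ‖wt s x‖ ≤ (ZetaAbs.N x.1 : ℝ) ^ (-σ) := by
  have h1 : (1 : ℝ) ≤ (ZetaAbs.N x.1 : ℝ) := by exact_mod_cast x.2.2.trans' one_le_two
  have h2 : ‖wt s x‖ ≤ (ZetaAbs.N x.1 : ℝ) ^ (-σ) := by
    rw [norm_wt]; exact Real.rpow_le_rpow_of_exponent_le h1 (by linarith)
  refine ⟨h2.trans ?_, h2⟩
  exact Real.rpow_le_rpow_of_nonpos (by norm_num) (by exact_mod_cast x.2.2) (by linarith)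

variable (f : X ⟶ Spec (CommRingCat.of (ULift.{u} ℤ))) [LocallyOfFiniteType f] [QuasiCompact f]
  (r : ℕ) (hr : topologicalKrullDim X ≤ r)

include f hr in
theorem summable_Lz {s : ℂ} (hs : (r : ℝ) < s.re) :
    Summable fun x : ZetaAbs.Pt X => -Complex.log (1 - wt s x) := by
  have h0 : 0 < s.re := lt_of_le_of_lt (Nat.cast_nonneg r) hs
  refine Summable.of_norm_bounded ((ZetaAbs.summable_N f r hr hs).mul_left ((1 - (2 : ℝ) ^ (-s.re))⁻¹ + 1)) fun x => ?_
  rw [← norm_wt]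
  exact norm_neg_log_le (Real.rpow_lt_one_of_one_lt_of_neg one_lt_two (by linarith)) (norm_wt_le h0.le le_rfl x).1

include f hr in
theorem differentiableOn_Lz : DifferentiableOn ℂ (Lz X) {s | (r : ℝ) < s.re} := fun s₀ hs₀ => by
  simp only [Set.mem_ofPred_eq] at hs₀
  set σ₀ : ℝ := (s₀.re + r) / 2 with hσ₀
  have hσ : (r : ℝ) < σ₀ ∧ σ₀ < s₀.re := by constructor <;> linarith
  have hσ0 : 0 < σ₀ := lt_of_le_of_lt (Nat.cast_nonneg r) hσ.1
  have hq : (2 : ℝ) ^ (-σ₀) < 1 := Real.rpow_lt_one_of_one_lt_of_neg one_lt_two (by linarith)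
  have hV : IsOpen {s : ℂ | σ₀ < s.re} := isOpen_lt continuous_const Complex.continuous_re
  have hd : DifferentiableOn ℂ (Lz X) {s : ℂ | σ₀ < s.re} := by
    refine Complex.differentiableOn_tsum_of_summable_norm
      (u := fun x : ZetaAbs.Pt X => ((1 - (2 : ℝ) ^ (-σ₀))⁻¹ + 1) * (ZetaAbs.N x.1 : ℝ) ^ (-σ₀))
      ((ZetaAbs.summable_N f r hr hσ.1).mul_left _) (fun x => ?_) hV fun x s hs => ?_
    · intro s hs
      simp only [Set.mem_ofPred_eq] at hs
      have h1 := (norm_wt_le hσ0.le hs.le x).1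
      refine DifferentiableAt.differentiableWithinAt ?_
      refine (DifferentiableAt.clog ((differentiableAt_const _).sub
        (differentiableAt_id.neg.const_cpow (Or.inl (Nat.cast_ne_zero.2 (by have := x.2.2; omega))))) ?_).neg
      refine Or.inl ?_
      have h2 := (abs_le.1 (Complex.abs_re_le_norm (wt s x))).2
      simp only [Pi.sub_apply, Complex.sub_re, Complex.one_re, sub_pos]
      exact lt_of_le_of_lt (h2.trans h1) hq
    · simp only [Set.mem_ofPred_eq] at hs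
      obtain ⟨h1, h2⟩ := norm_wt_le (s := s) hσ0.le hs.le x
      exact (norm_neg_log_le hq h1).trans (mul_le_mul_of_nonneg_left h2
        (add_nonneg (inv_nonneg.2 (by linarith)) zero_le_one))
  exact ((hd s₀ hσ.2).differentiableAt (hV.mem_nhds hσ.2)).differentiableWithinAt

include f hr in
theorem LSeries_eq_exp_Lz {s : ℂ} (hs : (r : ℝ) < s.re) :
    LSeries (Zeta.arithCoeff X) s = Complex.exp (Lz X s) := by
  classical
  let w : ZetaAbs.Pt X → ℂ := wt s
  have hr0 : 0 < s.re := lt_of_le_of_lt (Nat.cast_nonneg r) hs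
  have hq : (2 : ℝ) ^ (-s.re) < 1 := Real.rpow_lt_one_of_one_lt_of_neg (by norm_num) (by linarith)
  have hw : ∀ x, ‖w x‖ ≤ (2 : ℝ) ^ (-s.re) := fun x => (norm_wt_le hr0.le le_rfl x).1
  have hsum : Summable fun x => ‖w x‖ := by
    simp only [w, norm_wt]
    exact ZetaAbs.summable_N f r hr hs
  rw [show Lz X s = ∑' x, -Complex.log (1 - w x) from rfl, ← tsum_mon_eq_exp hq hw hsum]
  have hmon := ZetaAbs.summable_norm_mon hq hw hsum
  let φ : ℕ →* ℂ :=
    { toFun := fun n => (n : ℂ) ^ (-s)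
      map_one' := by simp
      map_mul' := fun a b => by rw [Nat.cast_mul]; exact Complex.natCast_mul_natCast_cpow a b (-s) }
  let Nm : (ZetaAbs.Pt X →₀ ℕ) → ℕ := fun α => α.prod fun x m => ZetaAbs.N x.1 ^ m
  have hN : ∀ α, ZetaAbs.mon w α = (Nm α : ℂ) ^ (-s) := fun α => by
    have h := map_finsuppProd φ α fun x m => ZetaAbs.N x.1 ^ m
    simp only [map_pow] at h
    exact h.symm
  have hNm0 : ∀ α, Nm α ≠ 0 := fun α => Finset.prod_ne_zero_iff.mpr fun x _ =>
    pow_ne_zero _ (by have := x.2.2; omega)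
  refine LSeriesHasSum.LSeries_eq ?_
  refine (hmon.of_norm.hasSum.tsum_fiberwise Nm).congr_fun fun n => ?_
  rcases eq_or_ne n 0 with rfl | hn
  · haveI : IsEmpty (Nm ⁻¹' {0}) := ⟨fun α => hNm0 α.1 α.2⟩
    simp [LSeries.term]
  have hfib : ∀ α : (Nm ⁻¹' {n}), ZetaAbs.mon w α.1 = (n : ℂ) ^ (-s) := fun α => by
    rw [hN, show Nm α.1 = n from α.2]
  rw [tsum_congr hfib, tsum_const, LSeries.term_of_ne_zero hn, nsmul_eq_mul, Complex.cpow_neg, ← div_eq_mul_inv]
  congr 1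
  show (Zeta.cycleNormCount X n : ℂ) = _
  norm_cast
  symm
  refine Nat.card_congr (Equiv.ofBijective (fun α => ⟨α.1.mapDomain Subtype.val, fun x hx => ?_, ?_⟩) ⟨?_, ?_⟩)
  · obtain ⟨y, -, rfl⟩ := Finset.mem_image.mp (Finsupp.mapDomain_support hx)
    exact y.2.1
  · rw [Finsupp.prod_mapDomain_index_inj Subtype.val_injective]
    exact α.2
  · intro α β h
    exact Subtype.ext (Finsupp.mapDomain_injective Subtype.val_injective (congrArg Subtype.val h))
  · rintro ⟨β, hcl, hβ⟩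
    have hsupp : (↑β.support : Set X) ⊆ Set.range (Subtype.val : ZetaAbs.Pt X → X) := fun x hx => by
      refine ⟨⟨x, hcl x hx, ?_⟩, rfl⟩
      have h0 : Nat.card (X.residueField x) ^ β x ≠ 0 := fun h0 => hn (by
        rw [← hβ]; exact Finset.prod_eq_zero hx h0)
      have h0' : Nat.card (X.residueField x) ≠ 0 := fun h1 => h0 (by
        rw [h1, zero_pow (Finsupp.mem_support_iff.mp hx)])
      have h1 := ZetaAbs.N_ne_one x
      simp only [ZetaAbs.N] at h1 ⊢
      omega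
    have hγ := Finsupp.mapDomain_comapDomain (Subtype.val : ZetaAbs.Pt X → X) Subtype.val_injective β hsupp
    refine ⟨⟨β.comapDomain Subtype.val Subtype.val_injective.injOn, ?_⟩, Subtype.ext hγ⟩
    show Nm _ = n
    conv_rhs => rw [← hβ, ← hγ, Finsupp.prod_mapDomain_index_inj Subtype.val_injective]
    rfl

omit [LocallyOfFiniteType f] [QuasiCompact f] in
/-- The norm of a point of an immersed subscheme. -/
theorem N_immersion {Y : Scheme.{u}} (g : Y ⟶ X) [IsPreimmersion g] (y : Y) : ZetaAbs.N y = ZetaAbs.N (g y) :=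
  (Nat.card_eq_of_bijective _ (ZetaPtsLib.residueFieldMap_bijective g y)).symm

omit [LocallyOfFiniteType f] [QuasiCompact f] in
/-- The closed points of a partition. -/
theorem bijective_pts [JacobsonSpace X] {ι : Type v} {Z : ι → Scheme.{u}} (g : ∀ i, Z i ⟶ X) [∀ i, IsImmersion (g i)]
    (hpart : ∀ x : X, IsClosed ({x} : Set X) → ∃! i, x ∈ Set.range (g i).base) :
    Function.Bijective (fun p : Σ i, ZetaAbs.Pt (Z i) => (⟨g p.1 p.2.1,
      (ZetaPtsLib.isClosed_iff_immersion (g p.1) p.2.1).1 p.2.2.1,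
      (N_immersion (g p.1) p.2.1) ▸ p.2.2.2⟩ : ZetaAbs.Pt X)) := by
  constructor
  · rintro ⟨i, y⟩ ⟨j, z⟩ h
    have h' : g i y.1 = g j z.1 := congrArg Subtype.val h
    obtain ⟨l, -, hl⟩ := hpart _ ((ZetaPtsLib.isClosed_iff_immersion (g i) y.1).1 y.2.1)
    obtain rfl : i = j := (hl i ⟨y.1, rfl⟩).trans (hl j ⟨z.1, h'.symm⟩).symm
    obtain rfl : y = z := Subtype.ext ((g i).isEmbedding.injective h')
    rfl
  · rintro ⟨x, hx, hN⟩
    obtain ⟨i, ⟨y, rfl⟩, -⟩ := hpart x hx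
    exact ⟨⟨i, y, (ZetaPtsLib.isClosed_iff_immersion (g i) y).2 hx, (N_immersion (g i) y).symm ▸ hN⟩, rfl⟩

include f hr in
/-- The logarithm of the zeta function is additive along partitions. -/
theorem Lz_partition {ι : Type v} [Fintype ι] {Z : ι → Scheme.{u}} (g : ∀ i, Z i ⟶ X) [∀ i, IsImmersion (g i)]
    (hpart : ∀ x : X, IsClosed ({x} : Set X) → ∃! i, x ∈ Set.range (g i).base) {s : ℂ} (hs : (r : ℝ) < s.re) :
    Lz X s = ∑ i, Lz (Z i) s := by
  haveI : IsJacobsonRing (ULift.{u} ℤ) :=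
    (isJacobsonRing_iso ULift.ringEquiv.symm).1 PointCount.isJacobsonRing_int
  haveI : JacobsonSpace (Spec (CommRingCat.of (ULift.{u} ℤ))) :=
    PrimeSpectrum.isJacobsonRing_iff_jacobsonSpace.1 inferInstance
  haveI : JacobsonSpace X := LocallyOfFiniteType.jacobsonSpace f
  let e := Equiv.ofBijective _ (bijective_pts g hpart)
  have hwt : ∀ p : Σ i, ZetaAbs.Pt (Z i), wt s (e p) = wt s p.2 := fun p => by
    simp only [wt, e, Equiv.ofBijective_apply, ← N_immersion (g p.1) p.2.1]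
  have hsum := (summable_Lz f r hr hs).comp_injective e.injective
  rw [Lz, ← e.tsum_eq]
  simp only [Function.comp_def, hwt] at hsum ⊢
  rw [Summable.tsum_sigma' (fun i => hsum.sigma_factor i) hsum, tsum_fintype]
  rfl

end LWQual
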