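import Groth.Agent.LWQualLib.LogZeta
import Groth.Agent.LWQualLib.Decomp

/-!
# The zeta function of an affine piece over a finite field
-/

set_option autoImplicit false
set_option maxHeartbeats 1000000
set_option synthInstance.maxHeartbeats 100000
set_option backward.isDefEq.respectTransparency false

noncomputable section

universe u

open CategoryTheory AlgebraicGeometry Module

namespace LWQual

theorem natCast_pow_cpow (q e : ℕ) (s : ℂ) : ((q ^ e : ℕ) : ℂ) ^ s = ((q : ℂ) ^ s) ^ e := by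
  induction e with
  | zero => simp
  | succ e ih => rw [pow_succ, Nat.cast_mul, Complex.natCast_mul_natCast_cpow, ih, ← pow_succ]

/-- The sum of logarithms over closed points regrouped by degree. -/
theorem hasSum_nPts {k : Type u} [Field k] [Finite k] {Y : Scheme.{u}} (g : Y ⟶ Spec (CommRingCat.of k))
    [LocallyOfFiniteType g] [QuasiCompact g] (r : ℕ) (hr : topologicalKrullDim Y ≤ r) {s : ℂ} (hs : (r : ℝ) < s.re) :
    HasSum (fun n : ℕ => (Zeta.nPts g n : ℂ) / n * ((Nat.card k : ℂ) ^ (-s)) ^ n) (Lz Y s) := by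
  classical
  haveI := ZetaAbs.lft_toInt g
  haveI := ZetaAbs.qc_toInt g
  set q := Nat.card k
  have hq : 1 < q := Finite.one_lt_card
  let dg : ZetaAbs.Pt Y → ℕ := fun x => EGA4loc.residueDegree g x.1
  have hdg : ∀ x, dg x ≠ 0 ∧ ZetaAbs.N x.1 = q ^ dg x := fun x => by
    haveI : Finite (Y.residueField x.1) := Nat.finite_of_card_ne_zero (by
      have := x.2.2; simp only [ZetaAbs.N] at this; omega)
    letI := (WeilLib.resMap g x.1).hom.toAlgebra
    haveI : Module.Finite k (Y.residueField x.1) := Module.Finite.of_finite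
    have h : dg x = finrank k (Y.residueField x.1) := WeilLib.residueDegree_eq_finrank g x.1
    exact ⟨h ▸ finrank_pos.ne', h ▸ Module.natCard_eq_pow_finrank⟩
  have hr0 : 0 < s.re := lt_of_le_of_lt (Nat.cast_nonneg r) hs
  have h2 : (2 : ℝ) ^ (-s.re) < 1 := Real.rpow_lt_one_of_one_lt_of_neg one_lt_two (by linarith)
  have hlt : ∀ x : ZetaAbs.Pt Y, ‖wt s x‖ < 1 := fun x => (norm_wt_le hr0.le le_rfl x).1.trans_lt h2
  let F : (ZetaAbs.Pt Y) × ℕ → ℂ := fun p => wt s p.1 ^ (p.2 + 1) / (p.2 + 1)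
  have hF : ∀ x, HasSum (fun j => F (x, j)) (-Complex.log (1 - wt s x)) := fun x =>
    (Complex.hasSum_taylorSeries_neg_log' (hlt x)).congr_fun fun j => by simp only [F]
  have hFs : Summable F := by
    have hnorm : ∀ p, ‖F p‖ ≤ ‖wt s p.1‖ * ((2 : ℝ) ^ (-s.re)) ^ p.2 := fun p => by
      simp only [F]
      rw [norm_div, norm_pow, pow_succ, mul_comm _ ‖wt s p.1‖]
      refine le_trans (div_le_self (by positivity) ?_) ?_
      · rw [show ((p.2 : ℂ) + 1) = ((p.2 + 1 : ℕ) : ℂ) by push_cast; rfl, Complex.norm_natCast]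
        exact_mod_cast Nat.succ_pos _
      · exact mul_le_mul_of_nonneg_left (pow_le_pow_left₀ (norm_nonneg _) (norm_wt_le hr0.le le_rfl p.1).1 _) (norm_nonneg _)
    refine Summable.of_norm_bounded ?_ hnorm
    refine Summable.mul_of_nonneg (f := fun x : ZetaAbs.Pt Y => ‖wt s x‖) ?_
      (summable_geometric_of_lt_one (by positivity) h2) (fun _ => norm_nonneg _) (fun _ => by positivity)
    simp only [norm_wt]
    exact ZetaAbs.summable_N (g ≫ ZetaAbs.toInt k) r hr hs
  have hval : ∑' p, F p = Lz Y s := by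
    rw [Lz, Summable.tsum_prod' hFs fun x => (hF x).summable]
    exact tsum_congr fun x => (hF x).tsum_eq
  rw [← hval]
  let key : (ZetaAbs.Pt Y) × ℕ → ℕ := fun p => dg p.1 * (p.2 + 1)
  refine (hFs.hasSum.tsum_fiberwise key).congr_fun fun n => ?_
  rcases eq_or_ne n 0 with rfl | hn
  · haveI : IsEmpty (key ⁻¹' {0}) := ⟨fun p => (hdg p.1.1).1 ((Nat.mul_eq_zero.1 p.2).resolve_right (by omega))⟩
    simp
  have hfin : ∀ e : ℕ, e ≠ 0 → {x : ZetaAbs.Pt Y | dg x = e}.Finite := fun e he =>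
    ((ZetaPtsLib.finite_closed_deg g he).preimage Subtype.val_injective.injOn).subset fun x hx => ⟨x.2.1, hx⟩
  let ι' := Σ e : n.divisors, {x : ZetaAbs.Pt Y // dg x = e.1}
  let eqv : ι' ≃ (key ⁻¹' {n}) :=
    { toFun := fun p => ⟨(p.2.1, n / p.1.1 - 1), by
        show dg p.2.1 * (n / p.1.1 - 1 + 1) = n
        have he := Nat.dvd_of_mem_divisors p.1.2
        have h1 : 1 ≤ n / p.1.1 := Nat.div_pos (Nat.le_of_dvd (Nat.pos_of_ne_zero hn) he) (Nat.pos_of_mem_divisors p.1.2)
        rw [Nat.sub_add_cancel h1, p.2.2, Nat.mul_div_cancel' he]⟩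
      invFun := fun p => ⟨⟨dg p.1.1, Nat.mem_divisors.2 ⟨⟨p.1.2 + 1, p.2.symm⟩, hn⟩⟩, p.1.1, rfl⟩
      left_inv := fun p => by
        obtain ⟨⟨e, he⟩, x, hx⟩ := p
        simp only at hx
        subst hx
        rfl
      right_inv := fun p => by
        obtain ⟨⟨x, j⟩, hp⟩ := p
        refine Subtype.ext (Prod.ext rfl ?_)
        have hp' : dg x * (j + 1) = n := hp
        show n / dg x - 1 = j
        rw [← hp', Nat.mul_div_cancel_left _ (Nat.pos_of_ne_zero (hdg x).1)]
        omega }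
  haveI : ∀ e : n.divisors, Finite {x : ZetaAbs.Pt Y // dg x = e.1} := fun e =>
    (hfin e.1 (Nat.pos_of_mem_divisors e.2).ne').to_subtype
  letI : ∀ e : n.divisors, Fintype {x : ZetaAbs.Pt Y // dg x = e.1} := fun e => Fintype.ofFinite _
  have hFv : ∀ p : ι', F (eqv p).1 = ((q : ℂ) ^ (-s)) ^ n * ((p.1.1 : ℂ) / n) := fun p => by
    show wt s p.2.1 ^ (n / p.1.1 - 1 + 1) / (((n / p.1.1 - 1 : ℕ) : ℂ) + 1) = _
    have he := Nat.dvd_of_mem_divisors p.1.2
    have he0 : (p.1.1 : ℂ) ≠ 0 := Nat.cast_ne_zero.2 (Nat.pos_of_mem_divisors p.1.2).ne'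
    have h1 : 1 ≤ n / p.1.1 := Nat.div_pos (Nat.le_of_dvd (Nat.pos_of_ne_zero hn) he) (Nat.pos_of_mem_divisors p.1.2)
    have hpow : wt s p.2.1 ^ (n / p.1.1) = ((q : ℂ) ^ (-s)) ^ n := by
      rw [wt, (hdg p.2.1).2, p.2.2, natCast_pow_cpow, ← pow_mul, Nat.mul_div_cancel' he]
    rw [Nat.sub_add_cancel h1, show ((n / p.1.1 - 1 : ℕ) : ℂ) + 1 = ((n / p.1.1 : ℕ) : ℂ) by
      rw [← Nat.cast_add_one, Nat.sub_add_cancel h1], hpow, Nat.cast_div he he0]
    rw [div_div_eq_mul_div, mul_div_assoc]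
  rw [← eqv.tsum_eq, tsum_congr hFv, tsum_fintype, Fintype.sum_sigma]
  have hD : ∀ e : n.divisors, (Fintype.card {x : ZetaAbs.Pt Y // dg x = e.1}) = Zeta.degCount g e.1 := fun e => by
    rw [← Nat.card_eq_fintype_card]
    refine Nat.card_congr
      { toFun := fun x => ⟨x.1.1, x.1.2.1, x.2⟩
        invFun := fun y => ⟨⟨y.1, y.2.1, ?_⟩, y.2.2⟩
        left_inv := fun _ => rfl
        right_inv := fun _ => rfl }
    letI := (WeilLib.resMap g y.1).hom.toAlgebra
    have he0 : 0 < e.1 := Nat.pos_of_mem_divisors e.2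
    have hfr : finrank k (Y.residueField y.1) = e.1 := (WeilLib.residueDegree_eq_finrank g y.1).symm.trans y.2.2
    haveI : Module.Finite k (Y.residueField y.1) := Module.finite_of_finrank_pos (lt_of_lt_of_eq he0 hfr.symm)
    show 2 ≤ Nat.card (Y.residueField y.1)
    rw [Module.natCard_eq_pow_finrank (K := k) (V := Y.residueField y.1), hfr]
    exact hq.trans_le (Nat.le_self_pow he0.ne' q)
  simp only [Finset.sum_const, Finset.card_univ, nsmul_eq_mul, hD]
  rw [Zeta.nPts, ← Finset.sum_coe_sort n.divisors, Nat.cast_sum, Finset.sum_div, Finset.sum_mul]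
  exact Finset.sum_congr rfl fun e _ => by push_cast; ring

/-- The zeta function of a basic open of an affine variety over a finite field. -/
theorem exists_pieceP (k A : Type u) [Field k] [Finite k] [CommRing A] [IsDomain A] [Algebra k A]
    [Algebra.FiniteType k A] {r : ℕ} (hA : ringKrullDim A = r) (b : A) (hb : b ≠ 0) :
    ∃ m : ℕ, 0 < m ∧ ∃ H : ℂ → ℂ, AnalyticOnNhd ℂ H {s : ℂ | (r : ℝ) - 1 / 2 < s.re} ∧
      ∀ s : ℂ, (r : ℝ) < s.re → Complex.exp (Lz (Spec (CommRingCat.of (Localization.Away b))) s) =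
        (1 - ((Nat.card k ^ m : ℕ) : ℂ) ^ ((r : ℂ) - s))⁻¹ * Complex.exp (H s) := by
  classical
  let L := FractionRing A
  obtain ⟨hfd, c, hc, hcount⟩ := component_count k A L hA
  obtain ⟨D, hD⟩ := card_killing_le k A hA b hb
  set m := finrank k (algebraicClosure k L)
  have hm : 0 < m := finrank_pos
  set q := Nat.card k
  have hq : 1 < q := Finite.one_lt_card
  have hq' : (1 : ℝ) < q := by exact_mod_cast hq
  let B := Localization.Away b
  haveI : Algebra.FiniteType A B := IsLocalization.finiteType_of_monoid_fg (Submonoid.powers b) B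
  haveI : Algebra.FiniteType k B := Algebra.FiniteType.trans (R := k) (S := A) (A := B) inferInstance inferInstance
  let g : Spec (CommRingCat.of B) ⟶ Spec (CommRingCat.of k) := Spec.map (CommRingCat.ofHom (algebraMap k B))
  haveI : LocallyOfFiniteType g := (HasRingHomProperty.Spec_iff (P := @LocallyOfFiniteType)).mpr
    (RingHom.finiteType_algebraMap.2 inferInstance)
  have hdim : topologicalKrullDim ↥(Spec (CommRingCat.of B)) ≤ r := by
    have h1 : topologicalKrullDim (PrimeSpectrum A) = r := by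
      rw [PrimeSpectrum.topologicalKrullDim_eq_ringKrullDim, hA]
    exact ((PrimeSpectrum.localization_away_isOpenEmbedding B b).isInducing.topologicalKrullDim_le).trans h1.le
  -- the error in the point counts
  let d : ℕ → ℂ := fun e => (Zeta.nPts g e : ℂ) - if m ∣ e then (m : ℂ) * ((q : ℂ) ^ e) ^ r else 0
  have hd : ∀ e : ℕ, 0 < e → ‖d e‖ ≤ (c + D) * ((q : ℝ) ^ ((r : ℝ) - 1 / 2)) ^ e := by
    intro e he
    obtain ⟨K, _, _, _, hK⟩ := ZetaPtsLib.exists_ext k (m := e) he.ne'
    haveI : Module.Finite k K := Module.Finite.of_finite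
    obtain ⟨hfinA, h1, h2⟩ := hcount K
    obtain ⟨hfin0, h0⟩ := hD K
    have hQ : (Nat.card K : ℝ) = (q : ℝ) ^ e := by
      rw [Module.natCard_eq_pow_finrank (K := k) (V := K), hK, Nat.cast_pow]
    have hB : Nat.card (B →ₐ[k] K) = Nat.card {φ : A →ₐ[k] K // ¬ φ b = 0} := by
      refine Nat.card_congr
        { toFun := fun ψ => ⟨ψ.comp (IsScalarTower.toAlgHom k A B), fun h0 => ?_⟩
          invFun := fun φ => { IsLocalization.Away.lift (S := B) b (g := φ.1.toRingHom) (isUnit_iff_ne_zero.2 φ.2) with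
            commutes' := fun x => by
              show IsLocalization.Away.lift b _ (algebraMap k B x) = _
              rw [IsScalarTower.algebraMap_apply k A B, IsLocalization.Away.lift_eq]
              exact φ.1.commutes x }
          left_inv := fun ψ => AlgHom.coe_ringHom_injective (IsLocalization.ringHom_ext (Submonoid.powers b)
            (RingHom.ext fun x => IsLocalization.Away.lift_eq (S := B) (g := (ψ.comp (IsScalarTower.toAlgHom k A B)).toRingHom) b
              (((IsLocalization.Away.algebraMap_isUnit (S := B) b).map ψ)) x))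
          right_inv := fun φ => Subtype.ext (AlgHom.ext fun x =>
            IsLocalization.Away.lift_eq (S := B) (g := φ.1.toRingHom) b (isUnit_iff_ne_zero.2 φ.2) x) }
      have := ((IsLocalization.Away.algebraMap_isUnit (S := B) b).map ψ).ne_zero
      exact this h0
    have hn : Zeta.nPts g e = Nat.card {φ : A →ₐ[k] K // ¬ φ b = 0} := by
      rw [← hK, ← ZetaPtsLib.pointCount_eq g K, pointCount_spec K, hB]
    have hsplit : (Zeta.nPts g e : ℝ) = (Nat.card (A →ₐ[k] K) : ℝ) - Nat.card {φ : A →ₐ[k] K // φ b = 0} := by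
      rw [hn, eq_sub_iff_add_eq, ← Nat.cast_add, add_comm]
      congr 1
      rw [← Nat.card_sum]
      exact Nat.card_congr (Equiv.sumCompl fun φ : A →ₐ[k] K => φ b = 0)
    set Q : ℝ := (q : ℝ) ^ e
    set Z : ℝ := (Nat.card {φ : A →ₐ[k] K // φ b = 0} : ℝ)
    have hQ1 : 1 ≤ Q := one_le_pow₀ hq'.le
    have hsQ : Real.sqrt Q ≤ Q := by
      rw [Real.sqrt_le_iff]
      exact ⟨by linarith, by nlinarith⟩
    have hs0 : 0 < Real.sqrt Q := Real.sqrt_pos.2 (by linarith)
    have hZ : Z * Q ≤ (D : ℝ) * Q ^ r := by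
      simp only [Z]; rw [← hQ]; exact_mod_cast h0
    have hZ0 : 0 ≤ Z := Nat.cast_nonneg _
    rw [hK, hQ] at h1 h2
    have hrhs : ((q : ℝ) ^ ((r : ℝ) - 1 / 2)) ^ e = Q ^ r / Real.sqrt Q := by
      rw [← Real.rpow_natCast _ e, ← Real.rpow_mul (by linarith), mul_comm, Real.rpow_mul (by linarith),
        Real.rpow_natCast, Real.rpow_sub (by linarith), Real.rpow_natCast, ← Real.sqrt_eq_rpow]
    have hd' : d e = (((Zeta.nPts g e : ℝ) - if m ∣ e then (m : ℝ) * Q ^ r else 0 : ℝ) : ℂ) := by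
      simp only [d, Q]
      split_ifs <;> push_cast <;> ring
    rw [hrhs, ← mul_div_assoc, le_div_iff₀ hs0, hd', Complex.norm_real, Real.norm_eq_abs, hsplit]
    have hZs : Z * Real.sqrt Q ≤ D * Q ^ r := (mul_le_mul_of_nonneg_left hsQ hZ0).trans hZ
    split_ifs with hdvd
    · have := h1 hdvd
      rw [sub_right_comm]
      refine (mul_le_mul_of_nonneg_right (abs_sub _ _) hs0.le).trans ?_
      rw [add_mul, add_mul, abs_of_nonneg hZ0]
      linarith
    · have := h2 hdvd
      have hN0 : (0 : ℝ) ≤ Nat.card (A →ₐ[k] K) := Nat.cast_nonneg _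
      have h3 := mul_le_mul_of_nonneg_left hsQ hN0
      rw [sub_zero]
      refine (mul_le_mul_of_nonneg_right (abs_sub _ _) hs0.le).trans ?_
      rw [add_mul, add_mul, abs_of_nonneg hZ0, abs_of_nonneg hN0]
      linarith
  let H : ℂ → ℂ := fun s => ∑' e : ℕ, d e / e * ((q : ℂ) ^ (-s)) ^ e
  have hbound : ∀ (e : ℕ) (s : ℂ) (σ : ℝ), σ ≤ s.re →
      ‖d e / e * ((q : ℂ) ^ (-s)) ^ e‖ ≤ (c + D) * ((q : ℝ) ^ ((r : ℝ) - 1 / 2 - σ)) ^ e := by
    intro e s σ hσ
    rcases Nat.eq_zero_or_pos e with rfl | he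
    · simp only [Nat.cast_zero, div_zero, zero_mul, norm_zero, pow_zero, mul_one]
      positivity
    · rw [norm_mul, norm_div, norm_pow, Complex.norm_natCast, Complex.norm_natCast_cpow_of_pos (by omega), Complex.neg_re,
        sub_eq_add_neg ((r : ℝ) - 1 / 2) σ, Real.rpow_add (by linarith), mul_pow, ← mul_assoc]
      refine mul_le_mul ((div_le_self (norm_nonneg _) (by exact_mod_cast he)).trans (hd e he)) ?_ (by positivity) (by positivity)
      exact pow_le_pow_left₀ (by positivity) (Real.rpow_le_rpow_of_exponent_le hq'.le (by linarith)) _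
  have hgeo : ∀ σ : ℝ, (r : ℝ) - 1 / 2 < σ → Summable fun e : ℕ => (c + D) * ((q : ℝ) ^ ((r : ℝ) - 1 / 2 - σ)) ^ e :=
    fun σ hσ => (summable_geometric_of_lt_one (by positivity)
      (Real.rpow_lt_one_of_one_lt_of_neg hq' (by linarith))).mul_left _
  have hH : AnalyticOnNhd ℂ H {s : ℂ | (r : ℝ) - 1 / 2 < s.re} := by
    refine DifferentiableOn.analyticOnNhd (fun s₀ hs₀ => ?_) (isOpen_lt continuous_const Complex.continuous_re)
    simp only [Set.mem_ofPred_eq] at hs₀
    set σ₀ : ℝ := (s₀.re + ((r : ℝ) - 1 / 2)) / 2 with hσ₀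
    have hσ : (r : ℝ) - 1 / 2 < σ₀ ∧ σ₀ < s₀.re := by constructor <;> linarith
    have hV : IsOpen {s : ℂ | σ₀ < s.re} := isOpen_lt continuous_const Complex.continuous_re
    have hdiff : DifferentiableOn ℂ H {s : ℂ | σ₀ < s.re} :=
      Complex.differentiableOn_tsum_of_summable_norm (hgeo σ₀ hσ.1) (fun e => Differentiable.differentiableOn
        ((((differentiable_id.neg).const_cpow (Or.inl (Nat.cast_ne_zero.2 (by omega)))).pow e).const_mul _)) hV
        fun e s hs => hbound e s σ₀ (le_of_lt hs)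
    exact ((hdiff s₀ hσ.2).differentiableAt (hV.mem_nhds hσ.2)).differentiableWithinAt
  refine ⟨m, hm, H, hH, fun s hs => ?_⟩
  set z : ℂ := ((q ^ m : ℕ) : ℂ) ^ ((r : ℂ) - s) with hz
  have hz1 : ‖z‖ < 1 := by
    rw [hz, Complex.norm_natCast_cpow_of_pos (pow_pos (by omega) _), Complex.sub_re, Complex.natCast_re]
    exact Real.rpow_lt_one_of_one_lt_of_neg (by exact_mod_cast Nat.one_lt_pow hm.ne' hq) (by linarith)
  have hmain : HasSum (fun e : ℕ => (if m ∣ e then (m : ℂ) * ((q : ℂ) ^ e) ^ r else 0) / e * ((q : ℂ) ^ (-s)) ^ e)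
      (-Complex.log (1 - z)) := by
    have hinj : Function.Injective fun j : ℕ => m * j := fun a b h => Nat.eq_of_mul_eq_mul_left hm h
    refine (hinj.hasSum_iff fun e he => ?_).1 ?_
    · rw [if_neg fun ⟨j, hj⟩ => he ⟨j, hj.symm⟩, zero_div, zero_mul]
    refine (Complex.hasSum_taylorSeries_neg_log hz1).congr_fun fun j => ?_
    rw [Function.comp_apply, if_pos (dvd_mul_right m j)]
    rcases eq_or_ne j 0 with rfl | hj
    · simp
    have hqc : ((q ^ m : ℕ) : ℂ) ≠ 0 := Nat.cast_ne_zero.2 (pow_ne_zero _ (by omega))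
    have hz' : z = (((q : ℂ) ^ m) ^ r) * ((q : ℂ) ^ (-s)) ^ m := by
      rw [hz, sub_eq_add_neg, Complex.cpow_add _ _ hqc, Complex.cpow_natCast, natCast_pow_cpow, Nat.cast_pow]
    simp only [hz', mul_pow, ← pow_mul, Nat.cast_mul]
    have hm' : (m : ℂ) ≠ 0 := Nat.cast_ne_zero.2 hm.ne'
    have hj' : (j : ℂ) ≠ 0 := Nat.cast_ne_zero.2 hj
    rw [show m * r * j = m * j * r by ring]
    field_simp
  have herr : Summable fun e : ℕ => d e / e * ((q : ℂ) ^ (-s)) ^ e :=
    Summable.of_norm_bounded (hgeo s.re (by linarith)) fun e => hbound e s s.re le_rfl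
  have h := (herr.hasSum.add hmain).congr_fun (g := fun e : ℕ => (Zeta.nPts g e : ℂ) / e * ((q : ℂ) ^ (-s)) ^ e)
    fun e => by simp only [d]; ring
  rw [(hasSum_nPts g r hdim hs).unique h, Complex.exp_add, Complex.exp_neg, Complex.exp_log, mul_comm]
  exact sub_ne_zero.2 fun h1 => by rw [← h1, norm_one] at hz1; exact lt_irrefl _ hz1

end LWQual
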