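import Groth.Agent.LWQualLib.DegOne
import Groth.Agent.LWQualLib.LogZeta
import Mathlib

/-!
# Series over weights
-/

set_option autoImplicit false
set_option maxHeartbeats 1000000
set_option backward.isDefEq.respectTransparency false

noncomputable section

open Filter Topology NumberField IsDedekindDomain Module

namespace LWQual

variable {ι : Type*} (N : ι → ℕ) (hN : ∀ i, 2 ≤ N i)

theorem norm_nat_cpow_neg_le {n : ℕ} (hn : 1 ≤ n) {s : ℂ} {σ : ℝ} (hs : σ ≤ s.re) :
    ‖(n : ℂ) ^ (-s)‖ ≤ (n : ℝ) ^ (-σ) := by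
  rw [Complex.norm_natCast_cpow_of_pos (by omega), Complex.neg_re]
  exact Real.rpow_le_rpow_of_exponent_le (by exact_mod_cast hn) (by linarith)

include hN in
/-- A series of weights is analytic where it converges absolutely. -/
theorem analyticOn_sum (c : ι → ℂ) (σ₀ : ℝ)
    (h : ∀ σ : ℝ, σ₀ < σ → Summable fun i => ‖c i‖ * (N i : ℝ) ^ (-σ)) :
    AnalyticOnNhd ℂ (fun s : ℂ => ∑' i, c i * (N i : ℂ) ^ (-s)) {s | σ₀ < s.re} := by
  refine DifferentiableOn.analyticOnNhd (fun s₀ hs₀ => ?_) (isOpen_lt continuous_const Complex.continuous_re)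
  simp only [Set.mem_ofPred_eq] at hs₀
  set σ : ℝ := (s₀.re + σ₀) / 2 with hσ'
  have hσ : σ₀ < σ ∧ σ < s₀.re := by constructor <;> linarith
  have hV : IsOpen {s : ℂ | σ < s.re} := isOpen_lt continuous_const Complex.continuous_re
  have hd : DifferentiableOn ℂ (fun s : ℂ => ∑' i, c i * (N i : ℂ) ^ (-s)) {s : ℂ | σ < s.re} := by
    refine Complex.differentiableOn_tsum_of_summable_norm (h σ hσ.1) (fun i => Differentiable.differentiableOn
      ((differentiable_id.neg.const_cpow (Or.inl (Nat.cast_ne_zero.2 (by have := hN i; omega)))).const_mul _)) hV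
      fun i s hs => ?_
    rw [norm_mul]
    exact mul_le_mul_of_nonneg_left (norm_nat_cpow_neg_le ((hN i).trans' one_le_two) (le_of_lt hs)) (norm_nonneg _)
  exact ((hd s₀ hσ.2).differentiableAt (hV.mem_nhds hσ.2)).differentiableWithinAt

theorem norm_neg_log_sub_le {z : ℂ} {q : ℝ} (hq : q < 1) (hz : ‖z‖ ≤ q) :
    ‖-Complex.log (1 - z) - z‖ ≤ (1 - q)⁻¹ * ‖z‖ ^ 2 := by
  rw [show -Complex.log (1 - z) - z = -(Complex.log (1 + -z) - -z) by rw [sub_eq_add_neg 1 z]; ring, norm_neg]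
  refine (Complex.norm_log_one_add_sub_self_le (by rw [norm_neg]; linarith)).trans ?_
  rw [norm_neg]
  have h1 : (1 - ‖z‖)⁻¹ ≤ (1 - q)⁻¹ := inv_anti₀ (by linarith) (by linarith)
  have h2 : 0 ≤ (1 - ‖z‖)⁻¹ := inv_nonneg.2 (by linarith)
  have h3 : 0 ≤ ‖z‖ ^ 2 * (1 - ‖z‖)⁻¹ := by positivity
  nlinarith [mul_le_mul_of_nonneg_left h1 (sq_nonneg ‖z‖)]

include hN in
/-- The second order part of the Euler product is analytic twice as far. -/
theorem analyticOn_corr (σ₀ : ℝ) (hσ₀ : 0 ≤ σ₀) (h : ∀ σ : ℝ, σ₀ < σ → Summable fun i => (N i : ℝ) ^ (-σ)) :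
    AnalyticOnNhd ℂ (fun s : ℂ => ∑' i, (-Complex.log (1 - (N i : ℂ) ^ (-s)) - (N i : ℂ) ^ (-s))) {s | σ₀ / 2 < s.re} := by
  refine DifferentiableOn.analyticOnNhd (fun s₀ hs₀ => ?_) (isOpen_lt continuous_const Complex.continuous_re)
  simp only [Set.mem_ofPred_eq] at hs₀
  set σ : ℝ := (s₀.re + σ₀ / 2) / 2 with hσ'
  have hσ : σ₀ / 2 < σ ∧ σ < s₀.re := by constructor <;> linarith
  have hσ0 : 0 < σ := by linarith
  have hV : IsOpen {s : ℂ | σ < s.re} := isOpen_lt continuous_const Complex.continuous_re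
  have hq : (2 : ℝ) ^ (-σ) < 1 := Real.rpow_lt_one_of_one_lt_of_neg one_lt_two (by linarith)
  have hw : ∀ i (s : ℂ), σ ≤ s.re → ‖(N i : ℂ) ^ (-s)‖ ≤ (2 : ℝ) ^ (-σ) := fun i s hs =>
    (norm_nat_cpow_neg_le ((hN i).trans' one_le_two) hs).trans
      (Real.rpow_le_rpow_of_nonpos two_pos (by exact_mod_cast hN i) (by linarith))
  have hd : DifferentiableOn ℂ (fun s : ℂ => ∑' i, (-Complex.log (1 - (N i : ℂ) ^ (-s)) - (N i : ℂ) ^ (-s)))
      {s : ℂ | σ < s.re} := by
    refine Complex.differentiableOn_tsum_of_summable_norm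
      (u := fun i => (1 - (2 : ℝ) ^ (-σ))⁻¹ * (N i : ℝ) ^ (-(2 * σ))) ((h (2 * σ) (by linarith [hσ.1])).mul_left _)
      (fun i => ?_) hV fun i s hs => ?_
    · intro s hs
      have hp : DifferentiableAt ℂ (fun s : ℂ => (N i : ℂ) ^ (-s)) s :=
        differentiableAt_id.neg.const_cpow (Or.inl (Nat.cast_ne_zero.2 (by have := hN i; omega)))
      refine (((DifferentiableAt.clog ((differentiableAt_const _).sub hp) ?_).neg).sub hp).differentiableWithinAt
      refine Or.inl ?_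
      simp only [Pi.sub_apply, Complex.sub_re, Complex.one_re, sub_pos]
      exact lt_of_le_of_lt ((le_abs_self _).trans (Complex.abs_re_le_norm _)) ((hw i s (le_of_lt hs)).trans_lt hq)
    · refine (norm_neg_log_sub_le hq (hw i s (le_of_lt hs))).trans (mul_le_mul_of_nonneg_left ?_ (inv_nonneg.2 (by linarith)))
      refine (pow_le_pow_left₀ (norm_nonneg _) (norm_nat_cpow_neg_le ((hN i).trans' one_le_two) (le_of_lt hs)) 2).trans_eq ?_
      rw [← Real.rpow_natCast, ← Real.rpow_mul (Nat.cast_nonneg _)]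
      congr 1
      push_cast
      ring
  exact ((hd s₀ hσ.2).differentiableAt (hV.mem_nhds hσ.2)).differentiableWithinAt

/-- Prime powers that are not primes are sparse. -/
theorem summable_primePow_not_prime {t : ℝ} (ht : 1 < 2 * t) :
    Summable fun q : {q : ℕ | IsPrimePow q ∧ ¬ q.Prime} => (q.1 : ℝ) ^ (-t) := by
  have hdec : ∀ q : {q : ℕ | IsPrimePow q ∧ ¬ q.Prime}, ∃ p k : ℕ, p.Prime ∧ 2 ≤ k ∧ q.1 = p ^ k := fun q => by
    obtain ⟨p, k, hp, hk, he⟩ := (isPrimePow_nat_iff _).1 q.2.1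
    refine ⟨p, k, hp, ?_, he.symm⟩
    by_contra h
    exact q.2.2 (by rw [← he, show k = 1 by omega, pow_one]; exact hp)
  choose p k hp hk he using hdec
  have hinj : Function.Injective fun q => (p q ^ (k q / 2), decide (k q % 2 = 1)) := fun q q' h => by
    simp only [Prod.mk.injEq, decide_eq_decide] at h
    obtain ⟨h1, h2⟩ := Nat.Prime.pow_inj' (hp q) (hp q') (by have := hk q; omega) (by have := hk q'; omega) h.1
    refine Subtype.ext ?_
    rw [he q, he q', h1, show k q = k q' by have := h.2; omega]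
  have hsum : Summable fun z : ℕ × Bool => (z.1 : ℝ) ^ (-(2 * t)) :=
    (summable_prod_of_nonneg (fun z => by positivity)).2
      ⟨fun _ => Summable.of_finite, by
        simp only [tsum_fintype, Fintype.sum_bool, ← two_mul]
        exact (Real.summable_nat_rpow.2 (by linarith)).mul_left 2⟩
  refine Summable.of_nonneg_of_le (fun q => by positivity) (fun q => ?_) (hsum.comp_injective hinj)
  simp only [Function.comp_apply]
  rw [he q, Nat.cast_pow, Nat.cast_pow, ← Real.rpow_natCast, ← Real.rpow_natCast, ← Real.rpow_mul (by positivity),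
    ← Real.rpow_mul (by positivity)]
  refine Real.rpow_le_rpow_of_exponent_le (by exact_mod_cast (hp q).one_le) ?_
  have : 2 * ((k q / 2 : ℕ) : ℝ) ≤ (k q : ℝ) := by exact_mod_cast Nat.mul_div_le (k q) 2
  nlinarith

/-- Sums over a type fibred over the non-prime prime powers. -/
theorem summable_of_card_fibre_le {S : Type*} (M : S → ℕ) (hM : ∀ x, IsPrimePow (M x) ∧ ¬ (M x).Prime) (C e σ : ℝ)
    (hC : ∀ (q : ℕ) (T : Finset S), (∀ x ∈ T, M x = q) → (T.card : ℝ) ≤ C * (q : ℝ) ^ e)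
    (hC0 : 0 ≤ C) (hσ : 1 < 2 * (σ - e)) : Summable fun x => (M x : ℝ) ^ (-σ) := by
  classical
  have hs := (summable_primePow_not_prime (t := σ - e) hσ).mul_left C
  refine summable_of_sum_le (c := ∑' q : {q : ℕ | IsPrimePow q ∧ ¬ q.Prime}, C * (q.1 : ℝ) ^ (-(σ - e)))
    (fun x => by positivity) fun T => ?_
  let f : S → {q : ℕ | IsPrimePow q ∧ ¬ q.Prime} := fun x => ⟨M x, hM x⟩
  rw [← Finset.sum_fiberwise_of_maps_to (t := T.image f) (g := f) (fun x hx => Finset.mem_image_of_mem _ hx)]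
  refine le_trans (Finset.sum_le_sum fun q hq => ?_) (hs.sum_le_tsum _ fun _ _ => by positivity)
  rw [Finset.sum_congr rfl fun x hx => by rw [show M x = q.1 from congrArg Subtype.val (Finset.mem_filter.1 hx).2],
    Finset.sum_const, nsmul_eq_mul]
  have hq0 : (0 : ℝ) < (q.1 : ℝ) := by exact_mod_cast q.2.1.pos
  refine (mul_le_mul_of_nonneg_right (hC q.1 _ fun x hx => congrArg Subtype.val (Finset.mem_filter.1 hx).2)
    (by positivity)).trans_eq ?_
  rw [neg_sub, sub_eq_add_neg e σ, Real.rpow_add hq0]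
  ring

variable (K : Type*) [Field K] [NumberField K]

theorem isPrimePow_absNorm (P : HeightOneSpectrum (𝓞 K)) : IsPrimePow (Ideal.absNorm P.asIdeal) := by
  haveI := P.isMaximal
  letI : Field (𝓞 K ⧸ P.asIdeal) := Ideal.Quotient.field P.asIdeal
  haveI : Finite (𝓞 K ⧸ P.asIdeal) := Ideal.finiteQuotientOfFreeOfNeBot P.asIdeal P.ne_bot
  letI := Fintype.ofFinite (𝓞 K ⧸ P.asIdeal)
  rw [Ideal.absNorm_apply, Submodule.cardQuot_apply, Nat.card_eq_fintype_card]
  exact FiniteField.isPrimePow_card _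

theorem card_norm_eq_le (q : ℕ) (T : Finset (HeightOneSpectrum (𝓞 K))) (hT : ∀ P ∈ T, Ideal.absNorm P.asIdeal = q) :
    T.card ≤ finrank ℚ K := by
  rcases T.eq_empty_or_nonempty with rfl | ⟨P₀, hP₀⟩
  · simp
  obtain ⟨p, k, hp, hk, he⟩ := (isPrimePow_nat_iff _).1 (hT P₀ hP₀ ▸ isPrimePow_absNorm K P₀)
  have hdvd : (∏ P ∈ T, P.asIdeal) ∣ Ideal.span {(p : 𝓞 K)} := by
    refine Finset.prod_dvd_of_coprime (fun P _ Q _ hPQ => ?_) fun P hP => ?_
    · haveI := P.isMaximal
      haveI := Q.isMaximal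
      exact Ideal.isCoprime_of_isMaximal fun h => hPQ (HeightOneSpectrum.ext h)
    · rw [Ideal.dvd_span_singleton]
      have h1 : ((p : 𝓞 K)) ^ k ∈ P.asIdeal := by
        have := Ideal.absNorm_mem P.asIdeal
        rw [hT P hP, ← he] at this
        exact_mod_cast this
      exact P.isPrime.mem_of_pow_mem k h1
  have h1 := map_dvd Ideal.absNorm hdvd
  rw [map_prod, Ideal.absNorm_span_singleton] at h1
  have hnq : (Algebra.norm ℤ (p : 𝓞 K)).natAbs = p ^ finrank ℚ K := by
    have : (p : 𝓞 K) = algebraMap ℤ (𝓞 K) p := by simp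
    rw [this, Algebra.norm_algebraMap, NumberField.RingOfIntegers.rank, Int.natAbs_pow, Int.natAbs_natCast]
  rw [hnq] at h1
  have h2 : p ^ T.card ∣ p ^ finrank ℚ K := by
    refine dvd_trans ?_ h1
    rw [← Finset.prod_const]
    refine Finset.prod_dvd_prod_of_dvd _ _ fun P hP => ?_
    rw [hT P hP, ← he]
    exact dvd_pow_self p hk.ne'
  exact (Nat.pow_dvd_pow_iff_le_right hp.one_lt).1 h2

theorem summable_primes {σ : ℝ} (hσ : 1 < σ) :
    Summable fun P : HeightOneSpectrum (𝓞 K) => (Ideal.absNorm P.asIdeal : ℝ) ^ (-σ) := by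
  classical
  refine summable_of_sum_le (c := ∑' q : ℕ, (finrank ℚ K : ℝ) * (q : ℝ) ^ (-σ)) (fun P => by positivity) fun T => ?_
  have hmaps : ∀ P ∈ T, Ideal.absNorm P.asIdeal ∈ T.image fun P => Ideal.absNorm P.asIdeal :=
    fun P hP => Finset.mem_image_of_mem (fun P : HeightOneSpectrum (𝓞 K) => Ideal.absNorm P.asIdeal) hP
  refine (Finset.sum_fiberwise_of_maps_to hmaps
    (fun P : HeightOneSpectrum (𝓞 K) => (Ideal.absNorm P.asIdeal : ℝ) ^ (-σ))).symm.le.trans ?_
  refine le_trans (Finset.sum_le_sum (g := fun q : ℕ => (finrank ℚ K : ℝ) * (q : ℝ) ^ (-σ)) fun q _ => ?_)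
    (((Real.summable_nat_rpow.2 (by linarith : -σ < -1)).mul_left (finrank ℚ K : ℝ)).sum_le_tsum _ fun q _ =>
      mul_nonneg (Nat.cast_nonneg _) (Real.rpow_nonneg (Nat.cast_nonneg q) _))
  rw [Finset.sum_congr rfl fun P hP => by rw [(Finset.mem_filter.1 hP).2], Finset.sum_const, nsmul_eq_mul]
  exact mul_le_mul_of_nonneg_right (by exact_mod_cast card_norm_eq_le K q _ fun P hP => (Finset.mem_filter.1 hP).2)
    (by positivity)

theorem summable_not_degOne_rpow {σ : ℝ} (hσ : 1 < 2 * σ) :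
    Summable fun P : ((DegOne K)ᶜ : Set (HeightOneSpectrum (𝓞 K))) => (Ideal.absNorm P.1.asIdeal : ℝ) ^ (-σ) := by
  refine summable_of_card_fibre_le (fun P : ((DegOne K)ᶜ : Set (HeightOneSpectrum (𝓞 K))) => Ideal.absNorm P.1.asIdeal)
    (fun P => ⟨isPrimePow_absNorm K P.1, P.2⟩) (finrank ℚ K) 0 σ (fun q T hT => ?_) (Nat.cast_nonneg _) (by linarith)
  rw [Real.rpow_zero, mul_one, ← Finset.card_map (Function.Embedding.subtype _)]
  exact_mod_cast card_norm_eq_le K q _ fun P hP => by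
    obtain ⟨Q, hQ, rfl⟩ := Finset.mem_map.1 hP
    exact hT Q hQ

/-- The Euler product of the Dedekind zeta function. -/
theorem dedekindZeta_eq_exp {s : ℂ} (hs : 1 < s.re) :
    dedekindZeta K s = Complex.exp (∑' P : HeightOneSpectrum (𝓞 K),
      -Complex.log (1 - (Ideal.absNorm P.asIdeal : ℂ) ^ (-s))) := by
  classical
  let w : HeightOneSpectrum (𝓞 K) → ℂ := fun P => (Ideal.absNorm P.asIdeal : ℂ) ^ (-s)
  have hw2 : ∀ P, ‖w P‖ ≤ (2 : ℝ) ^ (-s.re) := fun P =>
    (norm_nat_cpow_neg_le ((absNorm_ge_two K P).trans' one_le_two) le_rfl).trans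
      (Real.rpow_le_rpow_of_nonpos two_pos (by exact_mod_cast absNorm_ge_two K P) (by linarith))
  have hsum : Summable fun P => ‖w P‖ :=
    Summable.of_nonneg_of_le (fun _ => norm_nonneg _)
      (fun P => norm_nat_cpow_neg_le ((absNorm_ge_two K P).trans' one_le_two) le_rfl) (summable_primes K hs)
  have hq : (2 : ℝ) ^ (-s.re) < 1 := Real.rpow_lt_one_of_one_lt_of_neg one_lt_two (by linarith)
  rw [← tsum_mon_eq_exp hq hw2 hsum]
  have hmon := ZetaAbs.summable_norm_mon hq hw2 hsum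
  let φ : ℕ →* ℂ :=
    { toFun := fun n => (n : ℂ) ^ (-s)
      map_one' := by simp
      map_mul' := fun a b => by rw [Nat.cast_mul]; exact Complex.natCast_mul_natCast_cpow a b (-s) }
  let Nm : (HeightOneSpectrum (𝓞 K) →₀ ℕ) → ℕ := fun α => α.prod fun P m => Ideal.absNorm P.asIdeal ^ m
  have hNw : ∀ α, ZetaAbs.mon w α = (Nm α : ℂ) ^ (-s) := fun α => by
    have h := map_finsuppProd φ α fun P m => Ideal.absNorm P.asIdeal ^ m
    simp only [map_pow] at h
    exact h.symm
  have hNm0 : ∀ α, Nm α ≠ 0 := fun α => Finset.prod_ne_zero_iff.mpr fun P _ =>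
    pow_ne_zero _ (by have := absNorm_ge_two K P; omega)
  refine LSeriesHasSum.LSeries_eq ((hmon.of_norm.hasSum.tsum_fiberwise Nm).congr_fun fun n => ?_)
  rcases eq_or_ne n 0 with rfl | hn
  · haveI : IsEmpty (Nm ⁻¹' {0}) := ⟨fun α => hNm0 α.1 α.2⟩
    simp [LSeries.term]
  have hfib : ∀ α : (Nm ⁻¹' {n}), ZetaAbs.mon w α.1 = (n : ℂ) ^ (-s) := fun α => by
    rw [hNw, show Nm α.1 = n from α.2]
  rw [tsum_congr hfib, tsum_const, LSeries.term_of_ne_zero hn, nsmul_eq_mul, Complex.cpow_neg, ← div_eq_mul_inv]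
  congr 1
  norm_cast
  let G : (HeightOneSpectrum (𝓞 K) →₀ ℕ) → Ideal (𝓞 K) := fun α => α.prod fun P m => P.asIdeal ^ m
  have hGN : ∀ α, Ideal.absNorm (G α) = Nm α := fun α => by simp only [G, Nm, Finsupp.prod, map_prod, map_pow]
  have hGm : ∀ α, G α = ((Finsupp.toMultiset α).map fun P => P.asIdeal).prod := fun α => by
    rw [Finsupp.toMultiset_map, Finsupp.prod_toMultiset, Finsupp.prod_mapDomain_index (fun _ => pow_zero _) fun _ _ _ => pow_add _ _ _]
  have hfac : ∀ α, UniqueFactorizationMonoid.normalizedFactors (G α) = (Finsupp.toMultiset α).map fun P => P.asIdeal :=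
    fun α => by
      rw [hGm, UniqueFactorizationMonoid.normalizedFactors_prod_of_prime fun I hI => ?_]
      obtain ⟨P, -, rfl⟩ := Multiset.mem_map.1 hI
      exact P.prime
  refine (Nat.card_congr (Equiv.ofBijective (fun α : (Nm ⁻¹' {n}) => (⟨G α.1, (hGN _).trans α.2⟩ :
    {I : Ideal (𝓞 K) // Ideal.absNorm I = n})) ⟨?_, ?_⟩)).symm
  · intro α β h
    have h' := hfac α.1
    rw [show G α.1 = G β.1 from congrArg Subtype.val h, hfac β.1] at h'
    have h2 := Multiset.map_injective (fun P Q h => HeightOneSpectrum.ext h) h'.symm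
    exact Subtype.ext (by simpa using congrArg Multiset.toFinsupp h2)
  · rintro ⟨I, hI⟩
    have hI0 : I ≠ 0 := fun h => hn (by rw [← hI, h, Ideal.zero_eq_bot, Ideal.absNorm_bot])
    let mset := (UniqueFactorizationMonoid.normalizedFactors I).pmap
      (fun P (hP : Prime P) => (⟨P, Ideal.isPrime_of_prime hP, hP.ne_zero⟩ : HeightOneSpectrum (𝓞 K)))
      fun P hP => UniqueFactorizationMonoid.prime_of_normalized_factor P hP
    have hG : G (Multiset.toFinsupp mset) = I := by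
      rw [hGm, Multiset.toFinsupp_toMultiset, Multiset.map_pmap, Multiset.pmap_eq_map, Multiset.map_id']
      exact associated_iff_eq.1 (UniqueFactorizationMonoid.prod_normalizedFactors hI0)
    refine ⟨⟨Multiset.toFinsupp mset, ?_⟩, Subtype.ext hG⟩
    show Nm _ = n
    rw [← hGN, hG, hI]

end LWQual
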