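import Groth.Agent.LWQualLib.Arith
import Groth.Agent.LWQualLib.Series
import Groth.Agent.LWQualLib.DedekindCont

/-!
# The zeta function of an affine piece in characteristic zero
-/

set_option autoImplicit false
set_option maxHeartbeats 2000000
set_option synthInstance.maxHeartbeats 100000
set_option backward.isDefEq.respectTransparency false

noncomputable section

universe u

open CategoryTheory AlgebraicGeometry NumberField IsDedekindDomain Module

namespace LWQual

/-- Points of an arithmetic domain over the points of its ring of constants. -/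
theorem exists_degOne_data (A L : Type u) [CommRing A] [IsDomain A] [CharZero A] [Algebra.FiniteType ℤ A]
    [Field L] [Algebra A L] [IsFractionRing A L] (a₀ : A) (ha₀ : a₀ ≠ 0) :
    ∃ (K : Type u) (_ : Field K) (_ : NumberField K) (d : ℕ) (α b₀ : A) (av : 𝓞 K → A) (r₀ : 𝓞 K) (B : ℝ),
      α ≠ 0 ∧ a₀ ∣ α ∧ r₀ ≠ 0 ∧ ringKrullDim A ≤ ((d + 1 : ℕ) : WithBot ℕ∞) ∧
      (∀ (F : Type u) [Field F] (φ : A →+* F), φ α ≠ 0 →
        φ b₀ ≠ 0 ∧ ∃ ψ : 𝓞 K →+* F, ∀ w, ψ w * φ b₀ = φ (av w)) ∧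
      ∀ (F : Type u) [Field F] [Finite F] (ψ : 𝓞 K →+* F), ψ r₀ ≠ 0 →
        |(Nat.card {φ : A →+* F // φ α ≠ 0 ∧ ∀ w, ψ w * φ b₀ = φ (av w)} : ℝ) - (Nat.card F : ℝ) ^ d| *
          Real.sqrt (Nat.card F) ≤ B * (Nat.card F : ℝ) ^ d := by
  classical
  haveI : CharZero L := charZero_of_injective_algebraMap (IsFractionRing.injective A L)
  haveI : Algebra.EssFiniteType A L := Algebra.EssFiniteType.of_isLocalization L (nonZeroDivisors A)
  haveI : Algebra.EssFiniteType ℤ L := Algebra.EssFiniteType.comp ℤ A L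
  haveI : Algebra.EssFiniteType ℚ L := Algebra.EssFiniteType.of_comp ℤ ℚ L
  haveI hKfin : FiniteDimensional ℚ (algebraicClosure ℚ L) := algebraicClosure_finite
  haveI halg : Algebra.IsAlgebraic ℚ (algebraicClosure ℚ L) := algebraicClosure.isAlgebraic ℚ L
  let K := algebraicClosure ℚ L
  haveI : CharZero K := charZero_of_injective_algebraMap (algebraMap ℚ K).injective
  haveI : NumberField K :=
    { to_charZero := inferInstance
      to_finiteDimensional := by convert hKfin }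
  obtain ⟨s, hs, hsep⟩ := exists_isTranscendenceBasis_and_isSeparable_of_perfectField ℚ L
  set d := s.card with hd
  let t : Fin d → L := fun i => (s.equivFin.symm i : L)
  have hrange : Set.range t = (s : Set L) := by
    ext z
    constructor
    · rintro ⟨i, rfl⟩; exact (s.equivFin.symm i).2
    · intro hz; exact ⟨s.equivFin ⟨z, hz⟩, by simp [t]⟩
  have ht : AlgebraicIndependent K t :=
    (hs.1.comp _ s.equivFin.symm.injective).extendScalars _
  haveI : Algebra.IsSeparable (IntermediateField.adjoin K (Set.range t)) L := by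
    have hle : IntermediateField.adjoin ℚ (s : Set L) ≤
        (IntermediateField.adjoin K (Set.range t)).restrictScalars ℚ := by
      rw [IntermediateField.adjoin_le_iff, ← hrange]
      exact IntermediateField.subset_adjoin _ _
    letI := (IntermediateField.inclusion hle).toRingHom.toAlgebra
    haveI : IsScalarTower (IntermediateField.adjoin ℚ (s : Set L))
        ((IntermediateField.adjoin K (Set.range t)).restrictScalars ℚ) L :=
      IsScalarTower.of_algebraMap_eq fun _ => rfl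
    exact ⟨fun z => IsSeparable.tower_top ((IntermediateField.adjoin K (Set.range t)).restrictScalars ℚ)
      (Algebra.IsSeparable.isSeparable (IntermediateField.adjoin ℚ (s : Set L)) z)⟩
  have hc : ∀ y : L, IsAlgebraic K y → y ∈ Set.range (algebraMap K L) := fun y hy =>
    ⟨⟨y, mem_algebraicClosure_iff.2 (IsAlgebraic.restrictScalars ℚ hy)⟩, rfl⟩
  obtain ⟨XA, hXA⟩ := (inferInstance : Algebra.FiniteType ℤ A).out
  let j : A →+* L := algebraMap A L
  let A' : Subalgebra (𝓞 K) L := Algebra.adjoin (𝓞 K) ((XA.image j : Finset L) : Set L)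
  have hjA : ∀ x : A, j x ∈ A' := fun x => by
    have hx : x ∈ Algebra.adjoin ℤ (XA : Set A) := hXA ▸ Algebra.mem_top
    induction hx using Algebra.adjoin_induction with
    | mem v hv => exact Algebra.subset_adjoin (Finset.mem_coe.2 (Finset.mem_image_of_mem _ hv))
    | algebraMap n => simp only [j, eq_intCast, map_intCast]; exact intCast_mem A' n
    | add p q _ _ hp hq => rw [map_add]; exact add_mem hp hq
    | mul p q _ _ hp hq => rw [map_mul]; exact mul_mem hp hq
  let i : A →+* A' := j.codRestrict A' hjA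
  -- a common denominator for the constants
  obtain ⟨T, hT⟩ := (Module.Finite.fg_top : (⊤ : Submodule ℤ (𝓞 K)).FG)
  obtain ⟨⟨b₀, hb₀⟩, hden⟩ := IsLocalization.exist_integer_multiples_of_finset (nonZeroDivisors A)
    (T.image (algebraMap (𝓞 K) L))
  have hω : ∀ w : 𝓞 K, ∃ x : A, j x = algebraMap (𝓞 K) L w * j b₀ := fun w => by
    have hw : w ∈ Submodule.span ℤ (T : Set (𝓞 K)) := hT ▸ Submodule.mem_top
    induction hw using Submodule.span_induction with
    | mem v hv =>
      obtain ⟨x, hx⟩ := hden _ (Finset.mem_image_of_mem _ hv)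
      refine ⟨x, hx.trans ?_⟩
      show b₀ • algebraMap (𝓞 K) L v = _
      rw [Algebra.smul_def, mul_comm]
    | zero => exact ⟨0, by simp⟩
    | add p q _ _ hp hq =>
      obtain ⟨x, hx⟩ := hp
      obtain ⟨y, hy⟩ := hq
      exact ⟨x + y, by rw [map_add, map_add, hx, hy, add_mul]⟩
    | smul n p _ hp =>
      obtain ⟨x, hx⟩ := hp
      exact ⟨n • x, by rw [map_zsmul, map_zsmul, hx, smul_mul_assoc]⟩
  obtain ⟨hω', hb0'⟩ : (∀ w : 𝓞 K, ∃ x : A, j x = algebraMap (𝓞 K) L w * j (b₀ * a₀)) ∧ b₀ * a₀ ∈ nonZeroDivisors A :=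
    ⟨fun w => by obtain ⟨x, hx⟩ := hω w; exact ⟨x * a₀, by rw [map_mul, map_mul, hx, mul_assoc]⟩,
      mul_mem hb₀ (mem_nonZeroDivisors_of_ne_zero ha₀)⟩
  clear hω hden hb₀
  obtain ⟨b₀, hb₀, hω, hdvd⟩ : ∃ b : A, b ∈ nonZeroDivisors A ∧ (∀ w : 𝓞 K, ∃ x : A, j x = algebraMap (𝓞 K) L w * j b) ∧ a₀ ∣ b :=
    ⟨b₀ * a₀, hb0', hω', dvd_mul_left _ _⟩
  choose av hav using hω
  have hb0 : j b₀ ≠ 0 := IsFractionRing.to_map_ne_zero_of_mem_nonZeroDivisors hb₀
  obtain ⟨a, r₀, B, ⟨c, hac⟩, ha, hr, hB, hcount⟩ := generic_count d (R := 𝓞 K) (K := K) (L := L)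
    (IntermediateField.fg_top_iff.2 (Algebra.EssFiniteType.of_comp ℚ K L)) hc t ht A' ⟨_, rfl⟩
    (fun l => by
      obtain ⟨p, q, hq, rfl⟩ := IsFractionRing.div_surjective A l
      exact ⟨_, hjA p, _, hjA q, IsFractionRing.to_map_ne_zero_of_mem_nonZeroDivisors hq, rfl⟩) (i b₀) hb0
  -- every element of `A'` is a ratio with denominator `b₀`
  have hclear' : ∀ z ∈ A', ∀ w : 𝓞 K, ∃ x : A, j x = algebraMap (𝓞 K) L w * z * j b₀ := fun z hz => by
    rw [← Subalgebra.mem_toSubmodule, Algebra.adjoin_eq_span] at hz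
    induction hz using Submodule.span_induction with
    | mem v hv =>
      intro w
      obtain ⟨y, rfl⟩ : ∃ y : A, j y = v := by
        have hle : Submonoid.closure ((XA.image j : Finset L) : Set L) ≤ MonoidHom.mrange (j : A →* L) :=
          Submonoid.closure_le.2 fun z hz => by
            obtain ⟨a, -, rfl⟩ := Finset.mem_image.1 hz
            exact ⟨a, rfl⟩
        exact hle hv
      exact ⟨av w * y, by rw [map_mul, hav]; ring⟩
    | zero => intro w; exact ⟨0, by simp⟩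
    | add p q _ _ hp hq =>
      intro w
      obtain ⟨x, hx⟩ := hp w
      obtain ⟨y, hy⟩ := hq w
      exact ⟨x + y, by rw [map_add, hx, hy]; ring⟩
    | smul w' p _ hp =>
      intro w
      obtain ⟨x, hx⟩ := hp (w * w')
      exact ⟨x, by rw [hx, map_mul, Algebra.smul_def]; ring⟩
  choose xz hxz using fun z : A' => hclear' z.1 z.2 1
  have hjinj : Function.Injective j := IsFractionRing.injective A L
  have hxz' : ∀ z : A', j (xz z) = (z : L) * j b₀ := fun z => by rw [hxz, map_one, one_mul]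
  obtain ⟨α, hα⟩ : ∃ α : A, j α = (a : L) * j b₀ := ⟨xz a, hxz' a⟩
  have hiα : i α = a * i b₀ := Subtype.ext hα
  have hα0 : α ≠ 0 := fun h => mul_ne_zero ha hb0 (by rw [← hα, h, map_zero])
  have e : α = b₀ * xz c := hjinj (by
    rw [map_mul, hxz', hα, show (a : L) = j b₀ * (c : L) from congrArg Subtype.val hac]
    ring)
  have hb₀α : ∀ {F : Type u} [Field F] (φ : A →+* F), φ α ≠ 0 → φ b₀ ≠ 0 := by
    intro F _ φ hφ h0
    exact hφ (by rw [e, map_mul, h0, zero_mul])
  -- extension of a point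
  have hext : ∀ {F : Type u} [Field F] (φ : A →+* F), φ α ≠ 0 → ∃ φ' : A' →+* F, φ'.comp i = φ := by
    intro F _ φ hφ
    have hb := hb₀α φ hφ
    refine ⟨{ toFun := fun z => φ (xz z) / φ b₀, map_one' := ?_, map_mul' := fun z z' => ?_,
              map_zero' := ?_, map_add' := fun z z' => ?_ }, RingHom.ext fun x => ?_⟩
    · show φ (xz 1) / φ b₀ = 1
      rw [show xz 1 = b₀ from hjinj (by rw [hxz', OneMemClass.coe_one, one_mul]), div_self hb]
    · show φ (xz (z * z')) / φ b₀ = φ (xz z) / φ b₀ * (φ (xz z') / φ b₀)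
      have e : xz (z * z') * b₀ = xz z * xz z' := hjinj (by
        rw [map_mul, map_mul, hxz', hxz', hxz', MulMemClass.coe_mul]; ring)
      rw [div_mul_div_comm, ← map_mul φ (xz z), ← e, map_mul, mul_div_mul_right _ _ hb]
    · show φ (xz 0) / φ b₀ = 0
      rw [show xz 0 = 0 from hjinj (by rw [hxz', map_zero, ZeroMemClass.coe_zero, zero_mul]), map_zero, zero_div]
    · show φ (xz (z + z')) / φ b₀ = φ (xz z) / φ b₀ + φ (xz z') / φ b₀
      rw [show xz (z + z') = xz z + xz z' from hjinj (by rw [map_add, hxz', hxz', hxz', AddMemClass.coe_add]; ring),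
        map_add, add_div]
    · show φ (xz (i x)) / φ b₀ = φ x
      rw [show xz (i x) = x * b₀ from hjinj (by rw [hxz', map_mul]; rfl), map_mul, mul_div_assoc, div_self hb, mul_one]
  have hval : ∀ {F : Type u} [Field F] (φ' : A' →+* F) (w : 𝓞 K),
      φ' (algebraMap (𝓞 K) A' w) * φ' (i b₀) = φ' (i (av w)) := by
    intro F _ φ' w
    rw [← map_mul]
    exact congrArg φ' (Subtype.ext (hav w).symm)
  refine ⟨K, inferInstance, inferInstance, d, α, b₀, av, r₀, B, hα0, e ▸ hdvd.mul_right (xz c), hr, ?_, fun F _ φ hφ => ?_, fun F _ _ ψ hψ => ?_⟩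
  · -- the dimension bound
    haveI : CharZero (ULift.{u} ℤ) := charZero_of_injective_ringHom
      (f := (ULift.ringEquiv (R := ℤ)).symm.toRingHom) ULift.ringEquiv.symm.injective
    haveI : IsDomain (ULift.{u} ℤ) := ULift.ringEquiv.injective.isDomain
    haveI : IsNoetherianRing (ULift.{u} ℤ) := isNoetherianRing_of_ringEquiv ℤ ULift.ringEquiv.symm
    letI algA : Algebra (ULift.{u} ℤ) A := uliftIntAlgebra A
    letI algK : Algebra (ULift.{u} ℤ) K := uliftIntAlgebra K
    letI algL : Algebra (ULift.{u} ℤ) L := uliftIntAlgebra L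
    haveI : IsScalarTower ℤ (ULift.{u} ℤ) A := IsScalarTower.of_algebraMap_eq' (RingHom.ext_int _ _)
    haveI : Algebra.FiniteType (ULift.{u} ℤ) A := Algebra.FiniteType.of_restrictScalars_finiteType ℤ _ A
    haveI hFA : FaithfulSMul (ULift.{u} ℤ) A := (faithfulSMul_iff_algebraMap_injective _ _).2 fun x y h =>
      ULift.ext _ _ (Int.cast_injective (α := A) h)
    haveI hFK : FaithfulSMul (ULift.{u} ℤ) K := (faithfulSMul_iff_algebraMap_injective _ _).2 fun x y h =>
      ULift.ext _ _ (Int.cast_injective (α := K) h)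
    haveI : IsScalarTower ℤ (ULift.{u} ℤ) K := IsScalarTower.of_algebraMap_eq' (RingHom.ext_int _ _)
    haveI : IsScalarTower (ULift.{u} ℤ) A L := IsScalarTower.of_algebraMap_eq fun x => by simp [RingHom.algebraMap_toAlgebra]
    haveI : IsScalarTower (ULift.{u} ℤ) K L := IsScalarTower.of_algebraMap_eq fun x => by simp [RingHom.algebraMap_toAlgebra]
    haveI : Algebra.IsAlgebraic ℤ ℚ := IsLocalization.isAlgebraic ℚ (nonZeroDivisors ℤ)
    haveI : Algebra.IsAlgebraic ℚ K := halg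
    haveI : Algebra.IsAlgebraic ℤ K := Algebra.IsAlgebraic.trans ℤ ℚ K
    haveI : Algebra.IsAlgebraic (ULift.{u} ℤ) K := Algebra.IsAlgebraic.extendScalars (R := ℤ)
      (RingHom.injective_int (algebraMap ℤ (ULift.{u} ℤ)))
    haveI : Algebra.IsAlgebraic A L := IsLocalization.isAlgebraic L (nonZeroDivisors A)
    have hKL : Algebra.trdeg K L = d := by
      have h1 := trdeg_add_eq ℚ K (A := L)
      rw [trdeg_eq_zero, zero_add, ← hs.cardinalMk_eq_trdeg, Cardinal.mk_coe_finset] at h1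
      exact h1
    have htr : DimIneqLib.tr (ULift.{u} ℤ) A = d := by
      have h1 := DimIneqLib.tr_add (R := ULift.{u} ℤ) (S := A) (T := L)
      have h2 := DimIneqLib.tr_add (R := ULift.{u} ℤ) (S := K) (T := L)
      rw [DimIneqLib.tr_eq_zero (R := A) (S := L), add_zero] at h1
      rw [DimIneqLib.tr_eq_zero (R := ULift.{u} ℤ) (S := K), zero_add] at h2
      rw [h1, ← h2, DimIneqLib.tr, hKL, Cardinal.toENat_nat]
    rw [ringKrullDim_le_iff_isMaximal_height_le]
    intro q hq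
    haveI : q.LiesOver (q.comap (algebraMap (ULift.{u} ℤ) A)) := ⟨rfl⟩
    have h1 := DimIneqLib.main q (q.comap (algebraMap (ULift.{u} ℤ) A))
    rw [htr] at h1
    have h2 : (q.comap (algebraMap (ULift.{u} ℤ) A)).height ≤ 1 := by
      have h3 := Ideal.height_le_ringKrullDim_of_ne_top (I := q.comap (algebraMap (ULift.{u} ℤ) A))
        (Ideal.IsPrime.ne_top inferInstance)
      rw [ringKrullDim_eq_of_ringEquiv ULift.ringEquiv, IsPrincipalIdealRing.ringKrullDim_eq_one ℤ
        (Int.not_isField)] at h3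
      exact_mod_cast h3
    have h4 : q.height ≤ ((d + 1 : ℕ) : ℕ∞) := by
      push_cast
      calc q.height ≤ _ := le_self_add
        _ ≤ _ := h1
        _ ≤ 1 + (d : ℕ∞) := add_le_add h2 le_rfl
        _ = _ := add_comm _ _
    exact_mod_cast h4
  · obtain ⟨φ', rfl⟩ := hext φ hφ
    exact ⟨hb₀α _ hφ, φ'.comp (algebraMap (𝓞 K) A'), fun w => hval φ' w⟩
  · have hfwd : ∀ φ' : Pts ψ a, φ'.1.comp i α ≠ 0 := fun φ' => by
      show φ'.1 (i α) ≠ 0
      rw [hiα, map_mul]
      exact mul_ne_zero φ'.2.2 fun h => φ'.2.2 ((congrArg φ'.1 hac).trans (by rw [map_mul, h, zero_mul]))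
    let E : Pts ψ a → {φ : A →+* F // φ α ≠ 0 ∧ ∀ w, ψ w * φ b₀ = φ (av w)} := fun φ' =>
      ⟨φ'.1.comp i, hfwd φ', fun w => by rw [← RingHom.congr_fun φ'.2.1 w]; exact hval φ'.1 w⟩
    have hE : Function.Bijective E := by
      refine ⟨fun φ' φ'' h => Subtype.ext (RingHom.ext fun z => ?_), fun φ => ?_⟩
      · have h' : φ'.1.comp i = φ''.1.comp i := congrArg Subtype.val h
        have hb : φ'.1 (i b₀) ≠ 0 := hb₀α (φ'.1.comp i) (hfwd φ')
        have e : z * i b₀ = i (xz z) := Subtype.ext (hxz' z).symm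
        have h1 := congrArg φ'.1 e
        have h2 := congrArg φ''.1 e
        rw [map_mul] at h1 h2
        rw [show φ''.1 (i b₀) = φ'.1 (i b₀) from (RingHom.congr_fun h' b₀).symm,
          show φ''.1 (i (xz z)) = φ'.1 (i (xz z)) from (RingHom.congr_fun h' (xz z)).symm] at h2
        exact mul_right_cancel₀ hb (h1.trans h2.symm)
      · obtain ⟨φ', hφ'⟩ := hext φ.1 φ.2.1
        have hb : φ' (i b₀) ≠ 0 := by
          rw [show φ' (i b₀) = φ.1 b₀ from RingHom.congr_fun hφ' b₀]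
          exact hb₀α _ φ.2.1
        refine ⟨⟨φ', RingHom.ext fun w => mul_right_cancel₀ hb ?_, fun h0 => φ.2.1 ?_⟩, Subtype.ext hφ'⟩
        · rw [RingHom.comp_apply, hval, show φ' (i b₀) = φ.1 b₀ from RingHom.congr_fun hφ' b₀]
          exact (RingHom.congr_fun hφ' (av w)).trans (φ.2.2 w).symm
        · rw [← hφ', RingHom.comp_apply, hiα, map_mul, h0, zero_mul]
    rw [← Nat.card_eq_of_bijective E hE]
    exact (hcount F ψ hψ).2

theorem surjective_of_card_prime {R F : Type*} [Ring R] [Field F] (hp : (Nat.card F).Prime) (φ : R →+* F) :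
    Function.Surjective φ := by
  haveI : Finite F := Nat.finite_of_card_ne_zero hp.ne_zero
  letI := Fintype.ofFinite F
  haveI : Fact (Fintype.card F).Prime := ⟨by rwa [← Nat.card_eq_fintype_card]⟩
  haveI : CharP F (Fintype.card F) := charP_of_card_eq_prime rfl
  intro y
  obtain ⟨z, rfl⟩ := (ZMod.castHom_bijective F rfl).2 y
  exact ⟨(z.val : R), by rw [map_natCast, ZMod.castHom_apply, ZMod.cast_eq_val]⟩

theorem eq_of_ker_eq_of_card_prime {R F : Type*} [CommRing R] [Field F] (hp : (Nat.card F).Prime) (φ ψ : R →+* F)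
    (h : RingHom.ker φ = RingHom.ker ψ) : φ = ψ := by
  refine RingHom.ext fun x => ?_
  haveI : Finite F := Nat.finite_of_card_ne_zero hp.ne_zero
  letI := Fintype.ofFinite F
  haveI : Fact (Fintype.card F).Prime := ⟨by rwa [← Nat.card_eq_fintype_card]⟩
  haveI : CharP F (Fintype.card F) := charP_of_card_eq_prime rfl
  obtain ⟨z, hz⟩ := (ZMod.castHom_bijective F rfl).2 (φ x)
  rw [ZMod.castHom_apply, ZMod.cast_eq_val] at hz
  have h1 : x - (z.val : R) ∈ RingHom.ker φ := by rw [RingHom.mem_ker, map_sub, map_natCast, hz, sub_self]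
  rw [h, RingHom.mem_ker, map_sub, map_natCast, sub_eq_zero] at h1
  rw [h1, hz]

/-- The zeta function of a basic open of an arithmetic domain of characteristic zero. -/
theorem exists_pieceZ (A : Type u) [CommRing A] [IsDomain A] [CharZero A] [Algebra.FiniteType ℤ A] {r : ℕ}
    (hA : ringKrullDim A = r) (a₀ : A) (ha₀ : a₀ ≠ 0) :
    ∃ b : A, b ≠ 0 ∧ a₀ ∣ b ∧ ∃ δ : ℝ, 0 < δ ∧ ∃ F : ℂ → ℂ, AnalyticOnNhd ℂ F {s : ℂ | (r : ℝ) - δ < s.re} ∧ F r ≠ 0 ∧
      ∀ s : ℂ, (r : ℝ) < s.re → (s - r) * Complex.exp (Lz (Spec (CommRingCat.of (Localization.Away b))) s) = F s := by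
  classical
  obtain ⟨K, _, _, d, α, b₀, av, r₀, Bc, hα, hαdvd, hr₀, hdim, hpsi, hcount⟩ := exists_degOne_data A (FractionRing A) a₀ ha₀
  -- finite type over `ℤ`
  let gA : Spec (CommRingCat.of A) ⟶ Spec (CommRingCat.of (ULift.{u} ℤ)) :=
    Spec.map (CommRingCat.ofHom ((Int.castRingHom A).comp ULift.ringEquiv.toRingHom))
  haveI : LocallyOfFiniteType gA := (HasRingHomProperty.Spec_iff (P := @LocallyOfFiniteType)).mpr (by
    refine RingHom.FiniteType.comp ?_ (RingHom.FiniteType.of_surjective _ ULift.ringEquiv.surjective)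
    rw [show Int.castRingHom A = algebraMap ℤ A from RingHom.ext_int _ _]
    exact RingHom.finiteType_algebraMap.2 inferInstance)
  have hXA : topologicalKrullDim ↥(Spec (CommRingCat.of A)) ≤ r := by
    show topologicalKrullDim (PrimeSpectrum A) ≤ r
    rw [PrimeSpectrum.topologicalKrullDim_eq_ringKrullDim, hA]
  obtain ⟨D, p₀, hD⟩ := ZetaAbs.card_le gA r hXA
  have hSfin : {P : HeightOneSpectrum (𝓞 K) | P.asIdeal ∣ Ideal.span {r₀}}.Finite := Ideal.finite_factors (by simpa using hr₀)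
  set p₁ : ℕ := p₀ + ∑ P ∈ hSfin.toFinset, Ideal.absNorm P.asIdeal + 2
  set b : A := α * (p₁.factorial : A)
  have hb : b ≠ 0 := mul_ne_zero hα (Nat.cast_ne_zero.2 (Nat.factorial_ne_zero _))
  let B := Localization.Away b
  let gB : Spec (CommRingCat.of B) ⟶ Spec (CommRingCat.of A) := Spec.map (CommRingCat.ofHom (algebraMap A B))
  haveI : IsOpenImmersion gB := IsOpenImmersion.of_isLocalization b
  let g : Spec (CommRingCat.of B) ⟶ Spec (CommRingCat.of (ULift.{u} ℤ)) := gB ≫ gA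
  haveI : LocallyOfFiniteType g := inferInstance
  haveI : QuasiCompact g := inferInstance
  have hXB : topologicalKrullDim ↥(Spec (CommRingCat.of B)) ≤ r :=
    (gB.isEmbedding.isInducing.topologicalKrullDim_le).trans hXA
  let X := Spec (CommRingCat.of B)
  let θ : ∀ x : X, B →+* X.residueField x := fun x => (Spec.preimage (X.fromSpecResidueField x)).hom
  have hθker : ∀ x : X, RingHom.ker (θ x) = PrimeSpectrum.asIdeal x := fun x => by
    have h1 : (Spec.map (Spec.preimage (X.fromSpecResidueField x))) (IsLocalRing.closedPoint (X.residueField x)) = x := by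
      rw [Spec.map_preimage]; exact Scheme.fromSpecResidueField_apply _ _
    conv_rhs => rw [← h1]
    show RingHom.ker (θ x) = Ideal.comap (θ x) (IsLocalRing.closedPoint (X.residueField x)).asIdeal
    rw [show (IsLocalRing.closedPoint (X.residueField x)).asIdeal = ⊥ from IsLocalRing.maximalIdeal_eq_bot,
      ← RingHom.ker_eq_comap_bot]
  have hunit : ∀ {F : Type u} [Field F] (η : B →+* F), η (algebraMap A B α) ≠ 0 ∧ ∀ p : ℕ, p ≤ p₁ → 0 < p → (p : F) ≠ 0 := by
    intro F _ η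
    have h : η (algebraMap A B b) ≠ 0 := ((IsLocalization.Away.algebraMap_isUnit (S := B) b).map η).ne_zero
    simp only [b, map_mul, map_natCast] at h
    refine ⟨left_ne_zero_of_mul h, fun p hp hp0 h0 => right_ne_zero_of_mul h ?_⟩
    obtain ⟨c, hc⟩ := Nat.dvd_factorial hp0 hp
    rw [hc, Nat.cast_mul, h0, zero_mul]
  -- residue characteristics are large
  have hbig : ∀ (x : ZetaAbs.Pt X) (p m : ℕ), p.Prime → p ^ m = ZetaAbs.N x.1 → p₁ < p := by
    intro x p m hp he
    by_contra hle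
    haveI : Finite (X.residueField x.1) := Nat.finite_of_card_ne_zero (by have := x.2.2; simp only [ZetaAbs.N] at this; omega)
    have h0 : (ZetaAbs.N x.1 : X.residueField x.1) = 0 := by
      simp only [ZetaAbs.N]
      letI := Fintype.ofFinite (X.residueField x.1)
      rw [Nat.card_eq_fintype_card, Nat.cast_card_eq_zero]
    rw [← he, Nat.cast_pow] at h0
    exact (hunit (θ x.1)).2 p (not_lt.1 hle) hp.pos (eq_zero_of_pow_eq_zero h0)
  let D1 : Set (HeightOneSpectrum (𝓞 K)) := {P | P ∈ DegOne K ∧ p₁ < Ideal.absNorm P.asIdeal}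
  have hD1r : ∀ P ∈ D1, r₀ ∉ P.asIdeal := fun P hP h => by
    have h1 : Ideal.absNorm P.asIdeal ≤ p₁ := by
      refine le_trans ?_ (le_trans (Nat.le_add_left _ p₀) (Nat.le_add_right _ 2))
      exact Finset.single_le_sum (f := fun P : HeightOneSpectrum (𝓞 K) => Ideal.absNorm P.asIdeal)
        (fun _ _ => Nat.zero_le _) (hSfin.mem_toFinset.2 (Ideal.dvd_span_singleton.2 h))
    exact absurd hP.2 (not_lt.2 h1)
  letI fld : ∀ P : HeightOneSpectrum (𝓞 K), Field (𝓞 K ⧸ P.asIdeal) := fun P => by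
    haveI := P.isMaximal
    exact Ideal.Quotient.field P.asIdeal
  haveI hfinF : ∀ P : HeightOneSpectrum (𝓞 K), Finite (𝓞 K ⧸ P.asIdeal) := fun P =>
    Ideal.finiteQuotientOfFreeOfNeBot P.asIdeal P.ne_bot
  have hNP : ∀ P : HeightOneSpectrum (𝓞 K), Nat.card (𝓞 K ⧸ P.asIdeal) = Ideal.absNorm P.asIdeal := fun P => by
    rw [Ideal.absNorm_apply, Submodule.cardQuot_apply]
  have hprime : ∀ P : D1, (Nat.card (𝓞 K ⧸ P.1.asIdeal)).Prime := fun P => by rw [hNP]; exact P.2.1
  let Hom : D1 → Type u := fun P =>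
    {φ : A →+* 𝓞 K ⧸ P.1.asIdeal // φ α ≠ 0 ∧ ∀ w, Ideal.Quotient.mk P.1.asIdeal w * φ b₀ = φ (av w)}
  have hest : ∀ P : D1, |(Nat.card (Hom P) : ℝ) - (Ideal.absNorm P.1.asIdeal : ℝ) ^ d| *
      Real.sqrt (Ideal.absNorm P.1.asIdeal) ≤ Bc * (Ideal.absNorm P.1.asIdeal : ℝ) ^ d := fun P => by
    rw [← hNP]
    exact hcount (𝓞 K ⧸ P.1.asIdeal) (Ideal.Quotient.mk P.1.asIdeal)
      (fun h => hD1r P.1 P.2 (Ideal.Quotient.eq_zero_iff_mem.1 h))
  have hφb : ∀ (P : D1) (φ : Hom P), IsUnit (φ.1 b) := fun P φ => by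
    refine isUnit_iff_ne_zero.2 ?_
    simp only [b, map_mul, map_natCast]
    refine mul_ne_zero φ.2.1 fun h0 => ?_
    letI := Fintype.ofFinite (𝓞 K ⧸ P.1.asIdeal)
    have hp := hprime P
    rw [Nat.card_eq_fintype_card] at hp
    haveI : Fact (Fintype.card (𝓞 K ⧸ P.1.asIdeal)).Prime := ⟨hp⟩
    haveI : CharP (𝓞 K ⧸ P.1.asIdeal) (Fintype.card (𝓞 K ⧸ P.1.asIdeal)) := charP_of_card_eq_prime rfl
    rw [CharP.cast_eq_zero_iff _ (Fintype.card (𝓞 K ⧸ P.1.asIdeal)), hp.dvd_factorial, ← Nat.card_eq_fintype_card, hNP] at h0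
    exact absurd P.2.2 (not_lt.2 h0)
  -- the points of prime norm
  let T1 : Set (ZetaAbs.Pt X) := {x | (ZetaAbs.N x.1).Prime}
  have hmk : ∀ z : Σ P : D1, Hom P, ∃ x : T1, ZetaAbs.N x.1.1 = Ideal.absNorm z.1.1.asIdeal ∧
      PrimeSpectrum.asIdeal x.1.1 = RingHom.ker (IsLocalization.Away.lift (S := B) b (hφb z.1 z.2)) := by
    rintro ⟨P, φ⟩
    set η : B →+* 𝓞 K ⧸ P.1.asIdeal := IsLocalization.Away.lift (S := B) b (hφb P φ)
    obtain ⟨h1, h2, h3⟩ := point_mem_pt g (𝓞 K ⧸ P.1.asIdeal) (Spec.map (CommRingCat.ofHom η))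
    let x₀ : X := (Spec.map (CommRingCat.ofHom η)) (IsLocalRing.closedPoint (𝓞 K ⧸ P.1.asIdeal))
    let ψ : X.residueField x₀ →+* 𝓞 K ⧸ P.1.asIdeal :=
      ((Scheme.SpecToEquivOfField (𝓞 K ⧸ P.1.asIdeal) X) (Spec.map (CommRingCat.ofHom η))).2.hom
    have hN : ZetaAbs.N x₀ = Ideal.absNorm P.1.asIdeal :=
      (Nat.card_eq_of_bijective ψ ⟨ψ.injective, surjective_of_card_prime (hprime P) ψ⟩).trans (hNP P.1)
    refine ⟨⟨⟨x₀, h1, h2⟩, show (ZetaAbs.N x₀).Prime by rw [hN]; exact P.2.1⟩, hN, ?_⟩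
    show Ideal.comap η (IsLocalRing.closedPoint (𝓞 K ⧸ P.1.asIdeal)).asIdeal = RingHom.ker η
    rw [show (IsLocalRing.closedPoint (𝓞 K ⧸ P.1.asIdeal)).asIdeal = ⊥ from IsLocalRing.maximalIdeal_eq_bot,
      ← RingHom.ker_eq_comap_bot]
  choose Φ hΦN hΦker using hmk
  have hcompA : ∀ (P : D1) (φ : Hom P), (IsLocalization.Away.lift (S := B) b (hφb P φ)).comp (algebraMap A B) = φ.1 :=
    fun P φ => RingHom.ext fun a => IsLocalization.Away.lift_eq (S := B) (g := φ.1) b (hφb P φ) a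
  have hΦbij : Function.Bijective Φ := by
    constructor
    · rintro ⟨P, φ⟩ ⟨Q, φ'⟩ h
      have h' := congrArg (fun x : T1 => (PrimeSpectrum.asIdeal x.1.1).comap (algebraMap A B)) h
      simp only [hΦker] at h'
      rw [RingHom.comap_ker, RingHom.comap_ker, hcompA P φ, hcompA Q φ'] at h'
      have hb1 := (hpsi _ φ.1 φ.2.1).1
      have hb2 := (hpsi _ φ'.1 φ'.2.1).1
      obtain rfl : P = Q := Subtype.ext (HeightOneSpectrum.ext (Ideal.ext fun w => by
        rw [← Ideal.Quotient.eq_zero_iff_mem, ← Ideal.Quotient.eq_zero_iff_mem,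
          ← mul_eq_zero_iff_right hb1, ← mul_eq_zero_iff_right hb2, φ.2.2, φ'.2.2, ← RingHom.mem_ker, h', RingHom.mem_ker]))
      obtain rfl : φ = φ' := Subtype.ext (eq_of_ker_eq_of_card_prime (hprime P) _ _ h')
      rfl
    · rintro ⟨x, hx⟩
      have hpκ : (Nat.card (X.residueField x.1)).Prime := hx
      obtain ⟨hb1, ψ, hψ⟩ := hpsi _ ((θ x.1).comp (algebraMap A B)) (hunit (θ x.1)).1
      have hψs := surjective_of_card_prime hpκ ψ
      have hne : RingHom.ker ψ ≠ ⊥ := fun h => by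
        haveI : Finite (X.residueField x.1) := Nat.finite_of_card_ne_zero hpκ.ne_zero
        haveI := Finite.of_injective ψ ((RingHom.injective_iff_ker_eq_bot ψ).2 h)
        exact not_finite (𝓞 K)
      haveI hmax := RingHom.ker_isMaximal_of_surjective ψ hψs
      let P₀ : HeightOneSpectrum (𝓞 K) := ⟨RingHom.ker ψ, hmax.isPrime, hne⟩
      let e : 𝓞 K ⧸ P₀.asIdeal ≃+* X.residueField x.1 := RingHom.quotientKerEquivOfSurjective hψs
      have hN : Ideal.absNorm P₀.asIdeal = ZetaAbs.N x.1 := (hNP P₀).symm.trans (Nat.card_congr e.toEquiv)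
      have hD1 : P₀ ∈ D1 := ⟨show (Ideal.absNorm P₀.asIdeal).Prime by rw [hN]; exact hx,
        hN ▸ hbig x _ 1 hx (pow_one _)⟩
      let φ : Hom ⟨P₀, hD1⟩ := ⟨e.symm.toRingHom.comp ((θ x.1).comp (algebraMap A B)),
        fun h0 => (hunit (θ x.1)).1 (e.symm.injective (h0.trans (map_zero _).symm)), fun w => e.injective (by
          rw [map_mul]
          show e (Ideal.Quotient.mk _ w) * e (e.symm _) = e (e.symm _)
          rw [e.apply_symm_apply, e.apply_symm_apply]
          exact hψ w)⟩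
      refine ⟨⟨⟨P₀, hD1⟩, φ⟩, Subtype.ext (Subtype.ext (PrimeSpectrum.ext ?_))⟩
      have h1 : IsLocalization.Away.lift (S := B) b (hφb ⟨P₀, hD1⟩ φ) = e.symm.toRingHom.comp (θ x.1) :=
        IsLocalization.ringHom_ext (Submonoid.powers b) (by rw [hcompA, RingHom.comp_assoc])
      rw [hΦker, h1, RingHom.ker_comp_of_injective _ e.symm.injective, hθker]
  obtain ⟨XA, hXA⟩ := (inferInstance : Algebra.FiniteType ℤ A).out
  haveI : ∀ P : D1, Finite (Hom P) := fun P =>
    Finite.of_injective (fun (φ : Hom P) (v : XA) => φ.1 v.1) fun φ φ' h => Subtype.ext (RingHom.toIntAlgHom_injective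
      (AlgHom.ext_of_adjoin_eq_top hXA fun v hv => congrFun h ⟨v, hv⟩))
  let wP : HeightOneSpectrum (𝓞 K) → ℂ → ℂ := fun P z => (Ideal.absNorm P.asIdeal : ℂ) ^ (-z)
  have hNK := absNorm_ge_two K
  -- sums over the points of prime norm
  have hT1 : ∀ s : ℂ, (r : ℝ) < s.re →
      HasSum (fun P : D1 => (Nat.card (Hom P) : ℂ) * wP P.1 s) (∑' x : T1, wt s x.1) := fun s hs => by
    have hw : Summable fun x : ZetaAbs.Pt X => wt s x := Summable.of_norm (by
      simp only [norm_wt]; exact ZetaAbs.summable_N g r hXB hs)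
    have h1 : Summable fun x : T1 => wt s x.1 := hw.subtype _
    have h2 := (Equiv.ofBijective Φ hΦbij).hasSum_iff.2 h1.hasSum
    refine h2.sigma fun P => ?_
    letI := Fintype.ofFinite (Hom P)
    have h3 : ∀ φ : Hom P, wt s (Φ ⟨P, φ⟩).1 = wP P.1 s := fun φ => by simp only [wt, wP, hΦN]
    simp only [Function.comp_def, Equiv.ofBijective_apply, h3]
    convert hasSum_fintype (fun _ : Hom P => wP P.1 s) using 1
    rw [Finset.sum_const, Finset.card_univ, nsmul_eq_mul, Nat.card_eq_fintype_card]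
  -- the dimension
  have hrd : r = d + 1 := by
    have h1 : r ≤ d + 1 := by
      rw [hA] at hdim
      exact_mod_cast hdim
    by_contra hne
    have h2 : r ≤ d := by omega
    have hS := hT1 (((r : ℝ) + 1 / 2 : ℝ) : ℂ) (by rw [Complex.ofReal_re]; linarith)
    set Sx : Set (HeightOneSpectrum (𝓞 K)) := {P | Ideal.absNorm P.asIdeal ≤ p₁ + ⌈(2 * Bc) ^ 2⌉₊}
    refine not_summable_degOne K Sx (finite_above K _) ?_
    have hsub : ∀ P ∈ DegOne K \ Sx, P ∈ D1 := fun P hP => ⟨hP.1, by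
      have h' : ¬ Ideal.absNorm P.asIdeal ≤ p₁ + ⌈(2 * Bc) ^ 2⌉₊ := hP.2
      omega⟩
    have hre : Summable fun P : D1 => (Nat.card (Hom P) : ℝ) * (Ideal.absNorm P.1.asIdeal : ℝ) ^ (-((r : ℝ) + 1 / 2)) := by
      refine hS.summable.norm.congr fun P => ?_
      rw [norm_mul, Complex.norm_natCast, Complex.norm_natCast_cpow_of_pos (by have := hNK P.1; omega), Complex.neg_re, Complex.ofReal_re]
    refine Summable.of_nonneg_of_le (fun P => by positivity) (fun P => ?_)
      ((hre.mul_left 2).comp_injective (i := fun P : (DegOne K \ Sx : Set (HeightOneSpectrum (𝓞 K))) => (⟨P.1, hsub P.1 P.2⟩ : D1))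
        fun P Q h => Subtype.ext (congrArg (fun z : D1 => z.1) h))
    simp only [Function.comp_apply]
    set n : ℝ := (Ideal.absNorm P.1.asIdeal : ℝ)
    have hn : 1 ≤ n := by simp only [n]; exact_mod_cast (hNK P.1).trans' one_le_two
    have hsq : 2 * Bc ≤ Real.sqrt n := by
      refine (le_abs_self _).trans ?_
      rw [← Real.sqrt_sq_eq_abs]
      refine Real.sqrt_le_sqrt ((Nat.le_ceil _).trans ?_)
      have h' : ¬ Ideal.absNorm P.1.asIdeal ≤ p₁ + ⌈(2 * Bc) ^ 2⌉₊ := P.2.2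
      simp only [n]
      exact_mod_cast (show ⌈(2 * Bc) ^ 2⌉₊ ≤ Ideal.absNorm P.1.asIdeal by omega)
    have hs0 : 0 < Real.sqrt n := Real.sqrt_pos.2 (by linarith)
    have h3 := hest ⟨P.1, hsub P.1 P.2⟩
    have h4 : n ^ d / 2 ≤ (Nat.card (Hom ⟨P.1, hsub P.1 P.2⟩) : ℝ) := by
      have h5 := (abs_le.1 ((le_div_iff₀ hs0).2 h3)).1
      have h6 : Bc * n ^ d / Real.sqrt n ≤ n ^ d / 2 := by
        rw [div_le_iff₀ hs0]; nlinarith [pow_nonneg (zero_le_one.trans hn) d]
      simp only [n] at *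
      linarith
    have h7 : n⁻¹ ≤ n ^ d * n ^ (-((r : ℝ) + 1 / 2)) := by
      rw [← Real.rpow_natCast, ← Real.rpow_add (by linarith), ← Real.rpow_neg_one]
      have h2' : (r : ℝ) ≤ d := by exact_mod_cast h2
      exact Real.rpow_le_rpow_of_exponent_le hn (by linarith)
    calc n⁻¹ ≤ 2 * (n ^ d / 2 * n ^ (-((r : ℝ) + 1 / 2))) := by linarith
      _ ≤ _ := by gcongr
  have hdr : (r : ℝ) = d + 1 := by rw [hrd]; push_cast; rfl
  obtain ⟨δK, hδK, hδK1, FK, hFK, hFK1, hFKeq⟩ := exists_dedekind_continuation K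
  set δ : ℝ := min δK (1 / 2) with hδ
  have hδ0 : 0 < δ := lt_min hδK (by norm_num)
  have hδK' : δ ≤ δK := min_le_left _ _
  have hδ2 : δ ≤ 1 / 2 := min_le_right _ _
  let U : Set ℂ := {s : ℂ | (r : ℝ) - δ < s.re}
  -- the analytic pieces
  let cX : ℂ → ℂ := fun s => ∑' x : ZetaAbs.Pt X, (-Complex.log (1 - wt s x) - wt s x)
  have hcX : AnalyticOnNhd ℂ cX U := (analyticOn_corr (fun x : ZetaAbs.Pt X => ZetaAbs.N x.1) (fun x => x.2.2) r
    (Nat.cast_nonneg r) fun σ hσ => ZetaAbs.summable_N g r hXB hσ).mono fun s hs => by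
      simp only [U, Set.mem_ofPred_eq] at hs ⊢
      have : (0 : ℝ) ≤ d := Nat.cast_nonneg d
      linarith
  let nX : ℂ → ℂ := fun s => ∑' x : (T1ᶜ : Set (ZetaAbs.Pt X)), wt s x.1
  have hnX : AnalyticOnNhd ℂ nX U := by
    have h := analyticOn_sum (fun x : (T1ᶜ : Set (ZetaAbs.Pt X)) => ZetaAbs.N x.1.1) (fun x => x.1.2.2) (fun _ => 1)
      ((r : ℝ) - 1 / 2) fun σ hσ => by
        simp only [norm_one, one_mul]
        refine summable_of_card_fibre_le (fun x : (T1ᶜ : Set (ZetaAbs.Pt X)) => ZetaAbs.N x.1.1) (fun x => ⟨?_, x.2⟩)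
          (D : ℝ) ((r : ℝ) - 1) σ (fun q T hT => ?_) (Nat.cast_nonneg _) (by linarith)
        · haveI : Finite (X.residueField x.1.1) := Nat.finite_of_card_ne_zero (by
            have := x.1.2.2; simp only [ZetaAbs.N] at this; omega)
          letI := Fintype.ofFinite (X.residueField x.1.1)
          show IsPrimePow (Nat.card (X.residueField x.1.1))
          rw [Nat.card_eq_fintype_card]
          exact FiniteField.isPrimePow_card _
        · rcases T.eq_empty_or_nonempty with rfl | ⟨x₀, hx₀⟩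
          · simp only [Finset.card_empty, Nat.cast_zero]; positivity
          have hq2 : 2 ≤ q := hT x₀ hx₀ ▸ x₀.1.2.2
          let T' : Finset (Spec (CommRingCat.of A) : Scheme.{u}) := T.map ⟨fun x => gB x.1.1, fun x y h =>
            Subtype.ext (Subtype.ext (gB.isEmbedding.injective h))⟩
          have hT' : ∀ y ∈ T', ZetaAbs.N y = q := fun y hy => by
            obtain ⟨x, hx, rfl⟩ := Finset.mem_map.1 hy
            exact (N_immersion gB x.1.1).symm.trans (hT x hx)
          rcases hD q T' hT' hq2 with h | ⟨p, hp, hpp, ⟨m, hm⟩, -⟩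
          · rw [Finset.card_map] at h
            have hq0 : (0 : ℝ) < q := by exact_mod_cast Nat.lt_of_lt_of_le Nat.two_pos hq2
            rw [Real.rpow_sub hq0, Real.rpow_natCast, Real.rpow_one, ← mul_div_assoc, le_div_iff₀ hq0]
            exact_mod_cast h
          · exact absurd (hbig x₀.1 p m hpp (hm.trans (hT x₀ hx₀).symm)) (by omega)
    refine (h.congr (isOpen_lt continuous_const Complex.continuous_re) fun s _ => ?_).mono fun s hs => ?_
    · simp only [one_mul, nX, wt]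
    · simp only [U, Set.mem_ofPred_eq] at hs ⊢; linarith
  let cK : ℂ → ℂ := fun z => ∑' P : HeightOneSpectrum (𝓞 K), (-Complex.log (1 - wP P z) - wP P z)
  have hcK : AnalyticOnNhd ℂ cK {z : ℂ | (1 : ℝ) / 2 < z.re} :=
    analyticOn_corr (fun P : HeightOneSpectrum (𝓞 K) => Ideal.absNorm P.asIdeal) hNK 1 zero_le_one
      fun σ hσ => summable_primes K hσ
  let nK : ℂ → ℂ := fun z => ∑' P : (D1ᶜ : Set (HeightOneSpectrum (𝓞 K))), wP P.1 z
  have hnKs : ∀ σ : ℝ, 1 / 2 < σ → Summable fun P : (D1ᶜ : Set (HeightOneSpectrum (𝓞 K))) =>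
      (Ideal.absNorm P.1.asIdeal : ℝ) ^ (-σ) := fun σ hσ => by
    let f : HeightOneSpectrum (𝓞 K) → ℝ := fun P => (Ideal.absNorm P.asIdeal : ℝ) ^ (-σ)
    have h1 : Summable (f ∘ ((↑) : ((DegOne K)ᶜ : Set (HeightOneSpectrum (𝓞 K))) → _)) :=
      summable_not_degOne_rpow K (by linarith)
    have h2 : Summable (f ∘ ((↑) : {P : HeightOneSpectrum (𝓞 K) | Ideal.absNorm P.asIdeal ≤ p₁} → _)) := by
      haveI := (finite_above K p₁).to_subtype
      exact Summable.of_finite
    suffices h : Summable (f ∘ (Subtype.val : (D1ᶜ : Set (HeightOneSpectrum (𝓞 K))) → HeightOneSpectrum (𝓞 K))) by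
      simpa only [Function.comp_def, f] using h
    rw [summable_subtype_iff_indicator] at h1 h2 ⊢
    have hf : ∀ P, 0 ≤ f P := fun P => by simp only [f]; positivity
    refine Summable.of_nonneg_of_le (fun P => Set.indicator_nonneg (fun _ _ => hf _) _) (fun P => ?_) (h1.add h2)
    by_cases hP : P ∈ D1
    · rw [Set.indicator_of_notMem (Set.notMem_compl_iff.2 hP)]
      exact add_nonneg (Set.indicator_nonneg (fun _ _ => hf _) _) (Set.indicator_nonneg (fun _ _ => hf _) _)
    · rw [Set.indicator_of_mem (show P ∈ D1ᶜ from hP)]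
      by_cases hPd : P ∈ DegOne K
      · rw [Set.indicator_of_mem (s := {P : HeightOneSpectrum (𝓞 K) | Ideal.absNorm P.asIdeal ≤ p₁})
          (show Ideal.absNorm P.asIdeal ≤ p₁ from not_lt.1 fun h => hP ⟨hPd, h⟩)]
        exact le_add_of_nonneg_left (Set.indicator_nonneg (fun _ _ => hf _) _)
      · rw [Set.indicator_of_mem (show P ∈ (DegOne K)ᶜ from hPd)]
        exact le_add_of_nonneg_right (Set.indicator_nonneg (fun _ _ => hf _) _)
  have hnK : AnalyticOnNhd ℂ nK {z : ℂ | (1 : ℝ) / 2 < z.re} := by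
    refine (analyticOn_sum (fun P : (D1ᶜ : Set (HeightOneSpectrum (𝓞 K))) => Ideal.absNorm P.1.asIdeal) (fun P => hNK P.1)
      (fun _ => 1) (1 / 2) fun σ hσ => by simpa using hnKs σ hσ).congr (isOpen_lt continuous_const Complex.continuous_re) fun z _ => ?_
    simp only [one_mul, nK, wP]
  let cf : D1 → ℂ := fun P => (Nat.card (Hom P) : ℂ) - (Ideal.absNorm P.1.asIdeal : ℂ) ^ d
  let err : ℂ → ℂ := fun s => ∑' P : D1, cf P * wP P.1 s
  have herrs : ∀ σ : ℝ, (r : ℝ) - 1 / 2 < σ →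
      Summable fun P : D1 => ‖cf P‖ * (Ideal.absNorm P.1.asIdeal : ℝ) ^ (-σ) := fun σ hσ => by
    refine Summable.of_nonneg_of_le (fun P => by positivity) (fun P => ?_)
      (((summable_primes K (σ := σ - (d : ℝ) + 1 / 2) (by linarith)).subtype D1).mul_left |Bc|)
    simp only [Function.comp_apply]
    have hn0 : (0 : ℝ) < (Ideal.absNorm P.1.asIdeal : ℝ) := by exact_mod_cast Nat.lt_of_lt_of_le Nat.two_pos (hNK P.1)
    have hc : ‖cf P‖ ≤ |Bc| * (Ideal.absNorm P.1.asIdeal : ℝ) ^ ((d : ℝ) - 1 / 2) := by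
      rw [show cf P = (((Nat.card (Hom P) : ℝ) - (Ideal.absNorm P.1.asIdeal : ℝ) ^ d : ℝ) : ℂ) by simp [cf],
        Complex.norm_real, Real.norm_eq_abs, Real.rpow_sub hn0, Real.rpow_natCast, ← Real.sqrt_eq_rpow, ← mul_div_assoc,
        le_div_iff₀ (Real.sqrt_pos.2 hn0)]
      exact (hest P).trans (mul_le_mul_of_nonneg_right (le_abs_self _) (by positivity))
    refine (mul_le_mul_of_nonneg_right hc (Real.rpow_nonneg hn0.le _)).trans_eq ?_
    show _ = |Bc| * (Ideal.absNorm P.1.asIdeal : ℝ) ^ (-(σ - (d : ℝ) + 1 / 2))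
    rw [mul_assoc, ← Real.rpow_add hn0]
    ring_nf
  have herr : AnalyticOnNhd ℂ err U :=
    (analyticOn_sum (fun P : D1 => Ideal.absNorm P.1.asIdeal) (fun P => hNK P.1) cf ((r : ℝ) - 1 / 2) herrs).mono
      fun s hs => by simp only [U, Set.mem_ofPred_eq] at hs ⊢; linarith
  have hshift : ∀ {G : ℂ → ℂ} {t : ℝ}, AnalyticOnNhd ℂ G {z : ℂ | t < z.re} → t ≤ 1 - δ →
      AnalyticOnNhd ℂ (fun s => G (s - d)) U := fun {G t} hG ht => fun s hs => by
    simp only [U, Set.mem_ofPred_eq] at hs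
    refine AnalyticAt.comp' (hG (s - d) ?_) (analyticAt_id.sub analyticAt_const)
    show t < (s - (d : ℂ)).re
    rw [Complex.sub_re, Complex.natCast_re]
    linarith
  let H : ℂ → ℂ := fun s => cX s + nX s + err s - cK (s - d) - nK (s - d)
  let F : ℂ → ℂ := fun s => FK (s - d) * Complex.exp (H s)
  have hH : AnalyticOnNhd ℂ H U :=
    (((hcX.add hnX).add herr).sub (hshift hcK (by linarith))).sub (hshift hnK (by linarith))
  refine ⟨b, hb, hαdvd.mul_right _, δ, hδ0, F, (hshift hFK (by linarith)).mul hH.cexp, ?_, fun s hs => ?_⟩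
  · show FK ((r : ℂ) - d) * Complex.exp (H r) ≠ 0
    rw [show (r : ℂ) - d = 1 by rw [hrd]; push_cast; ring]
    exact mul_ne_zero hFK1 (Complex.exp_ne_zero _)
  have hz : 1 < (s - (d : ℂ)).re := by rw [Complex.sub_re, Complex.natCast_re]; linarith
  have hw : Summable fun x : ZetaAbs.Pt X => wt s x := Summable.of_norm (by
    simp only [norm_wt]; exact ZetaAbs.summable_N g r hXB hs)
  have e1 : Lz X s = cX s + ∑' x : ZetaAbs.Pt X, wt s x := by
    show (∑' x : ZetaAbs.Pt X, -Complex.log (1 - wt s x)) =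
      (∑' x : ZetaAbs.Pt X, (-Complex.log (1 - wt s x) - wt s x)) + _
    rw [((summable_Lz g r hXB hs).tsum_sub hw)]
    ring
  have e2 : ∑' x : ZetaAbs.Pt X, wt s x = (∑' x : T1, wt s x.1) + nX s :=
    ((hw.subtype T1).tsum_add_tsum_compl (hw.subtype _)).symm
  have hKw : Summable fun P : HeightOneSpectrum (𝓞 K) => wP P (s - d) := Summable.of_norm_bounded (summable_primes K hz)
    fun P => norm_nat_cpow_neg_le ((hNK P).trans' one_le_two) le_rfl
  have hpowP : ∀ P : D1, (Ideal.absNorm P.1.asIdeal : ℂ) ^ d * wP P.1 s = wP P.1 (s - d) := fun P => by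
    simp only [wP]
    rw [neg_sub, sub_eq_add_neg (d : ℂ) s, Complex.cpow_add _ _ (Nat.cast_ne_zero.2 (by have := hNK P.1; omega)),
      Complex.cpow_natCast]
  have herr' : HasSum (fun P : D1 => cf P * wP P.1 s) (err s) := by
    refine (Summable.of_norm_bounded (herrs s.re (by linarith)) fun P => ?_).hasSum
    rw [norm_mul]
    exact mul_le_mul_of_nonneg_left (norm_nat_cpow_neg_le ((hNK P.1).trans' one_le_two) le_rfl) (norm_nonneg _)
  have e3 : ∑' x : T1, wt s x.1 = err s + ∑' P : D1, wP P.1 (s - d) := by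
    refine (hT1 s hs).unique ((herr'.add (hKw.subtype D1).hasSum).congr_fun fun P => ?_)
    simp only [Function.comp_apply, cf, ← hpowP P]
    ring
  have hKlog : Summable fun P : HeightOneSpectrum (𝓞 K) => -Complex.log (1 - wP P (s - d)) := by
    refine Summable.of_norm_bounded ((summable_primes K hz).mul_left ((1 - (2 : ℝ) ^ (-(s - (d : ℂ)).re))⁻¹ + 1)) fun P => ?_
    have h2 : (2 : ℝ) ^ (-(s - (d : ℂ)).re) < 1 := Real.rpow_lt_one_of_one_lt_of_neg one_lt_two (by linarith)
    refine (norm_neg_log_le h2 ((norm_nat_cpow_neg_le ((hNK P).trans' one_le_two) le_rfl).trans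
      (Real.rpow_le_rpow_of_nonpos two_pos (by exact_mod_cast hNK P) (by linarith)))).trans ?_
    exact mul_le_mul_of_nonneg_left (norm_nat_cpow_neg_le ((hNK P).trans' one_le_two) le_rfl)
      (add_nonneg (inv_nonneg.2 (by linarith)) zero_le_one)
  have e4 : ∑' P : HeightOneSpectrum (𝓞 K), wP P (s - d) =
      (∑' P : HeightOneSpectrum (𝓞 K), -Complex.log (1 - wP P (s - d))) - cK (s - d) := by
    show _ = _ - ∑' P : HeightOneSpectrum (𝓞 K), (-Complex.log (1 - wP P (s - d)) - wP P (s - d))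
    rw [hKlog.tsum_sub hKw]
    ring
  have e5 : ∑' P : HeightOneSpectrum (𝓞 K), wP P (s - d) = (∑' P : D1, wP P.1 (s - d)) + nK (s - d) :=
    ((hKw.subtype D1).tsum_add_tsum_compl (hKw.subtype _)).symm
  show (s - r) * Complex.exp (Lz X s) = FK (s - d) * Complex.exp (H s)
  rw [hFKeq _ hz, dedekindZeta_eq_exp K hz, mul_assoc, ← Complex.exp_add,
    show s - (d : ℂ) - 1 = s - r by rw [hrd]; push_cast; ring]
  congr 2
  simp only [H]
  linear_combination e1 + e2 + e3 - e5 + e4

end LWQual
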