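import Groth.Agent.LWQualLib.Count

/-!
# The Weil bound for an absolutely irreducible plane curve, with an explicit uniform constant
-/

set_option autoImplicit false
set_option maxHeartbeats 1000000
set_option backward.isDefEq.respectTransparency false

noncomputable section

open Polynomial

namespace LWQual

open Groth.Agent.FFLib FunFld

universe u

/-- The homogenisation of a split polynomial. -/
theorem sum_eq_prod {E R : Type*} [Field E] [CommRing R] [IsDomain R] (σ : E →+* R) (s : Multiset E)
    (A B : R) (hB : B ≠ 0) :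
    ∑ i ∈ Finset.range (s.card + 1), σ ((s.map fun a => X - C a).prod.coeff i) * A ^ i * B ^ (s.card - i) =
      (s.map fun a => A - σ a * B).prod := by
  let j : R →+* FractionRing R := algebraMap _ _
  have hj : Function.Injective j := IsFractionRing.injective _ _
  have hB' : j B ≠ 0 := (map_ne_zero_iff _ hj).2 hB
  set z := j A / j B with hz
  have hjA : j A = z * j B := by rw [hz, div_mul_cancel₀ _ hB']
  have hdeg : ((s.map fun a => X - C a).prod).natDegree = s.card := natDegree_multiset_prod_X_sub_C_eq_card s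
  apply hj
  rw [map_sum, map_multiset_prod, Multiset.map_map]
  have hR : (s.map (j ∘ fun a => A - σ a * B)).prod =
      j B ^ s.card * ((s.map fun a => X - C a).prod).eval₂ (j.comp σ) z := by
    rw [← coe_eval₂RingHom, map_multiset_prod, Multiset.map_map]
    rw [show (s.map (j ∘ fun a => A - σ a * B)) = s.map fun a => j B * (eval₂RingHom (j.comp σ) z) (X - C a) from
      Multiset.map_congr rfl fun a _ => by
        simp only [Function.comp_apply, map_sub, map_mul, coe_eval₂RingHom, eval₂_X, eval₂_C, hjA,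
          RingHom.comp_apply]
        ring]
    rw [Multiset.prod_map_mul, Multiset.map_const', Multiset.prod_replicate]
    rfl
  rw [hR, eval₂_eq_sum_range, hdeg, Finset.mul_sum]
  refine Finset.sum_congr rfl fun i hi => ?_
  rw [map_mul, map_mul, map_pow, map_pow, hjA, mul_pow, RingHom.comp_apply,
    ← pow_sub_mul_pow (j B) (Nat.lt_succ_iff.1 (Finset.mem_range.1 hi))]
  ring

/-- An irreducible monic polynomial over a field of constants divides no nonzero combination of
lower degree: a linear relation `∑ gᵢ Pⁱ qᵉ⁻ⁱ ≡ 0` forces `P` to be a constant multiple of `q`. -/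
theorem exists_const_of_dvd {k : Type*} [Field k] {Φ : k[X][X]} (hΦ : Φ.Monic)
    (hirr : Irreducible (mapP (algebraMap k (AlgebraicClosure k)) Φ)) (hn : 0 < Φ.natDegree)
    {P : k[X][X]} (hP : P.degree < Φ.degree) {q : k[X]} (hq : q ≠ 0) {g : k[X]} (hg : g.Monic)
    (h : Φ ∣ ∑ i ∈ Finset.range (g.natDegree + 1), C (C (g.coeff i)) * P ^ i * C q ^ (g.natDegree - i)) :
    ∃ a : k, P = C (C a * q) := by
  classical
  set ι := algebraMap k (AlgebraicClosure k)
  obtain ⟨D, hD⟩ := h
  have h1 := congrArg (mapP ι) hD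
  rw [map_mul, map_sum] at h1
  simp only [map_mul, map_pow, mapP_C, map_C] at h1
  have hsplit : g.map ι = ((g.map ι).roots.map fun a => X - C a).prod :=
    (IsAlgClosed.splits (g.map ι)).eq_prod_roots_of_monic (hg.map ι)
  have hcard : (g.map ι).roots.card = g.natDegree := by
    rw [← (IsAlgClosed.splits (g.map ι)).natDegree_eq_card_roots, natDegree_map]
  have h2 := sum_eq_prod ((C : (AlgebraicClosure k)[X] →+* (AlgebraicClosure k)[X][X]).comp C) (g.map ι).roots
    (mapP ι P) (C (q.map ι)) (by rwa [Ne, C_eq_zero, Polynomial.map_eq_zero])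
  rw [← hsplit, hcard] at h2
  simp only [coeff_map, RingHom.comp_apply] at h2
  rw [h2] at h1
  have hprime : Prime (mapP ι Φ) := hirr.prime
  obtain ⟨z, hz, hdvd⟩ := hprime.exists_mem_multiset_dvd (Dvd.intro _ h1.symm)
  obtain ⟨a, -, rfl⟩ := Multiset.mem_map.1 hz
  have hΦdeg : (mapP ι Φ).degree = Φ.degree := hΦ.degree_map _
  have hzero : mapP ι P - C (C a) * C (q.map ι) = 0 := by
    refine eq_zero_of_dvd_of_degree_lt hdvd ((degree_sub_le _ _).trans_lt ?_)
    rw [hΦdeg, max_lt_iff, ← map_mul]
    refine ⟨degree_map_le.trans_lt hP, degree_C_le.trans_lt ?_⟩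
    rw [degree_eq_natDegree hΦ.ne_zero]
    exact_mod_cast hn
  rw [sub_eq_zero, ← map_mul] at hzero
  have hc := fun j => congrArg (fun p : (AlgebraicClosure k)[X][X] => p.coeff j) hzero
  simp only [coeff_mapP, coeff_C] at hc
  have hP0 : P = C (P.coeff 0) := by
    ext1 j
    rcases eq_or_ne j 0 with rfl | hj
    · simp
    · rw [coeff_C, if_neg hj]
      have := hc j
      rw [if_neg hj, Polynomial.map_eq_zero] at this
      exact this
  have h0 := hc 0
  rw [if_pos rfl] at h0
  have hl := congrArg (fun p : (AlgebraicClosure k)[X] => p.coeff q.natDegree) h0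
  simp only [coeff_map, coeff_C_mul] at hl
  refine ⟨(P.coeff 0).coeff q.natDegree / q.coeff q.natDegree, ?_⟩
  rw [hP0]
  congr 1
  apply Polynomial.map_injective ι ι.injective
  rw [coeff_C_zero, Polynomial.map_mul, map_C, h0]
  congr 2
  rw [map_div₀, hl, mul_div_assoc, div_self, mul_one]
  exact (map_ne_zero_iff _ ι.injective).2 (leadingCoeff_ne_zero.2 hq)

/-- The Weil bound for plane curves. -/
theorem plane_count (k : Type u) [Field k] [Finite k] {Φ U V : k[X][X]} {h : k[X]} (hΦ : Φ.Monic)
    (hirr : Irreducible (mapP (algebraMap k (AlgebraicClosure k)) Φ)) {c : ℕ}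
    (hc : ∀ j, (Φ.coeff j).natDegree ≤ c) (hh : h ≠ 0) (hcert : U * Φ + V * derivative Φ = C h) :
    |(Nat.card {p : k × k // ev (RingHom.id k) p.1 p.2 Φ = 0 ∧ h.eval p.1 ≠ 0} : ℝ) - (Nat.card k : ℝ)| ≤
      (2 * (c : ℝ) * (Φ.natDegree : ℝ) ^ 2 + 3 + Φ.natDegree * (h.natDegree + 1)) * Real.sqrt (Nat.card k) := by
  classical
  set n := Φ.natDegree with hn
  have hn0 : 0 < n := by
    rcases Nat.eq_zero_or_pos n with h0 | h0
    · rw [hn, hΦ.natDegree_eq_zero] at h0
      exact absurd (h0 ▸ hirr) (by rw [map_one]; exact not_irreducible_one)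
    · exact h0
  have hirr' : Irreducible Φ := Monic.irreducible_of_irreducible_map _ Φ hΦ hirr
  set Φ' := Φ.map (algebraMap k[X] (RatFunc k)) with hΦ'
  haveI : Fact (Irreducible Φ') := ⟨(hΦ.irreducible_iff_irreducible_map_fraction_map).1 hirr'⟩
  let L := AdjoinRoot Φ'
  let x : L := algebraMap (RatFunc k) L RatFunc.X
  let y : L := AdjoinRoot.root Φ'
  have hxev : ∀ q : k[X], aeval x q = algebraMap (RatFunc k) L (algebraMap k[X] (RatFunc k) q) := fun q => by
    rw [show x = algebraMap (RatFunc k) L RatFunc.X from rfl, aeval_algebraMap_apply, RatFunc.X, aeval_algebraMap_apply,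
      aeval_X_left_apply]
  have hev : ∀ P : k[X][X], ev (algebraMap k L) x y P = aeval y (P.map (algebraMap k[X] (RatFunc k))) := fun P => by
    refine RingHom.congr_fun (?_ : ev (algebraMap k L) x y =
      (aeval y).toRingHom.comp (mapRingHom (algebraMap k[X] (RatFunc k)))) P
    refine Polynomial.ringHom_ext (fun q => ?_) (by simp [ev])
    rw [ev_C, show q.eval₂ (algebraMap k L) x = aeval x q from rfl, hxev]
    simp
  have hx : Transcendental k x := fun ⟨q, hq, hq0⟩ => by
    rw [hxev, map_eq_zero_iff _ (algebraMap (RatFunc k) L).injective,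
      map_eq_zero_iff _ (RatFunc.algebraMap_injective k)] at hq0
    exact hq hq0
  have hroot : ev (algebraMap k L) x y Φ = 0 := by
    rw [hev, ← hΦ', aeval_def]
    exact AdjoinRoot.eval₂_root Φ'
  have hmk : ∀ p : (RatFunc k)[X], aeval y p = AdjoinRoot.mk Φ' p := fun p => AdjoinRoot.aeval_eq p
  have hker : ∀ P : k[X][X], ev (algebraMap k L) x y P = 0 → Φ ∣ P := fun P hP => by
    rw [hev, hmk, AdjoinRoot.mk_eq_zero] at hP
    exact (Polynomial.map_dvd_map _ (RatFunc.algebraMap_injective k) hΦ).1 hP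
  have hgen : ∀ l : L, ∃ (q : k[X]) (P : k[X][X]), q ≠ 0 ∧ aeval x q * l = ev (algebraMap k L) x y P := by
    intro l
    obtain ⟨p, rfl⟩ := AdjoinRoot.mk_surjective l
    obtain ⟨⟨b, hb⟩, hP⟩ := IsLocalization.exist_integer_multiples (nonZeroDivisors k[X]) p.support p.coeff
    obtain ⟨P, hP'⟩ : C (algebraMap k[X] (RatFunc k) b) * p ∈ Polynomial.lifts (algebraMap k[X] (RatFunc k)) := by
      rw [lifts_iff_coeff_lifts]
      intro j
      rw [coeff_C_mul]
      by_cases hj : j ∈ p.support
      · obtain ⟨a, ha⟩ := hP j hj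
        exact ⟨a, ha.trans (Algebra.smul_def _ _)⟩
      · exact ⟨0, by rw [notMem_support_iff.1 hj, mul_zero, map_zero]⟩
    refine ⟨b, P, nonZeroDivisors.ne_zero hb, ?_⟩
    rw [hev, ← coe_mapRingHom, hP', map_mul, aeval_C, hmk, hxev]
  have hfin := finite_over x y hx Φ hΦ hroot hgen
  have hK : IsFunctionField k L := by
    refine ⟨⟨x, hx, hfin.1⟩, fun a ha => ?_⟩
    obtain ⟨g, hg0, hg⟩ := ha
    have hgm : (normalize g).Monic := monic_normalize hg0
    have hga : aeval a (normalize g) = 0 := by
      rw [normalize_apply, map_mul, hg, zero_mul]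
    obtain ⟨q, P, hq, hP⟩ := hgen a
    have hP0 : ev (algebraMap k L) x y (P %ₘ Φ) = ev (algebraMap k L) x y P := by
      conv_rhs => rw [← modByMonic_add_div P Φ, map_add, map_mul, hroot, zero_mul, add_zero]
    set G := normalize g
    have hdvd : Φ ∣ ∑ i ∈ Finset.range (G.natDegree + 1), C (C (G.coeff i)) * (P %ₘ Φ) ^ i * C q ^ (G.natDegree - i) := by
      refine hker _ ?_
      rw [map_sum]
      simp only [map_mul, map_pow, hP0, ev_CC, ← hP]
      rw [show ev (algebraMap k L) x y (C q) = aeval x q by rw [ev_C]; rfl]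
      calc ∑ i ∈ Finset.range (G.natDegree + 1),
            algebraMap k L (G.coeff i) * (aeval x q * a) ^ i * aeval x q ^ (G.natDegree - i)
          = aeval x q ^ G.natDegree * ∑ i ∈ Finset.range (G.natDegree + 1), algebraMap k L (G.coeff i) * a ^ i := by
            rw [Finset.mul_sum]
            refine Finset.sum_congr rfl fun i hi => ?_
            conv_rhs => rw [← Nat.add_sub_cancel' (Nat.lt_succ_iff.1 (Finset.mem_range.1 hi)), pow_add]
            ring
        _ = 0 := by
            rw [aeval_eq_sum_range] at hga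
            simp only [Algebra.smul_def] at hga
            rw [hga, mul_zero]
    obtain ⟨b, hb⟩ := exists_const_of_dvd hΦ hirr hn0 (degree_modByMonic_lt P hΦ) hq hgm hdvd
    refine ⟨b, ?_⟩
    have hq0 : aeval x q ≠ 0 := fun h0 => hx ⟨q, hq, h0⟩
    have h1 : aeval x q * a = aeval x q * algebraMap k L b := by
      rw [hP, ← hP0, hb, ev_C, eval₂_mul, eval₂_C, mul_comm]
      rfl
    exact (mul_left_cancel₀ hq0 h1).symm
  obtain ⟨e⟩ := exists_equiv hK x y hx Φ hΦ hroot hker hgen hcert
  rw [← Nat.card_congr e]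
  haveI := finite_degOne hK
  have hW := hasse_weil hK
  have hg := genus_le hK x y hx Φ hΦ hroot hker hgen hc
  -- the excluded places
  set hx' := aeval x h with hhx
  have hhx0 : hx' ≠ 0 := fun h0 => hx ⟨h, hh, h0⟩
  let good : Place k L → Prop := fun P => 0 ≤ P.ord x ∧ P.1 (aeval x h) = 1
  have hsplit : Nat.card {P : Place k L // P.deg = 1} =
      Nat.card {P : Place k L // P.deg = 1 ∧ good P} + Nat.card {P : Place k L // P.deg = 1 ∧ ¬ good P} := by
    haveI : Finite {P : Place k L // P.deg = 1 ∧ good P} :=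
      Finite.of_injective (fun P => (⟨P.1, P.2.1⟩ : {P : Place k L // P.deg = 1}))
        fun P Q h => Subtype.ext (congrArg (fun R : {P : Place k L // P.deg = 1} => R.1) h)
    haveI : Finite {P : Place k L // P.deg = 1 ∧ ¬ good P} :=
      Finite.of_injective (fun P => (⟨P.1, P.2.1⟩ : {P : Place k L // P.deg = 1}))
        fun P Q h => Subtype.ext (congrArg (fun R : {P : Place k L // P.deg = 1} => R.1) h)
    rw [← Nat.card_sum]
    exact Nat.card_congr ((Equiv.sumCompl fun P : {P : Place k L // P.deg = 1} => good P.1).symm.trans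
      (Equiv.sumCongr (Equiv.subtypeSubtypeEquivSubtypeInter _ good)
        (Equiv.subtypeSubtypeEquivSubtypeInter _ fun P => ¬ good P)))
  have hbad : (Nat.card {P : Place k L // P.deg = 1 ∧ ¬ good P} : ℤ) ≤ n * (h.natDegree + 1) := by
    haveI : Finite {P : Place k L // P.deg = 1 ∧ ¬ good P} :=
      Finite.of_injective (fun P => (⟨P.1, P.2.1⟩ : {P : Place k L // P.deg = 1}))
        fun P Q h => Subtype.ext (congrArg (fun R : {P : Place k L // P.deg = 1} => R.1) h)
    letI := Fintype.ofFinite {P : Place k L // P.deg = 1 ∧ ¬ good P}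
    let S : Finset (Place k L) := (Finset.univ : Finset {P : Place k L // P.deg = 1 ∧ ¬ good P}).map ⟨Subtype.val, Subtype.val_injective⟩
    have hS : S.card = Nat.card {P : Place k L // P.deg = 1 ∧ ¬ good P} := by
      rw [Finset.card_map, Finset.card_univ, Nat.card_eq_fintype_card]
    rw [← hS]
    have hord : ∀ (P : Place k L), 0 ≤ P.ord x → 0 ≤ P.ord hx' := fun P h0 => by
      rw [← v_le_one_iff]
      exact v_aeval_le P.1 P.2.1 ((v_le_one_iff P x).2 h0) h
    refine (card_le_deg hK (D := pole x + pole hx'⁻¹) (add_nonneg (pole_nonneg x) (pole_nonneg _)) S ?_).trans ?_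
    · intro P hP
      obtain ⟨⟨P', hP'⟩, -, rfl⟩ := Finset.mem_map.1 hP
      show (1 : ℤ) ≤ (pole (k := k) x + pole (k := k) hx'⁻¹) P'
      rw [Finsupp.add_apply, pole_apply hK.1, pole_apply hK.1, ord_inv, neg_neg]
      rcases le_or_gt 0 (P'.ord x) with h0 | h0
      · have h1 : P'.ord hx' ≠ 0 := fun h1 => hP'.2 ⟨h0, (v_eq_one_iff P' hhx0).2 h1⟩
        have := hord P' h0
        omega
      · omega
    · have hdeg : (pole (k := k) x).deg ≤ n := by
        rw [deg_pole hK.1 hx]; exact_mod_cast hfin.2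
      have heq : (pole (k := k) hx'⁻¹).deg = (pole (k := k) hx').deg := by
        have h1 := deg_div (k := k) hK.1 hx'
        rw [div_eq_pole_sub hK.1, deg_sub] at h1
        linarith
      have hle : pole (k := k) hx' ≤ h.natDegree • pole (k := k) x := fun P => by
        rw [Finsupp.smul_apply, pole_apply hK.1, pole_apply hK.1]
        rcases le_or_gt 0 (P.ord x) with h0 | h0
        · have := hord P h0
          simp only [nsmul_eq_mul]
          rw [max_eq_right (by omega), max_eq_right (by omega), mul_zero]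
        · rw [max_eq_left (a := -P.ord x) (by omega)]
          refine max_le ?_ (nsmul_nonneg (by omega) _)
          have hx0 : x ≠ 0 := fun h => by rw [h] at h0; simp at h0
          have hb : P.1 hx' ≤ WithZero.exp (h.natDegree • (-P.ord x)) := by
            rw [WithZero.exp_nsmul, ← v_eq P hx0, hhx, aeval_eq_sum_range]
            refine P.1.map_sum_le fun j hj => (v_smul_le P _ _).trans ?_
            rw [map_pow]
            exact pow_le_pow_right₀ ((one_lt_v_iff P x).2 h0).le (Nat.lt_succ_iff.1 (Finset.mem_range.1 hj))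
          rw [v_le_exp_iff P hhx0] at hb
          omega
      have h2 := deg_mono hle
      rw [deg_nsmul] at h2
      rw [deg_add, heq]
      nlinarith
  have hsq : (1 : ℝ) ≤ Real.sqrt (Nat.card k) := by
    rw [← Real.sqrt_one]
    exact Real.sqrt_le_sqrt (by exact_mod_cast Nat.card_pos)
  have hsplit' : (Nat.card {P : Place k L // P.deg = 1} : ℝ) =
      Nat.card {P : Place k L // P.deg = 1 ∧ good P} + Nat.card {P : Place k L // P.deg = 1 ∧ ¬ good P} := by
    exact_mod_cast hsplit
  have hbad' : (Nat.card {P : Place k L // P.deg = 1 ∧ ¬ good P} : ℝ) ≤ n * (h.natDegree + 1) := by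
    exact_mod_cast hbad
  have hbad0 : (0 : ℝ) ≤ Nat.card {P : Place k L // P.deg = 1 ∧ ¬ good P} := Nat.cast_nonneg _
  have hg' : (genus k L : ℝ) ≤ (c : ℝ) * (n : ℝ) ^ 2 + 1 := by exact_mod_cast hg
  rw [hsplit', abs_le] at hW
  rw [abs_le]
  have hgs : 2 * (genus k L : ℝ) * Real.sqrt (Nat.card k) ≤ 2 * ((c : ℝ) * (n : ℝ) ^ 2 + 1) * Real.sqrt (Nat.card k) := by
    gcongr
  have hBs : (n : ℝ) * (h.natDegree + 1) ≤ (n : ℝ) * (h.natDegree + 1) * Real.sqrt (Nat.card k) :=
    le_mul_of_one_le_right (by positivity) hsq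
  have hE : (2 * (c : ℝ) * (n : ℝ) ^ 2 + 3 + (n : ℝ) * (h.natDegree + 1)) * Real.sqrt (Nat.card k) =
      2 * ((c : ℝ) * (n : ℝ) ^ 2 + 1) * Real.sqrt (Nat.card k) + Real.sqrt (Nat.card k) +
        (n : ℝ) * (h.natDegree + 1) * Real.sqrt (Nat.card k) := by ring
  rw [hE]
  constructor <;> linarith [hW.1, hW.2]

end LWQual
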