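import Groth.Agent.FFLib.ZetaExt
import Groth.Agent.S11036
import Groth.Agent.S11040
import Groth.Agent.S11041
import Groth.Agent.FFLib.Riemann

/-!
# The Hasse–Weil bound for the number of rational places
-/

set_option autoImplicit false

noncomputable section

namespace LWQual

open Groth.Agent.FFLib FunFld

variable {k K : Type*} [Field k] [Finite k] [Field K] [Algebra k K]

/-- The places of degree one. -/
theorem finite_degOne (hK : IsFunctionField k K) : Finite {P : Place k K // P.deg = 1} := by
  have h : {P : Place k K | P.deg = 1} ⊆ (placesDvd hK 1 : Set (Place k K)) := fun P hP => by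
    rw [Finset.mem_coe, mem_placesDvd hK one_pos, show P.deg = 1 from hP]
  exact ((placesDvd hK 1).finite_toSet.subset h).to_subtype

/-- The Hasse–Weil bound. -/
theorem hasse_weil (hK : IsFunctionField k K) :
    |(Nat.card {P : Place k K // P.deg = 1} : ℝ) - ((Nat.card k : ℝ) + 1)| ≤
      2 * (genus k K : ℝ) * Real.sqrt (Nat.card k) := by
  classical
  obtain ⟨α, -, hα, hrev⟩ := Groth.Agent.S11040.result k K hK
  obtain ⟨p, hp⟩ := Groth.Agent.S11036.result k K hK
  have hq : (Nat.card k : ℂ) ≠ 0 := Nat.cast_ne_zero.2 Nat.card_pos.ne'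
  have hpα : p.map (Int.castRingHom ℂ) = ∏ i, (1 - Polynomial.C (α i) * Polynomial.X) := by
    apply Polynomial.coe_injective
    rw [Polynomial.polynomial_map_coe, hp]
    exact hα
  have hnorm : ∀ i, ‖α i‖ = Real.sqrt (Nat.card k) := by
    intro i
    have hne : α i ≠ 0 := fun h0 => hq (by rw [← hrev i, h0, zero_mul])
    have h := Groth.Agent.S11041.result k K hK p hp (α i)⁻¹ (by
      rw [hpα, Polynomial.IsRoot.def, Polynomial.eval_prod]
      exact Finset.prod_eq_zero (Finset.mem_univ i) (by simp [hne]))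
    rw [norm_inv, inv_pow, inv_mul_eq_one₀ (by positivity)] at h
    rw [← h, Real.sqrt_sq (norm_nonneg _)]
  have hW := pointCount_eq_sub_sum hK α hα (m := 1) one_pos
  simp only [pow_one] at hW
  have hcard : pointCount hK 1 = (Nat.card {P : Place k K // P.deg = 1} : ℤ) := by
    rw [Nat.card_congr (Equiv.subtypeEquivRight (q := fun P => P ∈ placesDvd hK 1) fun P => by
      rw [mem_placesDvd hK one_pos, Nat.dvd_one]), Nat.card_eq_finsetCard, Groth.Agent.FFLib.pointCount,
      Finset.sum_congr rfl fun P hP => show ((P.deg : ℕ) : ℤ) = 1 by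
        rw [mem_placesDvd hK one_pos, Nat.dvd_one] at hP
        rw [hP, Nat.cast_one]]
    simp
  rw [hcard, Int.cast_natCast] at hW
  have h1 : ((Nat.card {P : Place k K // P.deg = 1} : ℂ) - ((Nat.card k : ℂ) + 1)) = -∑ i, α i := by
    rw [hW]; ring
  calc |(Nat.card {P : Place k K // P.deg = 1} : ℝ) - ((Nat.card k : ℝ) + 1)|
      = ‖((Nat.card {P : Place k K // P.deg = 1} : ℂ) - ((Nat.card k : ℂ) + 1))‖ := by
        rw [show ((Nat.card {P : Place k K // P.deg = 1} : ℂ) - ((Nat.card k : ℂ) + 1)) =
          (((Nat.card {P : Place k K // P.deg = 1} : ℝ) - ((Nat.card k : ℝ) + 1) : ℝ) : ℂ) by push_cast; ring,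
          Complex.norm_real, Real.norm_eq_abs]
    _ = ‖∑ i, α i‖ := by rw [h1, norm_neg]
    _ ≤ ∑ i, ‖α i‖ := norm_sum_le _ _
    _ = _ := by simp [hnorm]

end LWQual
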