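import Groth.Agent.LWQualLib.PieceP
import Groth.Agent.LWQualLib.PieceZ
import Groth.Agent.LWQualLib.Abscissa

/-!
# Continuation of the zeta function of an arithmetic scheme to the left of its abscissa
-/

set_option autoImplicit false
set_option maxHeartbeats 1000000
set_option synthInstance.maxHeartbeats 100000
set_option backward.isDefEq.respectTransparency false

noncomputable section

universe u

open CategoryTheory AlgebraicGeometry TopologicalSpace Filter Topology

namespace LWQual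

/-- The exponential of the logarithm of the zeta function continues past `r` with the given order at `r`. -/
def ContPole (X : Scheme.{u}) (r : ℕ) (n : ℤ) (good : Prop) : Prop :=
  ∃ ε : ℝ, 0 < ε ∧ ∃ g : ℂ → ℂ, MeromorphicOn g {s : ℂ | (r : ℝ) - ε < s.re} ∧
    (∀ s : ℂ, (r : ℝ) < s.re → g s = Complex.exp (Lz X s)) ∧
    meromorphicOrderAt g (r : ℂ) = (n : WithTop ℤ) ∧
    (good → ∀ s : ℂ, (r : ℝ) - ε < s.re → s ≠ (r : ℂ) → 0 ≤ meromorphicOrderAt g s)

theorem ContPole.of_dim_lt {X : Scheme.{u}} (f : X ⟶ Spec (CommRingCat.of (ULift.{u} ℤ)))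
    [LocallyOfFiniteType f] [QuasiCompact f] {r : ℕ} (hr : topologicalKrullDim X < r) (good : Prop) :
    ContPole X r 0 good := by
  classical
  rcases Nat.eq_zero_or_pos r with rfl | hr0
  · haveI : IsEmpty X := by
      by_contra h
      rw [not_isEmpty_iff] at h
      obtain ⟨x⟩ := h
      haveI : Nonempty (IrreducibleCloseds X) := ⟨⟨closure {x}, isIrreducible_singleton.closure, isClosed_closure⟩⟩
      exact absurd ((Order.krullDim_nonneg (α := IrreducibleCloseds X)).trans_lt hr) (by simp)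
    haveI : IsEmpty (ZetaAbs.Pt X) := ⟨fun x => IsEmpty.false x.1⟩
    refine ⟨1, one_pos, fun _ => 1, fun s _ => analyticAt_const.meromorphicAt, fun s _ => by simp [Lz], ?_,
      fun _ s _ _ => analyticAt_const.meromorphicOrderAt_nonneg⟩
    rw [meromorphicOrderAt_eq_int_iff analyticAt_const.meromorphicAt]
    exact ⟨fun _ => 1, analyticAt_const, one_ne_zero, by simp⟩
  obtain ⟨t, rfl⟩ := Nat.exists_eq_succ_of_ne_zero hr0.ne'
  have ht : topologicalKrullDim X ≤ t := by
    generalize topologicalKrullDim X = x at hr ⊢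
    cases x with
    | bot => exact bot_le
    | coe x =>
      have h' : x < ((t + 1 : ℕ) : ℕ∞) := WithBot.coe_lt_coe.1 hr
      push_cast at h'
      exact WithBot.coe_le_coe.2 ((ENat.lt_add_one_iff (ENat.coe_ne_top t)).1 h')
  have hsub : ∀ s : ℂ, ((t + 1 : ℕ) : ℝ) - 1 < s.re → (t : ℝ) < s.re := fun s hs => by push_cast at hs; linarith
  have han : AnalyticOnNhd ℂ (fun s => Complex.exp (Lz X s)) {s : ℂ | (t : ℝ) < s.re} :=
    ((differentiableOn_Lz f t ht).cexp).analyticOnNhd (isOpen_lt continuous_const Complex.continuous_re)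
  refine ⟨1, one_pos, fun s => Complex.exp (Lz X s), fun s hs => (han s (hsub s hs)).meromorphicAt, fun s _ => rfl, ?_,
    fun _ s hs _ => (han s (hsub s hs)).meromorphicOrderAt_nonneg⟩
  have hr' : AnalyticAt ℂ (fun s => Complex.exp (Lz X s)) ((t + 1 : ℕ) : ℂ) := han _ (hsub _ (by simp))
  rw [meromorphicOrderAt_eq_int_iff hr'.meromorphicAt]
  exact ⟨fun s => Complex.exp (Lz X s), hr', Complex.exp_ne_zero _, by simp⟩

theorem ContPole.mul {X A B : Scheme.{u}} {r : ℕ} {n m : ℤ} {good : Prop}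
    (h : ∀ s : ℂ, (r : ℝ) < s.re → Lz X s = Lz A s + Lz B s) (hA : ContPole A r n good) (hB : ContPole B r m good) :
    ContPole X r (n + m) good := by
  obtain ⟨ε₁, hε₁, g₁, hm₁, he₁, ho₁, hg₁⟩ := hA
  obtain ⟨ε₂, hε₂, g₂, hm₂, he₂, ho₂, hg₂⟩ := hB
  have h1 : ∀ s : ℂ, (r : ℝ) - min ε₁ ε₂ < s.re → (r : ℝ) - ε₁ < s.re := fun s hs => by
    linarith [min_le_left ε₁ ε₂]
  have h2 : ∀ s : ℂ, (r : ℝ) - min ε₁ ε₂ < s.re → (r : ℝ) - ε₂ < s.re := fun s hs => by
    linarith [min_le_right ε₁ ε₂]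
  have hr1 : (r : ℝ) - min ε₁ ε₂ < (r : ℂ).re := by simp [hε₁, hε₂]
  refine ⟨min ε₁ ε₂, lt_min hε₁ hε₂, g₁ * g₂, fun s hs => (hm₁ s (h1 s hs)).mul (hm₂ s (h2 s hs)), fun s hs => ?_, ?_, fun hgood s hs hne => ?_⟩
  · rw [Pi.mul_apply, he₁ s hs, he₂ s hs, ← Complex.exp_add, h s hs]
  · rw [meromorphicOrderAt_mul (hm₁ _ (h1 _ hr1)) (hm₂ _ (h2 _ hr1)), ho₁, ho₂]
    norm_cast
  · rw [meromorphicOrderAt_mul (hm₁ _ (h1 _ hs)) (hm₂ _ (h2 _ hs))]
    exact add_nonneg (hg₁ hgood s (h1 s hs) hne) (hg₂ hgood s (h2 s hs) hne)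

/-- A piece of dimension `r` with a simple pole at `r`. -/
theorem exists_poleStep {Y : Scheme.{u}} (f : Y ⟶ Spec (CommRingCat.of (ULift.{u} ℤ)))
    [LocallyOfFiniteType f] [QuasiCompact f] {r : ℕ} (hr : topologicalKrullDim Y = r) :
    ∃ (V : Scheme.{u}) (g : V ⟶ Y) (_ : IsImmersion g), IsOpen (Set.range g.base) ∧ (Set.range g.base).Nonempty ∧
      ContPole V r (-1) (IrreducibleSpace Y ∧
        ∃ y : Y, closure ({f.base y} : Set ↥(Spec (CommRingCat.of (ULift.{u} ℤ)))) = Set.univ) := by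
  classical
  obtain ⟨U, hU, P, hP, hdim⟩ := exists_affine_prime hr
  haveI := hP
  haveI := hU.isOpenImmersion_fromSpec
  have hft : ((f.appLE ⊤ U (by simp)).hom.comp
      ((Scheme.ΓSpecIso (CommRingCat.of (ULift.{u} ℤ))).inv.hom.comp ULift.ringEquiv.symm.toRingHom)).FiniteType :=
    (f.finiteType_appLE (U := ⊤) (isAffineOpen_top _) hU (by simp)).comp
      (RingHom.FiniteType.of_surjective _ ((Scheme.ΓSpecIso (CommRingCat.of (ULift.{u} ℤ))).commRingCatIsoToRingEquiv.symm.surjective.comp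
        ULift.ringEquiv.symm.surjective))
  haveI : Algebra.FiniteType ℤ Γ(Y, U) := by
    rw [← RingHom.finiteType_algebraMap, RingHom.ext_int (algebraMap ℤ Γ(Y, U))]
    exact hft
  haveI : IsNoetherianRing Γ(Y, U) := Algebra.FiniteType.isNoetherianRing ℤ Γ(Y, U)
  have hR0 : ringKrullDim Γ(Y, U) ≤ r := by
    rw [← PrimeSpectrum.topologicalKrullDim_eq_ringKrullDim]
    exact le_trans (hU.fromSpec.isOpenEmbedding.isInducing.topologicalKrullDim_le) hr.le
  -- `P` is minimal
  have hmin : ∀ Q : Ideal Γ(Y, U), Q.IsPrime → Q ≤ P → Q = P := fun Q hQ hle => by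
    by_contra hne
    obtain ⟨l, hl⟩ := (Order.le_krullDim_iff (α := PrimeSpectrum (Γ(Y, U) ⧸ P)) (n := r)).mp hdim.ge
    let l' : LTSeries (PrimeSpectrum Γ(Y, U)) := l.map (PrimeSpectrum.comap (Ideal.Quotient.mk P)) (by
      intro x y hxy
      refine lt_of_le_of_ne (Ideal.comap_mono hxy.le) fun h => hxy.ne (PrimeSpectrum.ext ?_)
      exact Ideal.comap_injective_of_surjective _ Ideal.Quotient.mk_surjective (congrArg PrimeSpectrum.asIdeal h))
    have hPle : P ≤ l'.head.asIdeal := fun x hx => by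
      show Ideal.Quotient.mk P x ∈ l.head.asIdeal
      rw [Ideal.Quotient.eq_zero_iff_mem.2 hx]
      exact zero_mem _
    have hlt : (⟨Q, hQ⟩ : PrimeSpectrum Γ(Y, U)) < l'.head := (lt_of_le_of_ne hle hne).trans_le hPle
    have h1 := (Order.LTSeries.length_le_krullDim (l'.cons ⟨Q, hQ⟩ hlt)).trans hR0
    rw [RelSeries.cons_length, show l'.length = r from hl] at h1
    exact absurd (by exact_mod_cast h1 : r + 1 ≤ r) (by omega)
  have hfinm : (minimalPrimes Γ(Y, U)).Finite := minimalPrimes.finite_of_isNoetherianRing Γ(Y, U)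
  have hsep : ∀ Q : Ideal Γ(Y, U), Q ∈ minimalPrimes Γ(Y, U) → Q ≠ P → ∃ x ∈ Q, x ∉ P := fun Q hQ hne => by
    by_contra h
    push Not at h
    exact hne (hmin Q hQ.1.1 h)
  choose x hxQ hxP using hsep
  let a : Γ(Y, U) := ∏ Q ∈ (hfinm.toFinset.filter (· ≠ P)).attach,
    x Q.1 (hfinm.mem_toFinset.1 (Finset.mem_filter.1 Q.2).1) (Finset.mem_filter.1 Q.2).2
  have haP : a ∉ P := fun h => by
    obtain ⟨Q, -, hQ⟩ := Ideal.IsPrime.prod_mem_iff.1 h
    exact hxP _ _ _ hQ
  have ha : ∀ q : Ideal Γ(Y, U), q.IsPrime → a ∉ q → P ≤ q := fun q hq haq => by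
    obtain ⟨Q, hQ, hQq⟩ := Ideal.exists_minimalPrimes_le (I := ⊥) (J := q) bot_le
    by_contra hPq
    have hne : Q ≠ P := fun h => hPq (h ▸ hQq)
    exact haq (q.mem_of_dvd (Finset.dvd_prod_of_mem _
      (Finset.mem_attach _ ⟨Q, Finset.mem_filter.2 ⟨hfinm.mem_toFinset.2 hQ, hne⟩⟩)) (hQq (hxQ Q hQ hne)))
  haveI : Algebra.FiniteType ℤ (Γ(Y, U) ⧸ P) := Algebra.FiniteType.of_surjective
    (Ideal.Quotient.mkₐ ℤ P) Ideal.Quotient.mk_surjective
  have ha' : Ideal.Quotient.mk P a ≠ 0 := fun h => haP (Ideal.Quotient.eq_zero_iff_mem.1 h)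
  -- from a piece of the quotient to a piece of `Y`
  have build : ∀ (b : Γ(Y, U) ⧸ P), b ≠ 0 → Ideal.Quotient.mk P a ∣ b →
      ∃ g : Spec (CommRingCat.of (Localization.Away b)) ⟶ Y, IsImmersion g ∧ IsOpen (Set.range g.base) ∧
        (Set.range g.base).Nonempty := by
    rintro b hb ⟨c, hc⟩
    obtain ⟨c, rfl⟩ := Ideal.Quotient.mk_surjective c
    haveI : IsOpenImmersion (Spec.map (CommRingCat.ofHom (algebraMap (Γ(Y, U) ⧸ P) (Localization.Away b)))) :=
      IsOpenImmersion.of_isLocalization b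
    haveI : IsClosedImmersion (Spec.map (CommRingCat.ofHom (Ideal.Quotient.mk P))) :=
      IsClosedImmersion.spec_of_surjective _ Ideal.Quotient.mk_surjective
    let g : Spec (CommRingCat.of (Localization.Away b)) ⟶ Y :=
      (Spec.map (CommRingCat.ofHom (algebraMap (Γ(Y, U) ⧸ P) (Localization.Away b))) ≫
        Spec.map (CommRingCat.ofHom (Ideal.Quotient.mk P))) ≫ hU.fromSpec
    have hrange : Set.range g.base = hU.fromSpec.base '' {q : PrimeSpectrum Γ(Y, U) | a * c ∉ q.asIdeal} := by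
      rw [show g = _ from rfl, Scheme.Hom.comp_base, TopCat.coe_comp, Set.range_comp]
      congr 1
      rw [Scheme.Hom.comp_base, TopCat.coe_comp, Set.range_comp]
      ext q
      show q ∈ PrimeSpectrum.comap (Ideal.Quotient.mk P) '' Set.range (PrimeSpectrum.comap (algebraMap (Γ(Y, U) ⧸ P) (Localization.Away b))) ↔ _
      rw [PrimeSpectrum.localization_away_comap_range (Localization.Away b) b]
      constructor
      · rintro ⟨q', hq', rfl⟩ hmem
        exact hq' (by rw [hc, ← map_mul]; exact hmem)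
      · intro hq
        have hPq : P ≤ q.asIdeal := ha q.asIdeal q.2 fun h => hq (q.asIdeal.mul_mem_right c h)
        obtain ⟨q', rfl⟩ : q ∈ Set.range (PrimeSpectrum.comap (Ideal.Quotient.mk P)) := by
          rw [range_comap_of_surjective _ _ Ideal.Quotient.mk_surjective, Ideal.mk_ker]
          exact hPq
        exact ⟨q', fun h => hq (by
          show Ideal.Quotient.mk P (a * c) ∈ q'.asIdeal
          rw [map_mul, ← hc]; exact h), rfl⟩
    refine ⟨g, inferInstance, ?_, ?_⟩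
    · rw [hrange]
      exact hU.fromSpec.isOpenEmbedding.isOpenMap _ (PrimeSpectrum.basicOpen (a * c)).isOpen
    · rw [hrange]
      refine ⟨_, ⟨P, hP⟩, fun h => hb ?_, rfl⟩
      rw [hc, ← map_mul, Ideal.Quotient.eq_zero_iff_mem]
      exact h
  obtain ⟨p, hp⟩ := CharP.exists (Γ(Y, U) ⧸ P)
  haveI := hp
  rcases CharP.char_is_prime_or_zero (Γ(Y, U) ⧸ P) p with hpr | rfl
  · haveI : Fact p.Prime := ⟨hpr⟩
    letI : Algebra (ULift.{u} (ZMod p)) (Γ(Y, U) ⧸ P) :=
      ((ZMod.castHom (dvd_refl p) (Γ(Y, U) ⧸ P)).comp ULift.ringEquiv.toRingHom).toAlgebra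
    haveI : Algebra.FiniteType (ULift.{u} (ZMod p)) (Γ(Y, U) ⧸ P) := by
      rw [← RingHom.finiteType_algebraMap]
      refine RingHom.FiniteType.of_comp_finiteType (f := algebraMap ℤ (ULift.{u} (ZMod p))) ?_
      rw [RingHom.ext_int ((algebraMap (ULift.{u} (ZMod p)) (Γ(Y, U) ⧸ P)).comp _) (algebraMap ℤ _)]
      exact RingHom.finiteType_algebraMap.2 inferInstance
    obtain ⟨g, hg, hgo, hgne⟩ := build _ ha' dvd_rfl
    refine ⟨_, g, hg, hgo, hgne, ?_⟩
    obtain ⟨m, hm, H, hH, heq⟩ := exists_pieceP (ULift.{u} (ZMod p)) (Γ(Y, U) ⧸ P) hdim _ ha'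
    set Q : ℕ := Nat.card (ULift.{u} (ZMod p)) ^ m
    have hQ : 1 < Q := Nat.one_lt_pow hm.ne' Finite.one_lt_card
    let u : ℂ → ℂ := fun s => 1 - (Q : ℂ) ^ ((r : ℂ) - s)
    have hud : ∀ s, HasDerivAt u ((Q : ℂ) ^ ((r : ℂ) - s) * Complex.log Q) s := fun s => by
      have h := (((hasDerivAt_id s).const_sub (r : ℂ)).const_cpow (c := (Q : ℂ)) (Or.inl (Nat.cast_ne_zero.2 (by omega)))).const_sub 1
      exact h.congr_deriv (by simp)
    have hua : ∀ s, AnalyticAt ℂ u s := fun s =>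
      (Differentiable.differentiableOn (fun z => (hud z).differentiableAt)).analyticOnNhd isOpen_univ s trivial
    have hur : u (r : ℂ) = 0 := by simp [u]
    have hord : analyticOrderAt u (r : ℂ) = 1 := (hua _).analyticOrderAt_eq_one_of_zero_deriv_ne_zero hur (by
      rw [(hud _).deriv, sub_self, Complex.cpow_zero, one_mul, ← Complex.natCast_log]
      exact_mod_cast (Real.log_pos (by exact_mod_cast hQ : (1 : ℝ) < Q)).ne')
    have hmero : ∀ s : ℂ, (r : ℝ) - 1 / 2 < s.re → MeromorphicAt (fun s => Complex.exp (H s)) s := fun s hs =>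
      (hH s hs).cexp.meromorphicAt
    refine ⟨1 / 2, by norm_num, u⁻¹ * (fun s => Complex.exp (H s)),
      fun s hs => (hua s).meromorphicAt.inv.mul (hmero s hs), fun s hs => by rw [heq s hs]; rfl, ?_, ?_⟩
    · have hr' : (r : ℝ) - 1 / 2 < (r : ℂ).re := by simp
      rw [meromorphicOrderAt_mul (hua _).meromorphicAt.inv (hmero _ hr'), meromorphicOrderAt_inv,
        (hua _).meromorphicOrderAt_eq, hord]
      have h0 : meromorphicOrderAt (fun s => Complex.exp (H s)) (r : ℂ) = ((0 : ℤ) : WithTop ℤ) := by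
        rw [meromorphicOrderAt_eq_int_iff (hmero _ hr')]
        exact ⟨_, (hH _ hr').cexp, Complex.exp_ne_zero _, by simp⟩
      rw [h0]
      rfl
    · rintro ⟨hirr, y, hy⟩
      exfalso
      have hη : genericPoint Y ∈ Set.range g.base := ((genericPoint_spec Y).mem_open_set_iff hgo).2 (by simpa using hgne)
      obtain ⟨z, hz⟩ := hη
      have hspec : f.base (g.base z) ⤳ f.base y := by
        rw [hz]
        exact (genericPoint_specializes y).map f.continuous
      have hbot : (f.base (g.base z)).asIdeal ≤ ⊥ := by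
        haveI : IsDomain (ULift.{u} ℤ) := ULift.ringEquiv.injective.isDomain
        have h0 : (⟨⊥, Ideal.isPrime_bot⟩ : PrimeSpectrum (ULift.{u} ℤ)) ∈ closure ({f.base y} : Set _) := by
          rw [hy]; trivial
        exact (PrimeSpectrum.le_iff_specializes _ _).2 (hspec.trans (specializes_iff_mem_closure.2 h0))
      have hmem : (ULift.up (p : ℤ) : ULift.{u} ℤ) ∈ (f.base (g.base z)).asIdeal := by
        have e : f.base (g.base z) = (Spec.map (Spec.preimage (g ≫ f))).base z := by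
          rw [Spec.map_preimage]; rfl
        rw [e]
        show (Spec.preimage (g ≫ f)).hom (ULift.up (p : ℤ)) ∈ z.asIdeal
        have h0 : ((Spec.preimage (g ≫ f)).hom.comp ULift.ringEquiv.symm.toRingHom) (p : ℤ) = 0 := by
          rw [RingHom.ext_int ((Spec.preimage (g ≫ f)).hom.comp ULift.ringEquiv.symm.toRingHom) (Int.castRingHom _),
            eq_intCast, Int.cast_natCast, ← map_natCast (algebraMap (Γ(Y, U) ⧸ P) _), CharP.cast_eq_zero, map_zero]
        exact h0.symm ▸ z.asIdeal.zero_mem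
      have h1 := congrArg ULift.down (Ideal.mem_bot.1 (hbot hmem))
      exact hpr.ne_zero (by simpa using h1)
  · haveI : CharZero (Γ(Y, U) ⧸ P) := CharP.charP_to_charZero _
    obtain ⟨b, hb, hab, δ, hδ, F, hF, hFr, heq⟩ := exists_pieceZ (Γ(Y, U) ⧸ P) hdim _ ha'
    obtain ⟨g, hg, hgo, hgne⟩ := build b hb hab
    refine ⟨_, g, hg, hgo, hgne, δ, hδ, fun s => (s - (r : ℂ))⁻¹ * F s, ?_, ?_, ?_, ?_⟩
    · exact fun s hs => ((analyticAt_id.sub analyticAt_const).meromorphicAt.inv).mul (hF s hs).meromorphicAt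
    · intro s hs
      have hne : s - (r : ℂ) ≠ 0 := sub_ne_zero.2 fun h => by rw [h] at hs; simp at hs
      show (s - (r : ℂ))⁻¹ * F s = _
      rw [← heq s hs, inv_mul_cancel_left₀ hne]
    · have hr' : (r : ℝ) - δ < (r : ℂ).re := by simp [hδ]
      rw [meromorphicOrderAt_eq_int_iff (f := fun s => (s - (r : ℂ))⁻¹ * F s)
        (((analyticAt_id.sub analyticAt_const).meromorphicAt.inv).mul (hF _ hr').meromorphicAt)]
      exact ⟨F, hF _ hr', hFr, Eventually.of_forall fun z => by simp [zpow_neg_one, smul_eq_mul]⟩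
    · intro _ s hs hne
      exact (((analyticAt_id.sub analyticAt_const).inv (sub_ne_zero.2 hne)).mul (hF s hs)).meromorphicOrderAt_nonneg

variable {X : Scheme.{u}} (f : X ⟶ Spec (CommRingCat.of (ULift.{u} ℤ))) [LocallyOfFiniteType f] [QuasiCompact f]
  (r : ℕ)

include f in
/-- The complement of an open piece, with the additivity of the logarithms. -/
theorem exists_compl {V : Scheme.{u}} (g : V ⟶ X) [IsImmersion g] (hg : IsOpen (Set.range g.base))
    (hr : topologicalKrullDim X ≤ r) :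
    ∃ (R : Scheme.{u}) (ι : R ⟶ X) (_ : IsClosedImmersion ι), Set.range ι.base = (Set.range g.base)ᶜ ∧
      ∀ s : ℂ, (r : ℝ) < s.re → Lz X s = Lz V s + Lz R s := by
  let S : Closeds X := ⟨(Set.range g.base)ᶜ, hg.isClosed_compl⟩
  let ι := (Scheme.IdealSheafData.vanishingIdeal S).subschemeι
  have hrι : Set.range ι.base = (Set.range g.base)ᶜ :=
    (Scheme.IdealSheafData.range_subschemeι _).trans (Scheme.IdealSheafData.coe_support_vanishingIdeal _)
  refine ⟨_, ι, inferInstance, hrι, fun s hs => ?_⟩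
  let Z : Bool → Scheme.{u} := fun b => bif b then V else (Scheme.IdealSheafData.vanishingIdeal S).subscheme
  let G : ∀ b, Z b ⟶ X := fun b => match b with
    | true => g
    | false => ι
  haveI : ∀ b, IsImmersion (G b) := fun b => match b with
    | true => (inferInstance : IsImmersion g)
    | false => (inferInstance : IsImmersion ι)
  have hpart : ∀ x : X, IsClosed ({x} : Set X) → ∃! b, x ∈ Set.range (G b).base := by
    intro x _
    by_cases hx : x ∈ Set.range g.base
    · refine ⟨true, hx, fun b hb => ?_⟩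
      cases b
      · have hb' : x ∈ Set.range ι.base := hb
        rw [hrι] at hb'
        exact absurd hx hb'
      · rfl
    · refine ⟨false, (show x ∈ Set.range ι.base by rw [hrι]; exact hx), fun b hb => ?_⟩
      cases b
      · rfl
      · exact absurd hb hx
  rw [Lz_partition f r hr G hpart hs, Fintype.sum_bool]
  rfl

include f in
theorem exists_cont (hr : topologicalKrullDim X ≤ r) :
    ∀ (S : Closeds X) (Y : Scheme.{u}) (i : Y ⟶ X) [IsClosedImmersion i], Set.range i.base = (S : Set X) →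
      ∃ n : ℕ, ContPole Y r (-(n : ℤ)) False ∧ (topologicalKrullDim Y = r → 1 ≤ n) := by
  haveI : IsLocallyNoetherian (Spec (CommRingCat.of (ULift.{u} ℤ))) := by
    haveI : IsNoetherianRing (ULift.{u} ℤ) := isNoetherianRing_of_ringEquiv ℤ ULift.ringEquiv.symm
    infer_instance
  haveI : IsLocallyNoetherian X := LocallyOfFiniteType.isLocallyNoetherian f
  haveI : CompactSpace X := QuasiCompact.compactSpace_of_compactSpace f
  haveI : IsNoetherian X := {}
  intro S
  induction S using WellFoundedLT.induction with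
  | _ S ih =>
    intro Y i _ hi
    have hY : topologicalKrullDim Y ≤ r := (i.isEmbedding.isInducing.topologicalKrullDim_le).trans hr
    by_cases hlt : topologicalKrullDim Y < r
    · exact ⟨0, by simpa using ContPole.of_dim_lt (i ≫ f) hlt False, fun h => absurd h hlt.ne⟩
    have heq : topologicalKrullDim Y = r := le_antisymm hY (not_lt.1 hlt)
    obtain ⟨V, g, hg, hgo, hgne, hV⟩ := exists_poleStep (i ≫ f) heq
    haveI := hg
    obtain ⟨R, ι, _, hrι, hadd⟩ := exists_compl (i ≫ f) r g hgo hY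
    let S' : Closeds X := ⟨Set.range (ι ≫ i).base, (ι ≫ i).isClosedEmbedding.isClosed_range⟩
    have hS' : S' < S := by
      refine lt_of_le_of_ne ?_ ?_
      · rintro _ ⟨z, rfl⟩
        show (ι ≫ i).base z ∈ (S : Set X)
        rw [← hi]
        exact ⟨ι.base z, rfl⟩
      · intro h
        obtain ⟨y, hy⟩ := hgne
        have h' : i.base y ∈ (S' : Set X) := by rw [h, ← hi]; exact ⟨y, rfl⟩
        obtain ⟨z, hz⟩ := h'
        have hy' : y ∈ Set.range ι.base := ⟨z, i.isEmbedding.injective hz⟩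
        rw [hrι] at hy'
        exact hy' hy
    obtain ⟨n, hn, -⟩ := ih S' hS' R (ι ≫ i) rfl
    obtain ⟨ε, hε, G, h1, h2, h3, -⟩ := hV
    have hV' : ContPole V r (-1) False := ⟨ε, hε, G, h1, h2, h3, False.elim⟩
    have h := ContPole.mul hadd hV' hn
    refine ⟨n + 1, ?_, fun _ => Nat.le_add_left 1 n⟩
    convert h using 2
    push_cast
    ring

include f in
/-- The continuation with a pole at the dimension. -/
theorem exists_meromorphic_continuation (hr : topologicalKrullDim X = r) :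
    ∃ ε : ℝ, 0 < ε ∧ ∃ g : ℂ → ℂ, MeromorphicOn g {s : ℂ | (r : ℝ) - ε < s.re} ∧
      (∀ s : ℂ, (r : ℝ) < s.re → g s = LSeries (Zeta.arithCoeff X) s) ∧
      meromorphicOrderAt g (r : ℂ) < 0 := by
  obtain ⟨n, ⟨ε, hε, g, h1, h2, h3, -⟩, hn⟩ := exists_cont f r hr.le ⊤ X (𝟙 X) (by simp)
  refine ⟨ε, hε, g, h1, fun s hs => (h2 s hs).trans (LSeries_eq_exp_Lz f r hr.le hs).symm, ?_⟩
  rw [h3]
  have := hn hr
  exact_mod_cast (by omega : -(n : ℤ) < 0)

include f in
/-- The continuation of a dominant irreducible scheme with a single simple pole. -/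
theorem exists_simple_pole (hr : topologicalKrullDim X = r) [IrreducibleSpace X]
    (hdom : ∃ x : X, closure ({f.base x} : Set ↥(Spec (CommRingCat.of (ULift.{u} ℤ)))) = Set.univ) :
    ∃ ε : ℝ, 0 < ε ∧ ∃ g : ℂ → ℂ, MeromorphicOn g {s : ℂ | (r : ℝ) - ε < s.re} ∧
      (∀ s : ℂ, (r : ℝ) < s.re → g s = LSeries (Zeta.arithCoeff X) s) ∧
      meromorphicOrderAt g (r : ℂ) = -1 ∧
      ∀ s : ℂ, (r : ℝ) - ε < s.re → s ≠ (r : ℂ) → 0 ≤ meromorphicOrderAt g s := by
  obtain ⟨V, g, hg, hgo, hgne, hV⟩ := exists_poleStep f hr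
  haveI := hg
  obtain ⟨R, ι, _, hrι, hadd⟩ := exists_compl f r g hgo hr.le
  have hdimR : topologicalKrullDim R < r := by
    refine lt_of_eq_of_lt (IsHomeomorph.topologicalKrullDim_eq _ ι.isEmbedding.toHomeomorph.isHomeomorph) ?_
    rw [hrι]
    refine dim_lt_of_subset hr _ hgo.isClosed_compl fun W hW _ hsub => ?_
    obtain ⟨y, hy⟩ := hgne
    rw [irreducibleComponents_eq_singleton, Set.mem_singleton_iff] at hW
    exact hsub (hW ▸ Set.mem_univ y) hy
  obtain ⟨ε, hε, G, h1, h2, h3, h4⟩ := ContPole.mul hadd hV (ContPole.of_dim_lt (ι ≫ f) hdimR _)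
  refine ⟨ε, hε, G, h1, fun s hs => (h2 s hs).trans (LSeries_eq_exp_Lz f r hr.le hs).symm, ?_,
    h4 ⟨inferInstance, hdom⟩⟩
  rw [h3]
  rfl

end LWQual
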